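import Mathlib
import Cfsg.Prelude.Def_CaseTheorems

/-!
# Six involutions in a hexagon generate a perfect group with a subgroup of index at most 7

`Hex z1 .. z6`: involutions, consecutive ones commute, `z (i+1)` is the commutator of `z i` and `z (i+2)`
(indices modulo 6): the Steinberg relations of type `A₂` over the field with two elements.
-/

set_option autoImplicit false
set_option linter.unusedSimpArgs false
set_option linter.unusedSectionVars false

namespace Cfsg.Agent.Classification.RTwo.EndWRHex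

variable {G : Type*} [Group G]

structure Hex (z1 z2 z3 z4 z5 z6 : G) : Prop where
  s1 : z1 * z1 = 1
  s2 : z2 * z2 = 1
  s3 : z3 * z3 = 1
  s4 : z4 * z4 = 1
  s5 : z5 * z5 = 1
  s6 : z6 * z6 = 1
  c12 : z1 * z2 = z2 * z1
  c23 : z2 * z3 = z3 * z2
  c34 : z3 * z4 = z4 * z3
  c45 : z4 * z5 = z5 * z4
  c56 : z5 * z6 = z6 * z5
  c61 : z6 * z1 = z1 * z6
  n13 : z1 * z3 * (z1 * z3) = z2
  n24 : z2 * z4 * (z2 * z4) = z3
  n35 : z3 * z5 * (z3 * z5) = z4
  n46 : z4 * z6 * (z4 * z6) = z5
  n51 : z5 * z1 * (z5 * z1) = z6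
  n62 : z6 * z2 * (z6 * z2) = z1

variable {z1 z2 z3 z4 z5 z6 : G}

/-- `a b = b a c` when `a, b` are involutions and `(ab)² = c` commutes with them -/
theorem swap {a b c : G} (ha : a * a = 1) (hb : b * b = 1) (hab : a * b * (a * b) = c) :
    a * b = b * a * c := by
  have h1 : (a * b)⁻¹ = b * a := by
    rw [mul_inv_rev, inv_eq_of_mul_eq_one_right ha, inv_eq_of_mul_eq_one_right hb]
  have h2 : b * a * (a * b * (a * b)) = a * b := by
    rw [← h1, inv_mul_cancel_left]
  rw [← hab, h2]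

/-- `b a = a b c` when `a, b` are involutions and `(ab)² = c` is an involution -/
theorem swap' {a b c : G} (ha : a * a = 1) (hb : b * b = 1) (hab : a * b * (a * b) = c) (hc : c * c = 1) :
    b * a = a * b * c := by
  have h1 : (a * b)⁻¹ = b * a := by
    rw [mul_inv_rev, inv_eq_of_mul_eq_one_right ha, inv_eq_of_mul_eq_one_right hb]
  have h3 : c⁻¹ = c := inv_eq_of_mul_eq_one_right hc
  rw [← h1, ← h3, ← hab]
  group

theorem Hex.rot (h : Hex z1 z2 z3 z4 z5 z6) : Hex z2 z3 z4 z5 z6 z1 where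
  s1 := h.s2
  s2 := h.s3
  s3 := h.s4
  s4 := h.s5
  s5 := h.s6
  s6 := h.s1
  c12 := h.c23
  c23 := h.c34
  c34 := h.c45
  c45 := h.c56
  c56 := h.c61
  c61 := h.c12
  n13 := h.n24
  n24 := h.n35
  n35 := h.n46
  n46 := h.n51
  n51 := h.n62
  n62 := h.n13

theorem inv_eq {a : G} (h : a * a = 1) : a⁻¹ = a := inv_eq_of_mul_eq_one_right h

/-- `(z₁ z₄)³ = 1` -/
theorem Hex.braid14 (h : Hex z1 z2 z3 z4 z5 z6) : z1 * z4 * z1 = z4 * z1 * z4 := by
  -- conjugation by `w = z1 z4 z1`
  have e6 : z1 * z4 * z1 * z6 * (z1 * z4 * z1)⁻¹ = z5 := by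
    have h1 : z1 * z6 * z1⁻¹ = z6 := by rw [← h.c61, mul_inv_cancel_right]
    have h2 : z4 * z6 * z4⁻¹ = z5 * z6 := by
      have := h.n46
      rw [← this, inv_eq h.s4]
      have h6 := h.s6
      calc z4 * z6 * z4 = z4 * z6 * z4 * (z6 * z6) := by rw [h6, mul_one]
        _ = z4 * z6 * (z4 * z6) * z6 := by group
    have h3 : z1 * (z5 * z6) * z1⁻¹ = z5 := by
      have e1 : z1 * z5 = z5 * z1 * z6 := swap' h.s5 h.s1 h.n51 h.s6
      rw [← mul_assoc, e1]
      have : z5 * z1 * z6 * z6 * z1⁻¹ = z5 * z1 * (z6 * z6) * z1⁻¹ := by group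
      rw [this, h.s6]; group
    have : z1 * z4 * z1 * z6 * (z1 * z4 * z1)⁻¹ = z1 * (z4 * (z1 * z6 * z1⁻¹) * z4⁻¹) * z1⁻¹ := by group
    rw [this, h1, h2, h3]
  have e2 : z1 * z4 * z1 * z2 * (z1 * z4 * z1)⁻¹ = z3 := by
    have h1 : z1 * z2 * z1⁻¹ = z2 := by rw [h.c12, mul_inv_cancel_right]
    have h2 : z4 * z2 * z4⁻¹ = z2 * z3 := by
      have e1 : z4 * z2 = z2 * z4 * z3 := swap' h.s2 h.s4 h.n24 h.s3
      rw [e1, mul_assoc z2, ← h.c34]; group
    have h3 : z1 * (z2 * z3) * z1⁻¹ = z3 := by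
      have e1 : z1 * z3 = z3 * z1 * z2 := swap h.s1 h.s3 h.n13
      have : z1 * (z2 * z3) * z1⁻¹ = z1 * z2 * z3 * z1⁻¹ := by group
      rw [this, h.c12]
      have : z2 * z1 * z3 * z1⁻¹ = z2 * (z1 * z3) * z1⁻¹ := by group
      rw [this, e1]
      have : z2 * (z3 * z1 * z2) * z1⁻¹ = z2 * z3 * (z1 * z2) * z1⁻¹ := by group
      rw [this, h.c12, h.c23]
      have : z3 * z2 * (z2 * z1) * z1⁻¹ = z3 * (z2 * z2) := by group
      rw [this, h.s2, mul_one]
    have : z1 * z4 * z1 * z2 * (z1 * z4 * z1)⁻¹ = z1 * (z4 * (z1 * z2 * z1⁻¹) * z4⁻¹) * z1⁻¹ := by group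
    rw [this, h1, h2, h3]
  have e1 : z1 * z4 * z1 * z1 * (z1 * z4 * z1)⁻¹ = z4 := by
    have h1 : z1 * z4 * z1 * z1 * (z1 * z4 * z1)⁻¹ =
        z1 * z4 * z1 * z6 * (z1 * z4 * z1)⁻¹ * (z1 * z4 * z1 * z2 * (z1 * z4 * z1)⁻¹) *
          (z1 * z4 * z1 * z6 * (z1 * z4 * z1)⁻¹ * (z1 * z4 * z1 * z2 * (z1 * z4 * z1)⁻¹)) := by
      conv_lhs => rw [show z1 * z4 * z1 * z1 = z1 * z4 * z1 * (z6 * z2 * (z6 * z2)) by rw [h.n62]]
      group
    rw [h1, e6, e2]
    have h2 := h.n35
    have h3 : (z5 * z3 * (z5 * z3)) = (z3 * z5 * (z3 * z5))⁻¹ := by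
      have : (z3 * z5 * (z3 * z5))⁻¹ = z5⁻¹ * z3⁻¹ * (z5⁻¹ * z3⁻¹) := by group
      rw [this, inv_eq h.s5, inv_eq h.s3]
    rw [h3, h2, inv_eq h.s4]
  have h4 : (z1 * z4 * z1)⁻¹ = z1 * z4 * z1 := by
    have : (z1 * z4 * z1)⁻¹ = z1⁻¹ * z4⁻¹ * z1⁻¹ := by group
    rw [this, inv_eq h.s1, inv_eq h.s4]
  rw [h4] at e1
  have h5 : z1 * z4 * z1 * z1 * (z1 * z4 * z1) = z1 * z4 * (z1 * z1) * z1 * z4 * z1 := by group
  rw [h5, h.s1, mul_one] at e1
  -- z1 z4 z1 z4 z1 = z4
  calc z1 * z4 * z1 = z1 * z4 * z1 * z4 * z1 * (z1⁻¹ * z4⁻¹) := by group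
    _ = z4 * (z1⁻¹ * z4⁻¹) := by rw [e1]
    _ = z4 * z1 * z4 := by rw [inv_eq h.s1, inv_eq h.s4, mul_assoc]

/-- the six products needed -/
structure Prods (z1 z2 z3 z4 z5 z6 : G) : Prop where
  a15 : z1 * z5 = z5 * z6 * z1
  a13 : z1 * z3 = z3 * z1 * z2
  a26 : z2 * z6 = z6 * z2 * z1
  a46 : z4 * z6 = z5 * z6 * z4
  a42 : z4 * z2 = z2 * z4 * z3
  a35 : z3 * z5 = z5 * z3 * z4
  a53 : z5 * z3 = z3 * z5 * z4
  a525 : z5 * z2 * z5 = z2 * z5 * z2

theorem Hex.prods (h : Hex z1 z2 z3 z4 z5 z6) : Prods z1 z2 z3 z4 z5 z6 where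
  a15 := by
    have e1 : z1 * z5 = z5 * z1 * z6 := swap' h.s5 h.s1 h.n51 h.s6
    rw [e1, mul_assoc, ← h.c61, ← mul_assoc]
  a13 := swap h.s1 h.s3 h.n13
  a26 := swap' h.s6 h.s2 h.n62 h.s1
  a46 := by
    have e1 : z4 * z6 = z6 * z4 * z5 := swap h.s4 h.s6 h.n46
    rw [e1, mul_assoc, h.c45, ← mul_assoc, h.c56]
  a42 := swap' h.s2 h.s4 h.n24 h.s3
  a35 := swap h.s3 h.s5 h.n35
  a53 := swap' h.s3 h.s5 h.n35 h.s4
  a525 := h.rot.braid14.symm

/-- The seven points. -/
def pts {Ω : Type*} [MulAction G Ω] (z2 z3 z5 z6 : G) (o : Ω) : Set Ω :=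
  {o, z5 • o, z6 • o, (z5 * z6) • o, (z2 * z5) • o, (z3 * z6) • o, (z2 * z5 * z6) • o}

section act

variable {Ω : Type*} [MulAction G Ω] {o : Ω}

theorem Hex.smul_pts (h : Hex z1 z2 z3 z4 z5 z6) (f1 : z1 • o = o) (f2 : z2 • o = o) (f3 : z3 • o = o)
    (f4 : z4 • o = o) {s : G} (hs : s = z1 ∨ s = z2 ∨ s = z4 ∨ s = z5) {p : Ω} (hp : p ∈ pts z2 z3 z5 z6 o) :
    s • p ∈ pts z2 z3 z5 z6 o := by
  have H := h.prods
  have q0 : o ∈ pts z2 z3 z5 z6 o := by simp [pts]
  have q1 : z5 • o ∈ pts z2 z3 z5 z6 o := by simp [pts]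
  have q2 : z6 • o ∈ pts z2 z3 z5 z6 o := by simp [pts]
  have q3 : (z5 * z6) • o ∈ pts z2 z3 z5 z6 o := by simp [pts]
  have q4 : (z2 * z5) • o ∈ pts z2 z3 z5 z6 o := by simp [pts]
  have q5 : (z3 * z6) • o ∈ pts z2 z3 z5 z6 o := by simp [pts]
  have q6 : (z2 * z5 * z6) • o ∈ pts z2 z3 z5 z6 o := by simp [pts]
  -- useful products
  have m56 : ∀ x : G, z5 * (z5 * x) = x := fun x => by rw [← mul_assoc, h.s5, one_mul]
  have m22 : ∀ x : G, z2 * (z2 * x) = x := fun x => by rw [← mul_assoc, h.s2, one_mul]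
  have b46 : z4 * (z5 * z6) = z6 * z4 := by
    rw [← mul_assoc, h.c45, mul_assoc, H.a46, mul_assoc z5 z6 z4, m56]
  have b425 : z4 * (z2 * z5) = z2 * z5 * z3 := by
    calc z4 * (z2 * z5) = z4 * z2 * z5 := (mul_assoc _ _ _).symm
      _ = z2 * z4 * (z3 * z5) := by rw [H.a42]; group
      _ = z2 * (z4 * z5) * z3 * z4 := by rw [H.a35]; group
      _ = z2 * z5 * (z4 * z3) * z4 := by rw [h.c45]; group
      _ = z2 * z5 * z3 * (z4 * z4) := by rw [← h.c34]; group
      _ = z2 * z5 * z3 := by rw [h.s4, mul_one]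
  have b4256 : z4 * (z2 * z5 * z6) = z3 * z6 * z2 * z1 * z4 := by
    calc z4 * (z2 * z5 * z6) = z4 * (z2 * z5) * z6 := (mul_assoc _ _ _).symm
      _ = z2 * (z5 * z3) * z6 := by rw [b425]; group
      _ = z2 * z3 * z5 * (z4 * z6) := by rw [H.a53]; group
      _ = z2 * z3 * (z5 * z5) * z6 * z4 := by rw [H.a46]; group
      _ = z3 * (z2 * z6) * z4 := by rw [h.s5, h.c23]; group
      _ = z3 * z6 * z2 * z1 * z4 := by rw [H.a26]; group
  have t4256 : z4 • ((z2 * z5 * z6) • o) = (z3 * z6) • o := by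
    rw [← mul_smul, b4256, mul_smul, f4, mul_smul, f1, mul_smul, f2]
  simp only [pts, Set.mem_insert_iff, Set.mem_singleton_iff] at hp
  rcases hs with rfl | rfl | rfl | rfl
  · -- s = z1
    rcases hp with rfl | rfl | rfl | rfl | rfl | rfl | rfl
    · rwa [f1]
    · rw [← mul_smul, H.a15, mul_smul, f1]; exact q3
    · rw [← mul_smul, ← h.c61, mul_smul, f1]; exact q2
    · have e : s * (z5 * z6) = z5 * s := by
        rw [← mul_assoc, H.a15, mul_assoc, ← h.c61, mul_assoc, ← mul_assoc z6 z6, h.s6, one_mul]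
      rw [← mul_smul, e, mul_smul, f1]; exact q1
    · have e : s * (z2 * z5) = z2 * z5 * z6 * s := by
        rw [← mul_assoc, h.c12, mul_assoc, H.a15]; group
      rw [← mul_smul, e, mul_smul, f1]; exact q6
    · have e : s * (z3 * z6) = z3 * z6 * z2 := by
        calc s * (z3 * z6) = s * z3 * z6 := (mul_assoc _ _ _).symm
          _ = z3 * s * (z2 * z6) := by rw [H.a13]; group
          _ = z3 * (s * z6) * z2 * s := by rw [H.a26]; group
          _ = z3 * z6 * (s * z2) * s := by rw [← h.c61]; group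
          _ = z3 * z6 * z2 * (s * s) := by rw [h.c12]; group
          _ = z3 * z6 * z2 := by rw [h.s1, mul_one]
      rw [← mul_smul, e, mul_smul, f2]; exact q5
    · have e : s * (z2 * z5 * z6) = z2 * z5 * s := by
        calc s * (z2 * z5 * z6) = s * z2 * z5 * z6 := by group
          _ = z2 * (s * z5) * z6 := by rw [h.c12]; group
          _ = z2 * z5 * z6 * (s * z6) := by rw [H.a15]; group
          _ = z2 * z5 * (z6 * z6) * s := by rw [← h.c61]; group
          _ = z2 * z5 * s := by rw [h.s6, mul_one]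
      rw [← mul_smul, e, mul_smul, f1]; exact q4
  · -- s = z2
    rcases hp with rfl | rfl | rfl | rfl | rfl | rfl | rfl
    · rwa [f2]
    · rw [← mul_smul]; exact q4
    · rw [← mul_smul, H.a26, mul_smul, f1, mul_smul, f2]; exact q2
    · rw [← mul_smul, ← mul_assoc]; exact q6
    · rw [← mul_smul, m22]; exact q1
    · have e : s * (z3 * z6) = z3 * z6 * s * z1 := by
        rw [← mul_assoc, h.c23, mul_assoc, H.a26]; group
      rw [← mul_smul, e, mul_smul, f1, mul_smul, f2]; exact q5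
    · rw [← mul_smul, mul_assoc s z5 z6, m22]; exact q3
  · -- s = z4
    rcases hp with rfl | rfl | rfl | rfl | rfl | rfl | rfl
    · rwa [f4]
    · rw [← mul_smul, h.c45, mul_smul, f4]; exact q1
    · rw [← mul_smul, H.a46, mul_smul, f4]; exact q3
    · rw [← mul_smul, b46, mul_smul, f4]; exact q2
    · rw [← mul_smul, b425, mul_smul, f3]; exact q4
    · rw [← t4256, ← mul_smul, h.s4, one_smul]; exact q6
    · rw [t4256]; exact q5
  · -- s = z5
    rcases hp with rfl | rfl | rfl | rfl | rfl | rfl | rfl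
    · exact q1
    · rw [← mul_smul, h.s5, one_smul]; exact q0
    · rw [← mul_smul]; exact q3
    · rw [← mul_smul, m56]; exact q2
    · rw [← mul_smul, ← mul_assoc, H.a525, mul_smul, f2]; exact q4
    · have e : s * (z3 * z6) = z3 * z6 * z4 := by
        calc s * (z3 * z6) = s * z3 * z6 := (mul_assoc _ _ _).symm
          _ = z3 * s * (z4 * z6) := by rw [H.a53]; group
          _ = z3 * (s * s) * z6 * z4 := by rw [H.a46]; group
          _ = z3 * z6 * z4 := by rw [h.s5, mul_one]
      rw [← mul_smul, e, mul_smul, f4]; exact q5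
    · have e : s * (z2 * s * z6) = z2 * s * z6 * z2 * z1 := by
        calc s * (z2 * s * z6) = s * z2 * s * z6 := by group
          _ = z2 * s * (z2 * z6) := by rw [H.a525]; group
          _ = z2 * s * z6 * z2 * z1 := by rw [H.a26]; group
      rw [← mul_smul, e, mul_smul, f1, mul_smul, f2]; exact q6

end act

theorem Hex.mem_pts {Ω : Type*} [MulAction G Ω] {o : Ω} (h : Hex z1 z2 z3 z4 z5 z6)
    (hgen : Subgroup.closure ({z1, z2, z3, z4, z5, z6} : Set G) = ⊤)
    (f1 : z1 • o = o) (f2 : z2 • o = o) (f3 : z3 • o = o) (f4 : z4 • o = o) (g : G) :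
    g • o ∈ pts z2 z3 z5 z6 o := by
  have hgen' : Subgroup.closure ({z1, z2, z4, z5} : Set G) = ⊤ := by
    rw [eq_top_iff, ← hgen, Subgroup.closure_le]
    have m1 : z1 ∈ Subgroup.closure ({z1, z2, z4, z5} : Set G) := Subgroup.subset_closure (by simp)
    have m2 : z2 ∈ Subgroup.closure ({z1, z2, z4, z5} : Set G) := Subgroup.subset_closure (by simp)
    have m4 : z4 ∈ Subgroup.closure ({z1, z2, z4, z5} : Set G) := Subgroup.subset_closure (by simp)
    have m5 : z5 ∈ Subgroup.closure ({z1, z2, z4, z5} : Set G) := Subgroup.subset_closure (by simp)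
    rintro x (rfl | rfl | rfl | rfl | rfl | rfl)
    · exact m1
    · exact m2
    · rw [← h.n24]; exact mul_mem (mul_mem m2 m4) (mul_mem m2 m4)
    · exact m4
    · exact m5
    · rw [← h.n51]; exact mul_mem (mul_mem m5 m1) (mul_mem m5 m1)
  have hg : g ∈ Subgroup.closure ({z1, z2, z4, z5} : Set G) := by rw [hgen']; trivial
  have key : ∀ x ∈ Subgroup.closure ({z1, z2, z4, z5} : Set G), ∀ p ∈ pts z2 z3 z5 z6 o,
      x • p ∈ pts z2 z3 z5 z6 o := by
    intro x hx
    induction hx using Subgroup.closure_induction'' with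
    | mem x hx =>
      intro p hp
      exact h.smul_pts f1 f2 f3 f4 (by simpa using hx) hp
    | inv_mem x hx =>
      intro p hp
      have e : x⁻¹ = x := by
        rcases hx with rfl | rfl | rfl | rfl
        · exact inv_eq h.s1
        · exact inv_eq h.s2
        · exact inv_eq h.s4
        · exact inv_eq h.s5
      rw [e]
      exact h.smul_pts f1 f2 f3 f4 (by simpa using hx) hp
    | one => intro p hp; rwa [one_smul]
    | mul x y _ _ hx hy => intro p hp; rw [mul_smul]; exact hx _ (hy p hp)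
  exact key g hg o (by simp [pts])

/-- A finite simple group of order more than 5040 is not generated by a hexagon. -/
theorem Hex.false [Finite G] [IsSimpleGroup G] (h : Hex z1 z2 z3 z4 z5 z6)
    (hgen : Subgroup.closure ({z1, z2, z3, z4, z5, z6} : Set G) = ⊤) (h2 : z2 ≠ 1)
    (hcard : 5040 < Nat.card G) : False := by
  classical
  set Q : Subgroup G := Subgroup.closure {z1, z2, z3, z4} with hQ
  have m1 : z1 ∈ Q := Subgroup.subset_closure (by simp)
  have m2 : z2 ∈ Q := Subgroup.subset_closure (by simp)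
  have m3 : z3 ∈ Q := Subgroup.subset_closure (by simp)
  have m4 : z4 ∈ Q := Subgroup.subset_closure (by simp)
  have fx : ∀ x ∈ Q, x • ((1 : G) : G ⧸ Q) = ((1 : G) : G ⧸ Q) := by
    intro x hx
    rw [MulAction.Quotient.smul_coe, smul_eq_mul, mul_one]
    exact QuotientGroup.eq.2 (by simpa using Q.inv_mem hx)
  have hle : Nat.card (G ⧸ Q) ≤ 7 := by
    have h1 : (Set.univ : Set (G ⧸ Q)) ⊆ pts z2 z3 z5 z6 ((1 : G) : G ⧸ Q) := by
      intro p _
      obtain ⟨g, rfl⟩ := QuotientGroup.mk_surjective p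
      have := h.mem_pts hgen (fx _ m1) (fx _ m2) (fx _ m3) (fx _ m4) g
      rwa [MulAction.Quotient.smul_coe, smul_eq_mul, mul_one] at this
    have h2 : (pts z2 z3 z5 z6 ((1 : G) : G ⧸ Q)).ncard ≤ 7 := by
      unfold pts
      refine (Set.ncard_insert_le _ _).trans ?_
      refine Nat.succ_le_succ ((Set.ncard_insert_le _ _).trans ?_)
      refine Nat.succ_le_succ ((Set.ncard_insert_le _ _).trans ?_)
      refine Nat.succ_le_succ ((Set.ncard_insert_le _ _).trans ?_)
      refine Nat.succ_le_succ ((Set.ncard_insert_le _ _).trans ?_)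
      refine Nat.succ_le_succ ((Set.ncard_insert_le _ _).trans ?_)
      rw [Set.ncard_singleton]
    calc Nat.card (G ⧸ Q) = (Set.univ : Set (G ⧸ Q)).ncard := (Set.ncard_univ _).symm
      _ ≤ (pts z2 z3 z5 z6 ((1 : G) : G ⧸ Q)).ncard := Set.ncard_le_ncard h1 (Set.toFinite _)
      _ ≤ 7 := h2
  by_cases hQt : Q = ⊤
  · -- `⟨z2, z3⟩` would be normal
    set K : Subgroup G := Subgroup.closure {z2, z3} with hK
    have k2 : z2 ∈ K := Subgroup.subset_closure (by simp)
    have k3 : z3 ∈ K := Subgroup.subset_closure (by simp)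
    have hnorm : ∀ x ∈ ({z1, z2, z3, z4} : Set G), x * z2 * x⁻¹ ∈ K ∧ x * z3 * x⁻¹ ∈ K := by
      rintro x (rfl | rfl | rfl | rfl)
      · constructor
        · rw [h.c12, mul_inv_cancel_right]; exact k2
        · rw [h.prods.a13, inv_eq h.s1]
          have : z3 * x * z2 * x = z3 * (x * z2) * x := by group
          rw [this, h.c12]
          have : z3 * (z2 * x) * x = z3 * z2 * (x * x) := by group
          rw [this, h.s1, mul_one]; exact mul_mem k3 k2
      · exact ⟨by rw [mul_inv_cancel_right]; exact k2, by rw [h.c23, mul_inv_cancel_right]; exact k3⟩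
      · exact ⟨by rw [← h.c23, mul_inv_cancel_right]; exact k2, by rw [mul_inv_cancel_right]; exact k3⟩
      · constructor
        · rw [h.prods.a42, inv_eq h.s4]
          have : z2 * x * z3 * x = z2 * (x * z3) * x := by group
          rw [this, ← h.c34]
          have : z2 * (z3 * x) * x = z2 * z3 * (x * x) := by group
          rw [this, h.s4, mul_one]; exact mul_mem k2 k3
        · rw [← h.c34, mul_inv_cancel_right]; exact k3
    have hinv : ∀ x ∈ ({z1, z2, z3, z4} : Set G), x⁻¹ = x := by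
      rintro x (rfl | rfl | rfl | rfl)
      · exact inv_eq h.s1
      · exact inv_eq h.s2
      · exact inv_eq h.s3
      · exact inv_eq h.s4
    have hc : ∀ x ∈ ({z1, z2, z3, z4} : Set G), ∀ k ∈ K, x * k * x⁻¹ ∈ K := by
      intro x hx k hk
      induction hk using Subgroup.closure_induction with
      | mem y hy =>
        rcases hy with rfl | rfl
        · exact (hnorm x hx).1
        · exact (hnorm x hx).2
      | one => simp
      | mul a b _ _ ha hb =>
        have : x * (a * b) * x⁻¹ = (x * a * x⁻¹) * (x * b * x⁻¹) := by group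
        rw [this]; exact mul_mem ha hb
      | inv a _ ha =>
        have : x * a⁻¹ * x⁻¹ = (x * a * x⁻¹)⁻¹ := by group
        rw [this]; exact inv_mem ha
    have hQN : Q ≤ Subgroup.normalizer (K : Set G) := by
      rw [hQ, Subgroup.closure_le]
      intro x hx
      rw [SetLike.mem_coe, Subgroup.mem_normalizer_iff]
      intro k
      refine ⟨hc x hx k, fun hk => ?_⟩
      have h1 := hc x hx _ hk
      rw [hinv x hx] at h1
      have h2 : x * (x * k * x) * x = k := by
        have hxx : x * x = 1 := by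
          have := inv_mul_cancel x
          rwa [hinv x hx] at this
        calc x * (x * k * x) * x = (x * x) * k * (x * x) := by group
          _ = k := by rw [hxx, one_mul, mul_one]
      rwa [h2] at h1
    have hKn : K.Normal := by
      rw [← Subgroup.normalizer_eq_top_iff, eq_top_iff, ← hQt]
      exact hQN
    have hcomm : ∀ x ∈ K, ∀ y ∈ K, x * y = y * x := by
      have h23 : ∀ x ∈ ({z2, z3} : Set G), ∀ y ∈ ({z2, z3} : Set G), x * y = y * x := by
        rintro x (rfl | rfl) y (rfl | rfl)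
        · rfl
        · exact h.c23
        · exact h.c23.symm
        · rfl
      intro x hx y hy
      have h1 : x ∈ Subgroup.centralizer ({z2, z3} : Set G) := by
        refine (Subgroup.closure_le _).2 ?_ hx
        intro a ha
        rw [SetLike.mem_coe, Subgroup.mem_centralizer_iff]
        intro b hb
        exact h23 b hb a ha
      have h2 : Subgroup.closure ({z2, z3} : Set G) ≤ Subgroup.centralizer {x} := by
        rw [Subgroup.closure_le]
        intro a ha
        rw [SetLike.mem_coe, Subgroup.mem_centralizer_singleton_iff]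
        exact Subgroup.mem_centralizer_iff.1 h1 a ha
      have h3 := Subgroup.mem_centralizer_singleton_iff.1 (h2 hy)
      exact h3.symm
    rcases hKn.eq_bot_or_eq_top with hb | ht
    · rw [hb, Subgroup.mem_bot] at k2
      exact h2 k2
    · -- `G = {1, z2, z3, z2 z3}`
      have hfour : ∀ x ∈ K, x = 1 ∨ x = z2 ∨ x = z3 ∨ x = z2 * z3 := by
        intro x hx
        induction hx using Subgroup.closure_induction'' with
        | mem y hy =>
          rcases hy with rfl | rfl
          · exact Or.inr (Or.inl rfl)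
          · exact Or.inr (Or.inr (Or.inl rfl))
        | inv_mem y hy =>
          rcases hy with rfl | rfl
          · exact Or.inr (Or.inl (inv_eq h.s2))
          · exact Or.inr (Or.inr (Or.inl (inv_eq h.s3)))
        | one => exact Or.inl rfl
        | mul a b _ _ ha hb =>
          have e1 : z2 * z3 * z2 = z3 := by rw [mul_assoc, ← h.c23, ← mul_assoc, h.s2, one_mul]
          have e2 : z2 * z3 * z3 = z2 := by rw [mul_assoc, h.s3, mul_one]
          have e3 : z2 * (z2 * z3) = z3 := by rw [← mul_assoc, h.s2, one_mul]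
          have e4 : z3 * (z2 * z3) = z2 := by rw [h.c23, ← mul_assoc, h.s3, one_mul]
          have e5 : z2 * z3 * (z2 * z3) = 1 := by rw [← mul_assoc, e1, h.s3]
          rcases ha with rfl | rfl | rfl | rfl <;> rcases hb with rfl | rfl | rfl | rfl <;>
            simp [h.s2, h.s3, h.c23.symm, e1, e2, e3, e4, e5]
      have hsub : (Set.univ : Set G) ⊆ {1, z2, z3, z2 * z3} := by
        intro x _
        have : x ∈ K := by rw [ht]; trivial
        simpa using hfour x this
      have h4 : Nat.card G ≤ 4 := by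
        calc Nat.card G = (Set.univ : Set G).ncard := (Set.ncard_univ _).symm
          _ ≤ ({1, z2, z3, z2 * z3} : Set G).ncard := Set.ncard_le_ncard hsub (Set.toFinite _)
          _ ≤ 4 := by
            refine (Set.ncard_insert_le _ _).trans ?_
            refine Nat.succ_le_succ ((Set.ncard_insert_le _ _).trans ?_)
            refine Nat.succ_le_succ ((Set.ncard_insert_le _ _).trans ?_)
            rw [Set.ncard_singleton]
      omega
  · -- faithful action on at most 7 points
    have hker : (MulAction.toPermHom G (G ⧸ Q)).ker = ⊥ := by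
      rcases (inferInstance : (MulAction.toPermHom G (G ⧸ Q)).ker.Normal).eq_bot_or_eq_top with hb | ht
      · exact hb
      · exfalso
        apply hQt
        rw [eq_top_iff]
        intro x _
        have hx : x ∈ (MulAction.toPermHom G (G ⧸ Q)).ker := by rw [ht]; trivial
        rw [MonoidHom.mem_ker] at hx
        have h1 := congrArg (fun σ : Equiv.Perm (G ⧸ Q) => σ ((1 : G) : G ⧸ Q)) hx
        simp only [MulAction.toPermHom_apply, MulAction.toPerm_apply, Equiv.Perm.one_apply,
          MulAction.Quotient.smul_coe, smul_eq_mul, mul_one] at h1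
        have h2 := QuotientGroup.eq.1 h1.symm
        simpa using h2
    have hinj : Function.Injective (MulAction.toPermHom G (G ⧸ Q)) :=
      (MonoidHom.ker_eq_bot_iff _).1 hker
    have h1 : Nat.card G ≤ Nat.card (Equiv.Perm (G ⧸ Q)) := Nat.card_le_card_of_injective _ hinj
    rw [Nat.card_perm] at h1
    have h3 : (Nat.card (G ⧸ Q)).factorial ≤ (7).factorial := Nat.factorial_le hle
    have h4 : (7).factorial = 5040 := by decide
    omega

end Cfsg.Agent.Classification.RTwo.EndWRHex
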