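import Mathlib
import Cfsg.Prelude.Def_CaseTheorems
import Cfsg.Agent.Classification.RTwo.EndWRHex

/-!
# The commuting graph of the involutions, centralizer of type `GU₂(3)`

Local facts `Loc` on the centralizers of the involutions; if there are 63 involutions then there is a hexagon.
-/

set_option autoImplicit false
set_option linter.unusedSimpArgs false
set_option linter.unusedSectionVars false

namespace Cfsg.Agent.Classification.RTwo.EndWRGraph

open Cfsg.Agent.Classification.RTwo.EndWRHex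

variable {G : Type*} [Group G]

/-- Facts on the centralizers of involutions (as in `PSU₃(3)`). -/
structure LocBase (G : Type*) [Group G] [Finite G] : Prop where
  card : ∀ t : G, orderOf t = 2 → Nat.card (Subgroup.centralizer ({t} : Set G)) = 96
  seven : ∀ t : G, orderOf t = 2 → {x : G | orderOf x = 2 ∧ Commute x t}.ncard = 7
  nc : ∀ t a b : G, orderOf t = 2 → orderOf a = 2 → orderOf b = 2 → Commute a t → Commute b t →
    ¬ Commute a b → a * b * (a * b) = t
  cm : ∀ t a b : G, orderOf t = 2 → orderOf a = 2 → orderOf b = 2 → Commute a t → Commute b t →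
    Commute a b → a ≠ t → b ≠ t → b = a ∨ b = t * a
  three : ∀ t a g : G, orderOf t = 2 → orderOf a = 2 → orderOf g = 3 → Commute a t → Commute g t → a ≠ t →
    ¬ Commute g a

/-- The same with 63 involutions. -/
structure Loc (G : Type*) [Group G] [Finite G] : Prop extends LocBase G where
  total : {x : G | orderOf x = 2}.ncard = 63

theorem mul_self_of_orderOf {x : G} (h : orderOf x = 2) : x * x = 1 := by
  rw [← sq, ← h, pow_orderOf_eq_one]

theorem ne_one_of_orderOf {x : G} (h : orderOf x = 2) : x ≠ 1 := by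
  rintro rfl
  rw [orderOf_one] at h
  omega

theorem orderOf_of {x : G} (h : x * x = 1) (h1 : x ≠ 1) : orderOf x = 2 :=
  orderOf_eq_prime (by rw [sq, h]) h1

section

variable [Fintype G] [DecidableEq G]

open Classical in
/-- involutions commuting with `t` -/
noncomputable def N (t : G) : Finset G := Finset.univ.filter fun x => orderOf x = 2 ∧ Commute x t

theorem mem_N {t x : G} : x ∈ N t ↔ orderOf x = 2 ∧ Commute x t := by
  simp [N]

/-- involutions at distance at most 2 from `t` -/
noncomputable def D (t : G) : Finset G := (N t).biUnion N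

theorem mem_D {t x : G} : x ∈ D t ↔ ∃ a, a ∈ N t ∧ x ∈ N a := by
  simp [D]

theorem self_mem_N {t : G} (ht : orderOf t = 2) : t ∈ N t := mem_N.2 ⟨ht, Commute.refl t⟩

theorem mem_N_symm {t x : G} (ht : orderOf t = 2) (h : x ∈ N t) : t ∈ N x :=
  mem_N.2 ⟨ht, (mem_N.1 h).2.symm⟩

theorem N_subset_D {t : G} (ht : orderOf t = 2) : N t ⊆ D t := fun _ hx =>
  mem_D.2 ⟨t, self_mem_N ht, hx⟩

theorem self_mem_D {t : G} (ht : orderOf t = 2) : t ∈ D t := N_subset_D ht (self_mem_N ht)

theorem orderOf_of_mem_D {t x : G} (h : x ∈ D t) : orderOf x = 2 := by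
  obtain ⟨a, _, h⟩ := mem_D.1 h
  exact (mem_N.1 h).1

section base

variable (L : LocBase G)
include L

theorem card_N {t : G} (ht : orderOf t = 2) : (N t).card = 7 := by
  rw [← L.seven t ht, ← Set.ncard_coe_finset]
  congr 1
  ext x
  simp [mem_N]

theorem orderOf_mul {t a : G} (ht : orderOf t = 2) (ha : orderOf a = 2) (hc : Commute a t) (hne : a ≠ t) :
    orderOf (t * a) = 2 := by
  refine orderOf_of ?_ ?_
  · calc t * a * (t * a) = t * (a * t) * a := by group
      _ = (t * t) * (a * a) := by rw [hc.eq]; group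
      _ = 1 := by rw [mul_self_of_orderOf ht, mul_self_of_orderOf ha, one_mul]
  · intro h
    apply hne
    have := mul_self_of_orderOf ht
    exact (mul_left_cancel (this.trans h.symm)).symm

/-- `a ∈ N t`, `a ≠ t`: the common neighbours of `a` and `t`. -/
theorem card_inter {t a : G} (ht : orderOf t = 2) (ha : a ∈ N t) (hne : a ≠ t) :
    (N a \ N t).card = 4 := by
  obtain ⟨ha2, hc⟩ := mem_N.1 ha
  have hinter : N a ∩ N t = {t, a, t * a} := by
    ext x
    rw [Finset.mem_inter, Finset.mem_insert, Finset.mem_insert, Finset.mem_singleton, mem_N, mem_N]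
    constructor
    · rintro ⟨⟨hx, hxa⟩, _, hxt⟩
      by_cases hxt' : x = t
      · exact Or.inl hxt'
      · rcases L.cm t a x ht ha2 hx hc hxt hxa.symm hne hxt' with h | h
        · exact Or.inr (Or.inl h)
        · exact Or.inr (Or.inr h)
    · rintro (rfl | rfl | rfl)
      · exact ⟨⟨ht, hc.symm⟩, ht, Commute.refl _⟩
      · exact ⟨⟨ha2, Commute.refl _⟩, ha2, hc⟩
      · have h2 := orderOf_mul L ht ha2 hc hne
        exact ⟨⟨h2, hc.symm.mul_left (Commute.refl _)⟩, h2, (Commute.refl _).mul_left hc⟩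
  have h3 : (N a ∩ N t).card = 3 := by
    rw [hinter]
    have e1 : t ≠ a := hne.symm
    have e2 : t ≠ t * a := by
      intro h
      exact ne_one_of_orderOf ha2 (left_eq_mul.1 h)
    have e3 : a ≠ t * a := by
      intro h
      exact ne_one_of_orderOf ht (right_eq_mul.1 h)
    rw [Finset.card_insert_of_notMem, Finset.card_insert_of_notMem, Finset.card_singleton]
    · simpa using e3
    · simp [e1, e2]
  have h4 := Finset.card_sdiff_add_card_inter (N a) (N t)
  rw [h3, card_N L ha2] at h4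
  omega

theorem card_D {t : G} (ht : orderOf t = 2) : (D t).card = 31 := by
  have hD : D t = N t ∪ ((N t).erase t).biUnion (fun a => N a \ N t) := by
    ext x
    rw [mem_D, Finset.mem_union, Finset.mem_biUnion]
    constructor
    · rintro ⟨a, ha, hx⟩
      by_cases hxt : x ∈ N t
      · exact Or.inl hxt
      · refine Or.inr ⟨a, Finset.mem_erase.2 ⟨?_, ha⟩, Finset.mem_sdiff.2 ⟨hx, hxt⟩⟩
        rintro rfl
        exact hxt hx
    · rintro (h | ⟨a, ha, hx⟩)
      · exact ⟨t, self_mem_N ht, h⟩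
      · exact ⟨a, (Finset.mem_erase.1 ha).2, (Finset.mem_sdiff.1 hx).1⟩
  have hdisj : Disjoint (N t) (((N t).erase t).biUnion (fun a => N a \ N t)) := by
    rw [Finset.disjoint_left]
    intro x hx h
    obtain ⟨a, _, h⟩ := Finset.mem_biUnion.1 h
    exact (Finset.mem_sdiff.1 h).2 hx
  rw [hD, Finset.card_union_of_disjoint hdisj, card_N L ht, Finset.card_biUnion]
  · rw [Finset.sum_congr rfl (fun a ha => card_inter L ht (Finset.mem_erase.1 ha).2 (Finset.mem_erase.1 ha).1)]
    rw [Finset.sum_const, Finset.card_erase_of_mem (self_mem_N ht), card_N L ht]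
    rfl
  · intro a ha b hb hab
    rw [Function.onFun, Finset.disjoint_left]
    intro x hx hx'
    obtain ⟨hxa, hxt⟩ := Finset.mem_sdiff.1 hx
    obtain ⟨hxb, _⟩ := Finset.mem_sdiff.1 hx'
    obtain ⟨ha1, ha2⟩ := mem_N.1 (Finset.mem_erase.1 ha).2
    obtain ⟨hb1, hb2⟩ := mem_N.1 (Finset.mem_erase.1 hb).2
    obtain ⟨hx2, hxa⟩ := mem_N.1 hxa
    obtain ⟨_, hxb⟩ := mem_N.1 hxb
    have hntx : ¬ Commute t x := fun h => hxt (mem_N.2 ⟨hx2, h.symm⟩)
    have h1 := L.nc a t x ha1 ht hx2 ha2.symm hxa hntx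
    have h2 := L.nc b t x hb1 ht hx2 hb2.symm hxb hntx
    exact hab (h1.symm.trans h2)

end base

variable (L : Loc G)
include L

open Classical in
/-- all involutions -/
theorem card_all : (Finset.univ.filter fun x : G => orderOf x = 2).card = 63 := by
  rw [← L.total, ← Set.ncard_coe_finset]
  congr 1
  ext x
  simp

/-- There is a path of length 3 leaving `D t`. -/
theorem exists_path : ∃ t a b c : G, orderOf t = 2 ∧ a ∈ N t ∧ b ∈ N a ∧ c ∈ N b ∧ c ∉ D t := by
  classical
  by_contra hcon
  push Not at hcon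
  have hclosed : ∀ s s' : G, orderOf s = 2 → s' ∈ D s → D s' ⊆ D s := by
    intro s s' hs hs' x hx
    obtain ⟨a', ha', hx⟩ := mem_D.1 hx
    obtain ⟨a, ha, hs'a⟩ := mem_D.1 hs'
    have h1 := hcon s a s' a' hs ha hs'a ha'
    obtain ⟨a2, ha2, ha'2⟩ := mem_D.1 h1
    exact hcon s a2 a' x hs ha2 ha'2 hx
  have heq : ∀ s s' : G, orderOf s = 2 → s' ∈ D s → D s' = D s := by
    intro s s' hs hs'
    refine Finset.eq_of_subset_of_card_le (hclosed s s' hs hs') ?_
    rw [card_D L.toLocBase hs, card_D L.toLocBase (orderOf_of_mem_D hs')]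
  have hdis : ∀ s s' : G, orderOf s = 2 → orderOf s' = 2 → s' ∉ D s → Disjoint (D s) (D s') := by
    intro s s' hs hs' hn
    rw [Finset.disjoint_left]
    intro x hx hx'
    apply hn
    rw [← heq s x hs hx, heq s' x hs' hx']
    exact self_mem_D hs'
  set I : Finset G := Finset.univ.filter fun x : G => orderOf x = 2 with hI
  have hIc : I.card = 63 := card_all L
  have hDI : ∀ s, D s ⊆ I := by
    intro s x hx
    rw [hI, Finset.mem_filter]
    exact ⟨Finset.mem_univ _, orderOf_of_mem_D hx⟩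
  obtain ⟨t, ht⟩ : I.Nonempty := by
    rw [← Finset.card_pos, hIc]; norm_num
  rw [hI, Finset.mem_filter] at ht
  have h1 : ∃ s ∈ I, s ∉ D t := by
    by_contra h
    push Not at h
    have := Finset.card_le_card (fun x hx => h x hx : I ⊆ D t)
    rw [card_D L.toLocBase ht.2, hIc] at this
    omega
  obtain ⟨s, hs, hst⟩ := h1
  have hs2 : orderOf s = 2 := (Finset.mem_filter.1 hs).2
  have hd1 := hdis t s ht.2 hs2 hst
  have hc2 : (D t ∪ D s).card = 62 := by
    rw [Finset.card_union_of_disjoint hd1, card_D L.toLocBase ht.2, card_D L.toLocBase hs2]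
  have h2 : ∃ r ∈ I, r ∉ D t ∪ D s := by
    by_contra h
    push Not at h
    have := Finset.card_le_card (fun x hx => h x hx : I ⊆ D t ∪ D s)
    rw [hc2, hIc] at this
    omega
  obtain ⟨r, hr, hrts⟩ := h2
  have hr2 : orderOf r = 2 := (Finset.mem_filter.1 hr).2
  rw [Finset.mem_union, not_or] at hrts
  have hd2 := hdis t r ht.2 hr2 hrts.1
  have hd3 := hdis s r hs2 hr2 hrts.2
  have hd4 : Disjoint (D t ∪ D s) (D r) := Finset.disjoint_union_left.2 ⟨hd2, hd3⟩
  have hc3 : (D t ∪ D s ∪ D r).card = 93 := by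
    rw [Finset.card_union_of_disjoint hd4, hc2, card_D L.toLocBase hr2]
  have := Finset.card_le_card (Finset.union_subset (Finset.union_subset (hDI t) (hDI s)) (hDI r))
  rw [hc3, hIc] at this
  omega

/-- the stabilizer of an endpoint of such a path -/
theorem exists_three {t c : G} (ht : orderOf t = 2) (hc : orderOf c = 2) (hcD : c ∉ D t) :
    ∃ g : G, orderOf g = 3 ∧ Commute g t ∧ Commute g c := by
  classical
  set C : Subgroup G := Subgroup.centralizer {t} with hC
  set K : Subgroup G := C ⊓ Subgroup.centralizer {c} with hK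
  have hmem : ∀ x : G, x ∈ C ↔ x * t = t * x := fun x => Subgroup.mem_centralizer_singleton_iff
  have hmemc : ∀ x : G, x ∈ Subgroup.centralizer ({c} : Set G) ↔ x * c = c * x :=
    fun x => Subgroup.mem_centralizer_singleton_iff
  -- `K` has odd order
  have hodd : ¬ 2 ∣ Nat.card K := by
    intro h2
    obtain ⟨x, hx⟩ := exists_prime_orderOf_dvd_card' (G := K) 2 h2
    rw [← Subgroup.orderOf_coe] at hx
    apply hcD
    refine mem_D.2 ⟨x, mem_N.2 ⟨hx, (hmem _).1 x.2.1⟩, mem_N.2 ⟨hc, ?_⟩⟩
    exact ((hmemc _).1 x.2.2).symm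
  have hdvd : Nat.card K ∣ 96 := by
    rw [← L.card t ht]
    exact Subgroup.card_dvd_of_le inf_le_left
  -- the orbit of `c`
  have horb : Nat.card C ≤ Nat.card K * 32 := by
    set S : Finset G := Finset.univ.filter (fun x => x ∈ C) with hS
    have hSc : S.card = Nat.card C := by
      rw [Nat.card_eq_fintype_card, Fintype.card_subtype]
    rw [← hSc]
    have himg : (S.image fun x => x * c * x⁻¹).card ≤ 32 := by
      have hsub : S.image (fun x => x * c * x⁻¹) ⊆ (Finset.univ.filter fun x : G => orderOf x = 2) \ D t := by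
        intro y hy
        obtain ⟨x, hx, rfl⟩ := Finset.mem_image.1 hy
        have hxC : x ∈ C := (Finset.mem_filter.1 hx).2
        have hxt := (hmem x).1 hxC
        have ho : ∀ z w : G, orderOf (z * w * z⁻¹) = orderOf w := by
          intro z w
          exact (MulAut.conj z).orderOf_eq w
        rw [Finset.mem_sdiff, Finset.mem_filter]
        refine ⟨⟨Finset.mem_univ _, by rw [ho, hc]⟩, fun h => hcD ?_⟩
        obtain ⟨a, ha, hxa⟩ := mem_D.1 h
        refine mem_D.2 ⟨x⁻¹ * a * x, mem_N.2 ⟨?_, ?_⟩, mem_N.2 ⟨hc, ?_⟩⟩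
        · have := ho x⁻¹ a
          rw [inv_inv] at this
          rw [this]; exact (mem_N.1 ha).1
        · have h1 : a * t = t * a := (mem_N.1 ha).2
          have hxt' : x⁻¹ * t = t * x⁻¹ := by
            rw [inv_mul_eq_iff_eq_mul, ← mul_assoc, hxt, mul_inv_cancel_right]
          change x⁻¹ * a * x * t = t * (x⁻¹ * a * x)
          calc x⁻¹ * a * x * t = x⁻¹ * a * (x * t) := by group
            _ = x⁻¹ * (a * t) * x := by rw [hxt]; group
            _ = (x⁻¹ * t) * a * x := by rw [h1]; group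
            _ = t * (x⁻¹ * a * x) := by rw [hxt']; group
        · have h1 : x * c * x⁻¹ * a = a * (x * c * x⁻¹) := (mem_N.1 hxa).2
          change c * (x⁻¹ * a * x) = x⁻¹ * a * x * c
          calc c * (x⁻¹ * a * x) = x⁻¹ * (x * c * x⁻¹ * a) * x := by group
            _ = x⁻¹ * a * x * c := by rw [h1]; group
      have h1 := Finset.card_le_card hsub
      have h2 : ((Finset.univ.filter fun x : G => orderOf x = 2) \ D t).card = 32 := by
        rw [Finset.card_sdiff_of_subset, card_D L.toLocBase ht]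
        · have := card_all L
          rw [Finset.card_filter] at this ⊢
          rw [this]
        · intro x hx
          rw [Finset.mem_filter]
          exact ⟨Finset.mem_univ _, orderOf_of_mem_D hx⟩
      omega
    have hfib : S.card ≤ Nat.card K * (S.image fun x => x * c * x⁻¹).card := by
      refine Finset.card_le_mul_card_image S (Nat.card K) ?_
      intro y hy
      obtain ⟨x0, hx0, rfl⟩ := Finset.mem_image.1 hy
      have hx0C : x0 ∈ C := (Finset.mem_filter.1 hx0).2
      rw [Nat.card_eq_fintype_card, ← Finset.card_univ]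
      refine Finset.card_le_card_of_injOn
        (fun x => if h : x0⁻¹ * x ∈ K then (⟨x0⁻¹ * x, h⟩ : K) else 1) (fun _ _ => Finset.mem_coe.2 (Finset.mem_univ _)) ?_
      intro x hx x' hx' hxx
      have hk : ∀ z ∈ (↑(S.filter fun x => x * c * x⁻¹ = x0 * c * x0⁻¹) : Set G), x0⁻¹ * z ∈ K := by
        intro z hz
        rw [Finset.mem_coe, Finset.mem_filter] at hz
        refine Subgroup.mem_inf.2 ⟨C.mul_mem (C.inv_mem hx0C) (Finset.mem_filter.1 hz.1).2, ?_⟩
        rw [hmemc]
        have h1 : z * c = x0 * c * x0⁻¹ * z := by rw [← hz.2]; group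
        calc x0⁻¹ * z * c = x0⁻¹ * (z * c) := by group
          _ = c * (x0⁻¹ * z) := by rw [h1]; group
      have e1 := hk x hx
      have e2 := hk x' hx'
      simp only [dif_pos e1, dif_pos e2, Subtype.mk.injEq] at hxx
      exact mul_left_cancel hxx
    exact hfib.trans (Nat.mul_le_mul_left _ himg)
  rw [L.card t ht] at horb
  have h3 : 3 ≤ Nat.card K := by omega
  have h4 : Nat.card K ∣ 3 := by
    have hcop : Nat.Coprime (Nat.card K) 32 := by
      have h2 : Nat.Coprime (Nat.card K) 2 := (Nat.coprime_comm.1 ((Nat.Prime.coprime_iff_not_dvd Nat.prime_two).2 hodd))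
      have : (32 : ℕ) = 2 ^ 5 := by norm_num
      rw [this]
      exact Nat.Coprime.pow_right 5 h2
    have : Nat.card K ∣ 32 * 3 := by simpa using hdvd
    exact hcop.dvd_of_dvd_mul_left this
  have h5 : Nat.card K = 3 := le_antisymm (Nat.le_of_dvd (by norm_num) h4) h3
  obtain ⟨g, hg⟩ := exists_prime_orderOf_dvd_card' (G := K) 3 (by rw [h5])
  rw [← Subgroup.orderOf_coe] at hg
  exact ⟨g, hg, (hmem _).1 g.2.1, (hmemc _).1 g.2.2⟩

/-- an element of order 3 commuting with `t` moves every four-group containing `t`. -/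
theorem not_commute_conj {t a g : G} (ht : orderOf t = 2) (ha : orderOf a = 2) (hat : Commute a t) (hne : a ≠ t)
    (hg : orderOf g = 3) (hgt : Commute g t) : ¬ Commute a (g * a * g⁻¹) := by
  intro hcom
  have hno := L.three t a g ht ha hg hat hgt hne
  have ho : orderOf (g * a * g⁻¹) = 2 := by
    rw [← ha]; exact (MulAut.conj g).orderOf_eq a
  have hgt' : g * t * g⁻¹ = t := by rw [hgt.eq, mul_inv_cancel_right]
  have hct : Commute (g * a * g⁻¹) t := by
    have : Commute (g * a * g⁻¹) (g * t * g⁻¹) := by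
      change g * a * g⁻¹ * (g * t * g⁻¹) = g * t * g⁻¹ * (g * a * g⁻¹)
      calc g * a * g⁻¹ * (g * t * g⁻¹) = g * (a * t) * g⁻¹ := by group
        _ = g * t * g⁻¹ * (g * a * g⁻¹) := by rw [hat.eq]; group
    rwa [hgt'] at this
  have hne' : g * a * g⁻¹ ≠ t := by
    intro h
    apply hne
    have h1 : a = g⁻¹ * t * g := by rw [← h]; group
    rw [h1, mul_assoc, ← hgt.eq, inv_mul_cancel_left]
  have hg3 : g * g * g = 1 := by
    have : g ^ 3 = 1 := by rw [← hg, pow_orderOf_eq_one]
    rwa [pow_succ, sq] at this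
  rcases L.cm t a _ ht ha ho hat hct hcom hne hne' with h | h
  · apply hno
    change g * a = a * g
    rw [← mul_inv_eq_iff_eq_mul, h]
  · -- `g² a g⁻² = a`
    have h1 : g * (g * a * g⁻¹) * g⁻¹ = a := by
      rw [h]
      have : g * (t * a) * g⁻¹ = (g * t * g⁻¹) * (g * a * g⁻¹) := by group
      rw [this, hgt', h, ← mul_assoc, mul_self_of_orderOf ht, one_mul]
    have h2 : g * a * g⁻¹ = a := by
      have h3 : g * (g * (g * a * g⁻¹) * g⁻¹) * g⁻¹ = a := by
        calc g * (g * (g * a * g⁻¹) * g⁻¹) * g⁻¹ = (g * g * g) * a * (g * g * g)⁻¹ := by group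
          _ = a := by rw [hg3]; group
      rwa [h1] at h3
    apply hno
    change g * a = a * g
    rw [← mul_inv_eq_iff_eq_mul, h2]

/-- existence of a hexagon -/
theorem exists_hex : ∃ z1 z2 z3 z4 z5 z6 : G, z2 ≠ 1 ∧ Hex z1 z2 z3 z4 z5 z6 := by
  obtain ⟨t, a, b, c, ht, ha, hb, hc, hcD⟩ := exists_path L
  obtain ⟨ha2, hat⟩ := mem_N.1 ha
  obtain ⟨hb2, hba⟩ := mem_N.1 hb
  obtain ⟨hc2, hcb⟩ := mem_N.1 hc
  obtain ⟨g, hg, hgt, hgc⟩ := exists_three L ht hc2 hcD
  have htb : ¬ Commute t b := fun h => hcD (mem_D.2 ⟨b, mem_N.2 ⟨hb2, h.symm⟩, hc⟩)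
  have hac : ¬ Commute a c := fun h => hcD (mem_D.2 ⟨a, ha, mem_N.2 ⟨hc2, h.symm⟩⟩)
  have hanet : a ≠ t := by rintro rfl; exact htb hba.symm
  have hbnec : b ≠ c := by rintro rfl; exact hac hba.symm
  have h26 := not_commute_conj L ht ha2 hat hanet hg hgt
  have h35 := not_commute_conj L hc2 hb2 hcb.symm hbnec hg hgc
  have ho : ∀ w : G, orderOf (g * w * g⁻¹) = orderOf w := fun w => (MulAut.conj g).orderOf_eq w
  have hgt' : g * t * g⁻¹ = t := by rw [hgt.eq, mul_inv_cancel_right]
  have hgc' : g * c * g⁻¹ = c := by rw [hgc.eq, mul_inv_cancel_right]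
  have hcj : ∀ x y : G, Commute x y → Commute (g * x * g⁻¹) (g * y * g⁻¹) := by
    intro x y h
    change g * x * g⁻¹ * (g * y * g⁻¹) = g * y * g⁻¹ * (g * x * g⁻¹)
    calc g * x * g⁻¹ * (g * y * g⁻¹) = g * (x * y) * g⁻¹ := by group
      _ = g * y * g⁻¹ * (g * x * g⁻¹) := by rw [h.eq]; group
  have hcj' : ∀ x y : G, Commute (g * x * g⁻¹) (g * y * g⁻¹) → Commute x y := by
    intro x y h
    have h1 : g * x * g⁻¹ * (g * y * g⁻¹) = g * y * g⁻¹ * (g * x * g⁻¹) := h
    change x * y = y * x
    calc x * y = g⁻¹ * (g * x * g⁻¹ * (g * y * g⁻¹)) * g := by group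
      _ = y * x := by rw [h1]; group
  have k1 : Commute c (g * b * g⁻¹) := by
    have := hcj c b hcb
    rwa [hgc'] at this
  have k2 : Commute (g * b * g⁻¹) (g * a * g⁻¹) := hcj b a hba
  have k3 : Commute (g * a * g⁻¹) t := by
    have := hcj a t hat
    rwa [hgt'] at this
  have n46 : ¬ Commute c (g * a * g⁻¹) := by
    intro h
    rw [← hgc'] at h
    exact hac (hcj' c a h).symm
  have n51 : ¬ Commute (g * b * g⁻¹) t := by
    intro h
    rw [← hgt'] at h
    exact htb (hcj' b t h).symm
  have oa : orderOf (g * a * g⁻¹) = 2 := by rw [ho, ha2]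
  have ob : orderOf (g * b * g⁻¹) = 2 := by rw [ho, hb2]
  refine ⟨t, a, b, c, g * b * g⁻¹, g * a * g⁻¹, ne_one_of_orderOf ha2, ?_⟩
  exact
    { s1 := mul_self_of_orderOf ht
      s2 := mul_self_of_orderOf ha2
      s3 := mul_self_of_orderOf hb2
      s4 := mul_self_of_orderOf hc2
      s5 := mul_self_of_orderOf ob
      s6 := mul_self_of_orderOf oa
      c12 := hat.symm
      c23 := hba.symm
      c34 := hcb.symm
      c45 := k1
      c56 := k2
      c61 := k3
      n13 := L.nc a t b ha2 ht hb2 hat.symm hba htb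
      n24 := L.nc b a c hb2 ha2 hc2 hba.symm hcb hac
      n35 := L.nc c b _ hc2 hb2 ob hcb.symm k1.symm h35
      n46 := L.nc _ c _ ob hc2 oa k1 k2.symm n46
      n51 := L.nc _ _ t oa ob ht k2 k3.symm n51
      n62 := L.nc t _ a ht oa ha2 k3 hat (fun h => h26 h.symm) }

end

end Cfsg.Agent.Classification.RTwo.EndWRGraph
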