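import Mathlib
import Cfsg.Prelude.Def_CaseTheorems
import Cfsg.Agent.Classification.RTwo.EndWRGraph

/-!
# A minimal simple group has no involution centralizer like that of `PSU₃(3)`
-/

set_option autoImplicit false
set_option linter.unusedSimpArgs false
set_option linter.unusedSectionVars false

namespace Cfsg.Agent.Classification.RTwo.EndWR

open Cfsg.Agent.Classification.RTwo.EndWRHex Cfsg.Agent.Classification.RTwo.EndWRGraph
open scoped commutatorElement

variable {G : Type*} [Group G]

theorem conj_comm {x a b : G} (h : Commute a b) : Commute (x * a * x⁻¹) (x * b * x⁻¹) := by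
  change x * a * x⁻¹ * (x * b * x⁻¹) = x * b * x⁻¹ * (x * a * x⁻¹)
  calc x * a * x⁻¹ * (x * b * x⁻¹) = x * (a * b) * x⁻¹ := by group
    _ = x * b * x⁻¹ * (x * a * x⁻¹) := by rw [h.eq]; group

theorem orderOf_conj (x a : G) : orderOf (x * a * x⁻¹) = orderOf a := (MulAut.conj x).orderOf_eq a

/-- A finite group with the hexagon has a nonsolvable subgroup generated by it. -/
theorem not_isSolvable_of_hex {z1 z2 z3 z4 z5 z6 : G} (h : Hex z1 z2 z3 z4 z5 z6) (h2 : z2 ≠ 1) :
    ¬ Group.IsSolvable (Subgroup.closure ({z1, z2, z3, z4, z5, z6} : Set G)) := by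
  intro hs
  set X : Subgroup G := Subgroup.closure {z1, z2, z3, z4, z5, z6} with hX
  have m1 : z1 ∈ X := Subgroup.subset_closure (by simp)
  have m2 : z2 ∈ X := Subgroup.subset_closure (by simp)
  have m3 : z3 ∈ X := Subgroup.subset_closure (by simp)
  have m4 : z4 ∈ X := Subgroup.subset_closure (by simp)
  have m5 : z5 ∈ X := Subgroup.subset_closure (by simp)
  have m6 : z6 ∈ X := Subgroup.subset_closure (by simp)
  have hnt : Nontrivial X := ⟨⟨⟨z2, m2⟩, 1, fun h => h2 (congrArg Subtype.val h)⟩⟩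
  have hcomm : ∀ a b c : G, a ∈ X → b ∈ X → a * a = 1 → b * b = 1 → a * b * (a * b) = c → c ∈ ⁅X, X⁆ := by
    intro a b c ha hb ha2 hb2 hc
    have : ⁅a, b⁆ = c := by
      rw [commutatorElement_def, inv_eq ha2, inv_eq hb2, ← hc]
      group
    rw [← this]
    exact Subgroup.commutator_mem_commutator ha hb
  have hle : X ≤ ⁅X, X⁆ := by
    conv_lhs => rw [hX]
    rw [Subgroup.closure_le]
    rintro x (rfl | rfl | rfl | rfl | rfl | rfl)
    · exact hcomm _ _ _ m6 m2 h.s6 h.s2 h.n62
    · exact hcomm _ _ _ m1 m3 h.s1 h.s3 h.n13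
    · exact hcomm _ _ _ m2 m4 h.s2 h.s4 h.n24
    · exact hcomm _ _ _ m3 m5 h.s3 h.s5 h.n35
    · exact hcomm _ _ _ m4 m6 h.s4 h.s6 h.n46
    · exact hcomm _ _ _ m5 m1 h.s5 h.s1 h.n51
  have hlt := Group.IsSolvable.commutator_lt_top_of_nontrivial X
  have htop : commutator X = ⊤ := by
    apply Subgroup.map_injective X.subtype_injective
    rw [Subgroup.map_subtype_commutator, ← MonoidHom.range_eq_map, Subgroup.range_subtype]
    exact le_antisymm (Subgroup.commutator_le_self X) hle
  exact absurd htop hlt.ne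

theorem false_of_loc [Finite G] (hG : Cfsg.IsMinimalSimple G) (L : Loc G) (hcard : 5040 < Nat.card G) : False := by
  classical
  have : Fintype G := Fintype.ofFinite G
  have : IsSimpleGroup G := hG.1
  obtain ⟨z1, z2, z3, z4, z5, z6, h2, h⟩ := exists_hex L
  have hns := not_isSolvable_of_hex h h2
  have htop : Subgroup.closure ({z1, z2, z3, z4, z5, z6} : Set G) = ⊤ := by
    by_contra hne
    exact hns (hG.2.2 _ hne)
  exact h.false htop h2 hcard

/-- The local facts at one involution. -/
structure LocAt [Finite G] (t : G) : Prop where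
  card : Nat.card (Subgroup.centralizer ({t} : Set G)) = 96
  seven : {x : G | orderOf x = 2 ∧ Commute x t}.ncard = 7
  nc : ∀ a b : G, orderOf a = 2 → orderOf b = 2 → Commute a t → Commute b t → ¬ Commute a b → a * b * (a * b) = t
  cm : ∀ a b : G, orderOf a = 2 → orderOf b = 2 → Commute a t → Commute b t → Commute a b → a ≠ t → b ≠ t →
    b = a ∨ b = t * a
  three : ∀ a g : G, orderOf a = 2 → orderOf g = 3 → Commute a t → Commute g t → a ≠ t → ¬ Commute g a

theorem LocAt.conj [Finite G] {t : G} (L : LocAt t) (x : G) : LocAt (x * t * x⁻¹) := by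
  have hc : ∀ {a : G}, Commute a (x * t * x⁻¹) → Commute (x⁻¹ * a * x) t := by
    intro a h
    have := conj_comm (x := x⁻¹) h
    have e : x⁻¹ * (x * t * x⁻¹) * x⁻¹⁻¹ = t := by group
    rwa [e, inv_inv] at this
  have ho : ∀ a : G, orderOf (x⁻¹ * a * x) = orderOf a := by
    intro a
    have := orderOf_conj x⁻¹ a
    rwa [inv_inv] at this
  have hcc : ∀ {a b : G}, Commute (x⁻¹ * a * x) (x⁻¹ * b * x) → Commute a b := by
    intro a b h
    have := conj_comm (x := x) h
    have e : ∀ w : G, x * (x⁻¹ * w * x) * x⁻¹ = w := by intro w; group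
    rwa [e, e] at this
  have hcc' : ∀ {a b : G}, Commute a b → Commute (x⁻¹ * a * x) (x⁻¹ * b * x) := by
    intro a b h
    have := conj_comm (x := x⁻¹) h
    rwa [inv_inv] at this
  have hback : ∀ w : G, x * (x⁻¹ * w * x) * x⁻¹ = w := by intro w; group
  refine ⟨?_, ?_, ?_, ?_, ?_⟩
  · rw [← L.card]
    refine (Nat.card_congr ?_).symm
    refine ⟨fun c => ⟨x * c * x⁻¹, ?_⟩, fun c => ⟨x⁻¹ * c * x, ?_⟩, ?_, ?_⟩
    · rw [Subgroup.mem_centralizer_singleton_iff]
      have h1 : (c : G) * t = t * c := Subgroup.mem_centralizer_singleton_iff.1 c.2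
      exact (conj_comm (x := x) h1)
    · rw [Subgroup.mem_centralizer_singleton_iff]
      have h1 : (c : G) * (x * t * x⁻¹) = x * t * x⁻¹ * c := Subgroup.mem_centralizer_singleton_iff.1 c.2
      exact hc h1
    · intro c; apply Subtype.ext; change x⁻¹ * (x * (c : G) * x⁻¹) * x = c; group
    · intro c; apply Subtype.ext; change x * (x⁻¹ * (c : G) * x) * x⁻¹ = c; group
  · rw [← L.seven]
    have : {y : G | orderOf y = 2 ∧ Commute y (x * t * x⁻¹)} =
        (fun y => x * y * x⁻¹) '' {y : G | orderOf y = 2 ∧ Commute y t} := by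
      ext y
      simp only [Set.mem_ofPred_eq, Set.mem_image]
      constructor
      · rintro ⟨h1, h2⟩
        exact ⟨x⁻¹ * y * x, ⟨by rw [ho, h1], hc h2⟩, hback y⟩
      · rintro ⟨z, ⟨h1, h2⟩, rfl⟩
        exact ⟨by rw [orderOf_conj, h1], conj_comm h2⟩
    rw [this]
    exact Set.ncard_image_of_injective _ (fun y z h => by simpa using h)
  · intro a b ha hb hat hbt hab
    have h1 := L.nc (x⁻¹ * a * x) (x⁻¹ * b * x) (by rw [ho, ha]) (by rw [ho, hb]) (hc hat) (hc hbt)
      (fun h => hab (hcc h))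
    rw [← h1]; group
  · intro a b ha hb hat hbt hab hne hne'
    have e : ∀ {w : G}, w ≠ x * t * x⁻¹ → x⁻¹ * w * x ≠ t := by
      intro w hw h
      apply hw
      rw [← h, hback]
    rcases L.cm (x⁻¹ * a * x) (x⁻¹ * b * x) (by rw [ho, ha]) (by rw [ho, hb]) (hc hat) (hc hbt)
      (hcc' hab) (e hne) (e hne') with h | h
    · left
      rw [← hback b, h, hback]
    · right
      rw [← hback b, h]; group
  · intro a g ha hg hat hgt hne hga
    have e : ∀ {w : G}, w ≠ x * t * x⁻¹ → x⁻¹ * w * x ≠ t := by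
      intro w hw h
      apply hw
      rw [← h, hback]
    exact L.three (x⁻¹ * a * x) (x⁻¹ * g * x) (by rw [ho, ha]) (by rw [ho, hg]) (hc hat) (hc hgt) (e hne)
      (hcc' hga)

/-- the number of conjugates of `t` -/
theorem ncard_conj [Finite G] (t : G) :
    {x : G | IsConj t x}.ncard = (Subgroup.centralizer ({t} : Set G)).index := by
  have h1 : (MulAction.stabilizer (ConjAct G) t).index = (MulAction.orbit (ConjAct G) t).ncard :=
    MulAction.index_stabilizer _ _
  have h2 : MulAction.orbit (ConjAct G) t = {x : G | IsConj t x} := by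
    ext x
    rw [ConjAct.mem_orbit_conjAct, Set.mem_ofPred_eq]
    exact ⟨IsConj.symm, IsConj.symm⟩
  rw [← h2, ← h1, ConjAct.stabilizer_eq_centralizer]
  rfl

/-- A minimal simple group with one class of involutions and 63 involutions has no centralizer like in `PSU₃(3)`. -/
theorem false_of_centralizer [Finite G] (hG : Cfsg.IsMinimalSimple G) (t : G) (ht : orderOf t = 2)
    (hone : ∀ s : G, orderOf s = 2 → IsConj t s) (hidx : (Subgroup.centralizer ({t} : Set G)).index = 63)
    (L : LocAt t) : False := by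
  have hL : ∀ s : G, orderOf s = 2 → LocAt s := by
    intro s hs
    obtain ⟨x, hx⟩ := isConj_iff.1 (hone s hs)
    rw [← hx]
    exact L.conj x
  have htot : {x : G | orderOf x = 2}.ncard = 63 := by
    rw [← hidx, ← ncard_conj]
    congr 1
    ext x
    refine ⟨hone x, ?_⟩
    intro h
    obtain ⟨y, rfl⟩ := isConj_iff.1 h
    change orderOf (y * t * y⁻¹) = 2
    rw [orderOf_conj, ht]
  have hcard : Nat.card G = 6048 := by
    rw [← Subgroup.card_mul_index (Subgroup.centralizer ({t} : Set G)), hidx, L.card]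
  refine false_of_loc hG ⟨⟨fun s hs => (hL s hs).card, fun s hs => (hL s hs).seven,
    fun s a b hs => (hL s hs).nc a b, fun s a b hs => (hL s hs).cm a b, fun s a g hs => (hL s hs).three a g⟩, htot⟩ ?_
  rw [hcard]; norm_num

end Cfsg.Agent.Classification.RTwo.EndWR
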