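import Mathlib
import Cfsg.Prelude.Def_LieClassical
import Cfsg.Agent.TwoFusion.GUTwo
import Cfsg.Agent.Classification.RTwo.EndWR

/-!
# The local facts `LocAt` for `C(t) ≃ GU₂(3)`
-/

set_option autoImplicit false
set_option linter.unusedSimpArgs false
set_option linter.unusedSectionVars false

namespace Cfsg.Agent.Classification.RTwo.EndWRGU

open Cfsg.Agent.TwoFusion.GUTwo Cfsg.Agent.Classification.RTwo.EndWR Cfsg.Agent.Classification.RTwo.EndWRGraph

/-- Model facts for the pair (group, central involution). -/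
structure LocM (H : Type*) [Group H] [Finite H] (z : H) : Prop where
  z2 : orderOf z = 2
  zc : ∀ x : H, Commute z x
  card : Nat.card H = 96
  seven : {x : H | orderOf x = 2}.ncard = 7
  nc : ∀ a b : H, orderOf a = 2 → orderOf b = 2 → ¬ Commute a b → a * b * (a * b) = z
  cm : ∀ a b : H, orderOf a = 2 → orderOf b = 2 → Commute a b → a ≠ z → b ≠ z → b = a ∨ b = z * a
  three : ∀ a g : H, orderOf a = 2 → orderOf g = 3 → a ≠ z → ¬ Commute g a

theorem LocM.unique {H : Type*} [Group H] [Finite H] {z : H} (L : LocM H z) {w : H} (hw : orderOf w = 2)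
    (hc : ∀ x : H, Commute w x) : w = z := by
  by_contra hne
  obtain ⟨g, hg⟩ := exists_prime_orderOf_dvd_card' (G := H) 3 (by rw [L.card]; norm_num)
  exact L.three w g hw hg hne (hc g).symm

theorem LocM.locAt {H : Type*} [Group H] [Finite H] {z : H} (L : LocM H z) {G : Type*} [Group G] [Finite G]
    {t : G} (ht : orderOf t = 2) (e : Subgroup.centralizer ({t} : Set G) ≃* H) : LocAt t := by
  have hmem : ∀ {x : G}, Commute x t → x ∈ Subgroup.centralizer ({t} : Set G) := fun h =>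
    Subgroup.mem_centralizer_singleton_iff.2 h.eq
  have htC : t ∈ Subgroup.centralizer ({t} : Set G) := hmem (Commute.refl t)
  have hz : e ⟨t, htC⟩ = z := by
    apply L.unique
    · rw [e.orderOf_eq, ← Subgroup.orderOf_coe]; exact ht
    · intro x
      obtain ⟨y, rfl⟩ := e.surjective x
      change e _ * e y = e y * e _
      rw [← map_mul, ← map_mul]
      congr 1
      exact Subtype.ext (Subgroup.mem_centralizer_singleton_iff.1 y.2).symm
  have ho : ∀ {x : G} (h : x ∈ Subgroup.centralizer ({t} : Set G)), orderOf (e ⟨x, h⟩) = orderOf x := by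
    intro x h
    rw [e.orderOf_eq, ← Subgroup.orderOf_coe]
  have hcomm : ∀ {x y : G} (hx : x ∈ Subgroup.centralizer ({t} : Set G))
      (hy : y ∈ Subgroup.centralizer ({t} : Set G)), Commute (e ⟨x, hx⟩) (e ⟨y, hy⟩) ↔ Commute x y := by
    intro x y hx hy
    constructor
    · intro h
      have h1 : e (⟨x, hx⟩ * ⟨y, hy⟩) = e (⟨y, hy⟩ * ⟨x, hx⟩) := by rw [map_mul, map_mul]; exact h
      exact congrArg Subtype.val (e.injective h1)
    · intro h
      change e _ * e _ = e _ * e _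
      rw [← map_mul, ← map_mul]
      congr 1
      exact Subtype.ext h
  have hinj : ∀ {x y : G} (hx : x ∈ Subgroup.centralizer ({t} : Set G))
      (hy : y ∈ Subgroup.centralizer ({t} : Set G)), e ⟨x, hx⟩ = e ⟨y, hy⟩ → x = y := by
    intro x y hx hy h
    exact congrArg Subtype.val (e.injective h)
  refine ⟨?_, ?_, ?_, ?_, ?_⟩
  · rw [Nat.card_congr e.toEquiv, L.card]
  · rw [← L.seven]
    have himg : {x : G | orderOf x = 2 ∧ Commute x t} = (fun x : H => ((e.symm x : Subgroup.centralizer ({t} : Set G)) : G)) ''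
        {x : H | orderOf x = 2} := by
      ext x
      simp only [Set.mem_ofPred_eq, Set.mem_image]
      constructor
      · rintro ⟨h1, h2⟩
        exact ⟨e ⟨x, hmem h2⟩, by rw [ho, h1], by simp⟩
      · rintro ⟨y, hy, rfl⟩
        refine ⟨?_, ?_⟩
        · rw [Subgroup.orderOf_coe, e.symm.orderOf_eq, hy]
        · exact Subgroup.mem_centralizer_singleton_iff.1 (e.symm y).2
    rw [himg]
    exact Set.ncard_image_of_injective _ (fun x y h => e.symm.injective (Subtype.ext h))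
  · intro a b ha hb hat hbt hab
    have h1 := L.nc (e ⟨a, hmem hat⟩) (e ⟨b, hmem hbt⟩) (by rw [ho, ha]) (by rw [ho, hb])
      (fun h => hab ((hcomm _ _).1 h))
    rw [← hz, ← map_mul, ← map_mul] at h1
    exact congrArg Subtype.val (e.injective h1)
  · intro a b ha hb hat hbt hab hne hne'
    rcases L.cm (e ⟨a, hmem hat⟩) (e ⟨b, hmem hbt⟩) (by rw [ho, ha]) (by rw [ho, hb]) ((hcomm _ _).2 hab)
      (fun h => hne (hinj _ htC (h.trans hz.symm))) (fun h => hne' (hinj _ htC (h.trans hz.symm))) with h | h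
    · exact Or.inl (hinj _ _ h)
    · right
      rw [← hz, ← map_mul] at h
      exact congrArg Subtype.val (e.injective h)
  · intro a g ha hg hat hgt hne hga
    exact L.three (e ⟨a, hmem hat⟩) (e ⟨g, hmem hgt⟩) (by rw [ho, ha]) (by rw [ho, hg])
      (fun h => hne (hinj _ htC (h.trans hz.symm))) ((hcomm _ _).2 hga)

section field

variable {F : Type*} [Field F] [Fintype F]

theorem three_eq_zero (hF : Fintype.card F = 9) : (3 : F) = 0 := by
  have h := FiniteField.cast_card_eq_zero F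
  rw [hF] at h
  have : (3 : F) * 3 = 0 := by
    rw [← h]; push_cast; norm_num
  exact mul_self_eq_zero.1 this

theorem pow_four (hF : Fintype.card F = 9) {x : F} (hx : x ≠ 0) : x ^ 4 = 1 ∨ x ^ 4 = -1 := by
  have h := FiniteField.pow_card_sub_one_eq_one x hx
  rw [hF] at h
  have h2 : (x ^ 4 - 1) * (x ^ 4 + 1) = 0 := by
    have : x ^ 8 = 1 := h
    linear_combination this
  rcases mul_eq_zero.1 h2 with h | h
  · exact Or.inl (sub_eq_zero.1 h)
  · exact Or.inr (eq_neg_of_add_eq_zero_left h)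

theorem two_ne (hF : Fintype.card F = 9) : (2 : F) ≠ 0 := by
  intro h
  have h3 := three_eq_zero hF
  have : (1 : F) = 0 := by linear_combination h3 - h
  exact one_ne_zero this

/-- entries of an involution of `GU₂(3)` -/
theorem entries (hF : Fintype.card F = 9) {a b c d : F} (h1 : a * a ^ 3 + c * c ^ 3 = 1)
    (h2 : b * b ^ 3 + d * d ^ 3 = 1) (h3 : a * b ^ 3 + c * d ^ 3 = 0)
    (q1 : a * a + b * c = 1) (q2 : a * b + b * d = 0) (q3 : c * a + d * c = 0) (q4 : c * b + d * d = 1) :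
    (b = 0 ∧ c = 0 ∧ (a = 1 ∨ a = -1) ∧ (d = 1 ∨ d = -1)) ∨
      (a = 0 ∧ d = 0 ∧ b ^ 4 = 1 ∧ c = b ^ 3) := by
  have h3' := three_eq_zero hF
  by_cases had : a + d = 0
  · have hd : d = -a := by linear_combination had
    subst hd
    by_cases ha : a = 0
    · subst ha
      right
      have hb4 : b ^ 4 = 1 := by linear_combination h2
      refine ⟨rfl, neg_zero, hb4, ?_⟩
      have hbc : b * c = 1 := by linear_combination q1
      calc c = b ^ 4 * c := by rw [hb4, one_mul]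
        _ = b ^ 3 * (b * c) := by ring
        _ = b ^ 3 := by rw [hbc, mul_one]
    · have e1 : b ^ 3 = c * a ^ 2 := by
        have : a * (b ^ 3 - c * a ^ 2) = 0 := by linear_combination h3
        rcases mul_eq_zero.1 this with h | h
        · exact absurd h ha
        · exact sub_eq_zero.1 h
      by_cases hc : c = 0
      · subst hc
        have hb : b = 0 := by
          have : b ^ 3 = 0 := by rw [e1]; ring
          exact pow_eq_zero_iff (by norm_num) |>.1 this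
        subst hb
        left
        have ha2 : (a - 1) * (a + 1) = 0 := by linear_combination q1
        rcases mul_eq_zero.1 ha2 with h | h
        · have : a = 1 := sub_eq_zero.1 h
          subst this
          exact ⟨rfl, rfl, Or.inl rfl, Or.inr rfl⟩
        · have : a = -1 := eq_neg_of_add_eq_zero_left h
          subst this
          exact ⟨rfl, rfl, Or.inr rfl, Or.inl (neg_neg _)⟩
      · exfalso
        have hc4 : c ^ 4 = -1 := by
          rcases pow_four hF hc with h | h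
          · exfalso
            have : a ^ 4 = 0 := by linear_combination h1 - h
            exact ha (pow_eq_zero_iff (by norm_num) |>.1 this)
          · exact h
        have ha4 : a ^ 4 = -1 := by linear_combination h1 - hc4 + h3'
        have hb4 : b ^ 4 = -1 := by linear_combination h2 - ha4 + h3'
        have e2 : a ^ 2 * (b * c) = -1 := by
          rw [← hb4]; linear_combination (-b) * e1
        have e3 : a ^ 2 = 1 := by
          linear_combination (-a ^ 2) * q1 + ha4 + e2 - h3'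
        have : (2 : F) = 0 := by
          have : a ^ 4 = 1 := by linear_combination (a ^ 2 + 1) * e3
          linear_combination ha4 - this
        exact two_ne hF this
  · left
    have hb : b = 0 := by
      have : b * (a + d) = 0 := by linear_combination q2
      exact (mul_eq_zero.1 this).resolve_right had
    have hc : c = 0 := by
      have : c * (a + d) = 0 := by linear_combination q3
      exact (mul_eq_zero.1 this).resolve_right had
    subst hb hc
    have ha2 : (a - 1) * (a + 1) = 0 := by linear_combination q1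
    have hd2 : (d - 1) * (d + 1) = 0 := by linear_combination q4
    refine ⟨rfl, rfl, ?_, ?_⟩
    · rcases mul_eq_zero.1 ha2 with h | h
      · exact Or.inl (sub_eq_zero.1 h)
      · exact Or.inr (eq_neg_of_add_eq_zero_left h)
    · rcases mul_eq_zero.1 hd2 with h | h
      · exact Or.inl (sub_eq_zero.1 h)
      · exact Or.inr (eq_neg_of_add_eq_zero_left h)

open Matrix

/-- membership facts in terms of entries -/
theorem mem_entries (hF : Fintype.card F = 9) (g : GU2 F 3) :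
    (g.1.1 0 0 * g.1.1 0 0 ^ 3 + g.1.1 1 0 * g.1.1 1 0 ^ 3 = 1 ∧
     g.1.1 0 1 * g.1.1 0 1 ^ 3 + g.1.1 1 1 * g.1.1 1 1 ^ 3 = 1 ∧
     g.1.1 0 0 * g.1.1 0 1 ^ 3 + g.1.1 1 0 * g.1.1 1 1 ^ 3 = 0) :=
  (mem_iff (q := 3) (by rw [hF]; norm_num) g.1).1 g.2

theorem ext_iff' {g h : GU2 F 3} : g = h ↔ g.1.1 0 0 = h.1.1 0 0 ∧ g.1.1 0 1 = h.1.1 0 1 ∧
    g.1.1 1 0 = h.1.1 1 0 ∧ g.1.1 1 1 = h.1.1 1 1 := by
  constructor
  · rintro rfl; exact ⟨rfl, rfl, rfl, rfl⟩
  · rintro ⟨h1, h2, h3, h4⟩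
    apply Subtype.ext
    apply Units.ext
    ext i j
    fin_cases i <;> fin_cases j <;> assumption

theorem mul_e (g h : GU2 F 3) (i j : Fin 2) :
    (g * h).1.1 i j = g.1.1 i 0 * h.1.1 0 j + g.1.1 i 1 * h.1.1 1 j := by
  change (g.1.1 * h.1.1) i j = _
  rw [Matrix.mul_apply, Fin.sum_univ_two]

theorem one_e00 : (1 : GU2 F 3).1.1 0 0 = 1 := rfl
theorem one_e11 : (1 : GU2 F 3).1.1 1 1 = 1 := rfl
theorem one_e01 : (1 : GU2 F 3).1.1 0 1 = 0 := rfl
theorem one_e10 : (1 : GU2 F 3).1.1 1 0 = 0 := rfl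

/-- `a² = 1` in entries -/
theorem cases_sq (hF : Fintype.card F = 9) {g : GU2 F 3} (hg : g * g = 1) :
    (g.1.1 0 1 = 0 ∧ g.1.1 1 0 = 0 ∧ (g.1.1 0 0 = 1 ∨ g.1.1 0 0 = -1) ∧ (g.1.1 1 1 = 1 ∨ g.1.1 1 1 = -1)) ∨
      (g.1.1 0 0 = 0 ∧ g.1.1 1 1 = 0 ∧ g.1.1 0 1 ^ 4 = 1 ∧ g.1.1 1 0 = g.1.1 0 1 ^ 3) := by
  obtain ⟨h1, h2, h3⟩ := mem_entries hF g
  have e := ext_iff'.1 hg
  simp only [mul_e, one_e00, one_e01, one_e10, one_e11] at e
  obtain ⟨e1, e2, e3, e4⟩ := e
  exact entries hF h1 h2 h3 e1 e2 e3 e4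

theorem neg_one_mem (hF : Fintype.card F = 9) : (-1 : (Matrix (Fin 2) (Fin 2) F)ˣ) ∈ GU2 F 3 := by
  rw [mem_iff (q := 3) (by rw [hF]; norm_num)]
  refine ⟨?_, ?_, ?_⟩ <;> simp [Units.val_neg] <;> ring

/-- the central involution -/
def zz (hF : Fintype.card F = 9) : GU2 F 3 := ⟨-1, neg_one_mem hF⟩

theorem zz_e (hF : Fintype.card F = 9) : (zz hF).1.1 0 0 = -1 ∧ (zz hF).1.1 0 1 = 0 ∧ (zz hF).1.1 1 0 = 0 ∧
    (zz hF).1.1 1 1 = -1 := by
  refine ⟨?_, ?_, ?_, ?_⟩ <;> simp [zz, Units.val_neg]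

theorem one_ne_neg_one (hF : Fintype.card F = 9) : (1 : F) ≠ -1 := by
  intro h
  exact two_ne hF (by linear_combination h)

/-- diagonal involution -/
noncomputable def dd (hF : Fintype.card F = 9) (l : F) (hl : l ^ (3 + 1) = 1) (a : F) (ha : a ^ (3 + 1) = 1) : GU2 F 3 :=
  ⟨mkGL (q := 3) (a := a) (c := 0) (l := l) (by rw [ha]; simp) hl,
    mkGL_mem (q := 3) (by rw [hF]; norm_num) _ _⟩

theorem anti_aux {b : F} (hb : b ^ (3 + 1) = 1) :
    (0 : F) ^ (3 + 1) + (b ^ 3) ^ (3 + 1) = 1 := by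
  have : (b ^ 3) ^ (3 + 1) = (b ^ (3 + 1)) ^ 3 := by ring
  rw [this, hb]; simp

/-- antidiagonal involution -/
noncomputable def an (hF : Fintype.card F = 9) (b : {b : F // b ^ (3 + 1) = 1}) : GU2 F 3 :=
  ⟨mkGL (q := 3) (a := 0) (c := b.1 ^ 3) (l := -1) (anti_aux b.2) (by norm_num),
    mkGL_mem (q := 3) (by rw [hF]; norm_num) _ _⟩

theorem an_e (hF : Fintype.card F = 9) (b : {b : F // b ^ (3 + 1) = 1}) :
    (an hF b).1.1 0 0 = 0 ∧ (an hF b).1.1 0 1 = b.1 ∧ (an hF b).1.1 1 0 = b.1 ^ 3 ∧ (an hF b).1.1 1 1 = 0 := by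
  have h9 : b.1 ^ 9 = b.1 := by
    have := b.2
    calc b.1 ^ 9 = (b.1 ^ (3 + 1)) ^ 2 * b.1 := by ring
      _ = b.1 := by rw [this]; ring
  refine ⟨rfl, ?_, rfl, ?_⟩
  · change - (-1 : F) * (b.1 ^ 3) ^ 3 = b.1
    rw [neg_neg, one_mul, ← pow_mul, h9]
  · change (-1 : F) * 0 ^ 3 = 0
    ring

theorem dd_e (hF : Fintype.card F = 9) (l : F) (hl : l ^ (3 + 1) = 1) (a : F) (ha : a ^ (3 + 1) = 1) :
    (dd hF l hl a ha).1.1 0 0 = a ∧ (dd hF l hl a ha).1.1 0 1 = 0 ∧ (dd hF l hl a ha).1.1 1 0 = 0 ∧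
      (dd hF l hl a ha).1.1 1 1 = l * a ^ 3 := by
  refine ⟨rfl, ?_, rfl, rfl⟩
  change -l * 0 ^ 3 = 0
  ring

/-- `diag(1,-1)` -/
noncomputable def d1 (hF : Fintype.card F = 9) : GU2 F 3 := dd hF (-1) (by norm_num) 1 (by norm_num)
/-- `diag(-1,1)` -/
noncomputable def d2 (hF : Fintype.card F = 9) : GU2 F 3 := dd hF (-1) (by norm_num) (-1) (by norm_num)

theorem d1_e (hF : Fintype.card F = 9) : (d1 hF).1.1 0 0 = 1 ∧ (d1 hF).1.1 0 1 = 0 ∧ (d1 hF).1.1 1 0 = 0 ∧
    (d1 hF).1.1 1 1 = -1 := by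
  obtain ⟨h1, h2, h3, h4⟩ := dd_e hF (-1) (by norm_num) 1 (by norm_num)
  exact ⟨h1, h2, h3, by rw [d1, h4]; ring⟩

theorem d2_e (hF : Fintype.card F = 9) : (d2 hF).1.1 0 0 = -1 ∧ (d2 hF).1.1 0 1 = 0 ∧ (d2 hF).1.1 1 0 = 0 ∧
    (d2 hF).1.1 1 1 = 1 := by
  obtain ⟨h1, h2, h3, h4⟩ := dd_e hF (-1) (by norm_num) (-1) (by norm_num)
  exact ⟨h1, h2, h3, by rw [d2, h4]; ring⟩

theorem classify (hF : Fintype.card F = 9) {g : GU2 F 3} (hg : g * g = 1) (h1 : g ≠ 1) :
    g = zz hF ∨ g = d1 hF ∨ g = d2 hF ∨ ∃ b, g = an hF b := by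
  rcases cases_sq hF hg with ⟨hb, hc, ha, hd⟩ | ⟨ha, hd, hb, hc⟩
  · rcases ha with ha | ha <;> rcases hd with hd | hd
    · exact absurd (ext_iff'.2 ⟨ha, hb, hc, hd⟩) h1
    · right; left
      obtain ⟨e1, e2, e3, e4⟩ := d1_e hF
      exact ext_iff'.2 ⟨ha.trans e1.symm, hb.trans e2.symm, hc.trans e3.symm, hd.trans e4.symm⟩
    · right; right; left
      obtain ⟨e1, e2, e3, e4⟩ := d2_e hF
      exact ext_iff'.2 ⟨ha.trans e1.symm, hb.trans e2.symm, hc.trans e3.symm, hd.trans e4.symm⟩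
    · left
      obtain ⟨e1, e2, e3, e4⟩ := zz_e hF
      exact ext_iff'.2 ⟨ha.trans e1.symm, hb.trans e2.symm, hc.trans e3.symm, hd.trans e4.symm⟩
  · right; right; right
    refine ⟨⟨g.1.1 0 1, hb⟩, ?_⟩
    obtain ⟨e1, e2, e3, e4⟩ := an_e hF ⟨g.1.1 0 1, hb⟩
    exact ext_iff'.2 ⟨ha.trans e1.symm, e2.symm, hc.trans e3.symm, hd.trans e4.symm⟩

theorem zz_sq (hF : Fintype.card F = 9) : zz hF * zz hF = 1 := by
  rw [ext_iff']
  simp only [mul_e, one_e00, one_e01, one_e10, one_e11]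
  obtain ⟨e1, e2, e3, e4⟩ := zz_e hF
  simp [e1, e2, e3, e4]

theorem d1_sq (hF : Fintype.card F = 9) : d1 hF * d1 hF = 1 := by
  rw [ext_iff']
  simp only [mul_e, one_e00, one_e01, one_e10, one_e11]
  obtain ⟨e1, e2, e3, e4⟩ := d1_e hF
  simp [e1, e2, e3, e4]

theorem d2_sq (hF : Fintype.card F = 9) : d2 hF * d2 hF = 1 := by
  rw [ext_iff']
  simp only [mul_e, one_e00, one_e01, one_e10, one_e11]
  obtain ⟨e1, e2, e3, e4⟩ := d2_e hF
  simp [e1, e2, e3, e4]

theorem an_sq (hF : Fintype.card F = 9) (b) : an hF b * an hF b = 1 := by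
  rw [ext_iff']
  simp only [mul_e, one_e00, one_e01, one_e10, one_e11]
  obtain ⟨e1, e2, e3, e4⟩ := an_e hF b
  have hb := b.2
  rw [e1, e2, e3, e4]
  refine ⟨?_, ?_, ?_, ?_⟩
  · linear_combination hb
  · ring
  · ring
  · linear_combination hb

theorem zz_mul (hF : Fintype.card F = 9) (g : GU2 F 3) : (zz hF * g).1.1 0 0 = - g.1.1 0 0 ∧
    (zz hF * g).1.1 0 1 = - g.1.1 0 1 ∧ (zz hF * g).1.1 1 0 = - g.1.1 1 0 ∧ (zz hF * g).1.1 1 1 = - g.1.1 1 1 := by
  obtain ⟨e1, e2, e3, e4⟩ := zz_e hF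
  simp only [mul_e]
  rw [e1, e2, e3, e4]
  refine ⟨?_, ?_, ?_, ?_⟩ <;> ring

theorem zz_comm (hF : Fintype.card F = 9) (g : GU2 F 3) : Commute (zz hF) g := by
  change zz hF * g = g * zz hF
  rw [ext_iff']
  simp only [mul_e]
  obtain ⟨e1, e2, e3, e4⟩ := zz_e hF
  rw [e1, e2, e3, e4]
  refine ⟨?_, ?_, ?_, ?_⟩ <;> ring

theorem zz_mul_d1 (hF : Fintype.card F = 9) : zz hF * d1 hF = d2 hF := by
  obtain ⟨e1, e2, e3, e4⟩ := zz_mul hF (d1 hF)
  obtain ⟨f1, f2, f3, f4⟩ := d1_e hF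
  obtain ⟨g1, g2, g3, g4⟩ := d2_e hF
  rw [ext_iff']
  rw [e1, e2, e3, e4, f1, f2, f3, f4, g1, g2, g3, g4]
  refine ⟨rfl, neg_zero, neg_zero, neg_neg _⟩

theorem zz_mul_d2 (hF : Fintype.card F = 9) : zz hF * d2 hF = d1 hF := by
  rw [← zz_mul_d1, ← mul_assoc, zz_sq, one_mul]

theorem sq_d_an (hF : Fintype.card F = 9) (b) : d1 hF * an hF b * (d1 hF * an hF b) = zz hF := by
  obtain ⟨e1, e2, e3, e4⟩ := d1_e hF
  obtain ⟨f1, f2, f3, f4⟩ := an_e hF b
  obtain ⟨g1, g2, g3, g4⟩ := zz_e hF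
  have hb := b.2
  rw [ext_iff']
  simp only [mul_e]
  rw [e1, e2, e3, e4, f1, f2, f3, f4, g1, g2, g3, g4]
  refine ⟨?_, ?_, ?_, ?_⟩
  · linear_combination -hb
  · ring
  · ring
  · linear_combination -hb

theorem sq_comm {H : Type*} [Group H] {a b z : H} (hz : z * z = 1) (ha : a * a = 1) (hb : b * b = 1)
    (h : a * b * (a * b) = z) : b * a * (b * a) = z := by
  have h1 : (a * b)⁻¹ = b * a := by
    rw [_root_.mul_inv_rev, inv_eq_of_mul_eq_one_right ha, inv_eq_of_mul_eq_one_right hb]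
  rw [← h1, ← _root_.mul_inv_rev, h, inv_eq_of_mul_eq_one_right hz]

theorem sq_d2_an (hF : Fintype.card F = 9) (b) : d2 hF * an hF b * (d2 hF * an hF b) = zz hF := by
  rw [← zz_mul_d1]
  have h := sq_d_an hF b
  calc zz hF * d1 hF * an hF b * (zz hF * d1 hF * an hF b)
      = zz hF * (d1 hF * an hF b * zz hF) * (d1 hF * an hF b) := by group
    _ = (zz hF * zz hF) * (d1 hF * an hF b * (d1 hF * an hF b)) := by
        rw [← (zz_comm hF (d1 hF * an hF b)).eq]; group
    _ = zz hF := by rw [zz_sq, one_mul, h]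

theorem an_an (hF : Fintype.card F = 9) (b c : {b : F // b ^ (3 + 1) = 1}) :
    an hF c = an hF b ∨ an hF c = zz hF * an hF b ∨ an hF b * an hF c * (an hF b * an hF c) = zz hF := by
  have hb := b.2
  have hc := c.2
  have hw : (b.1 * c.1 ^ 3) ^ 4 = 1 := by
    calc (b.1 * c.1 ^ 3) ^ 4 = b.1 ^ (3 + 1) * (c.1 ^ (3 + 1)) ^ 3 := by ring
      _ = 1 := by rw [hb, hc]; ring
  have hbc : b.1 * c.1 ^ 3 * c.1 = b.1 := by
    calc b.1 * c.1 ^ 3 * c.1 = b.1 * c.1 ^ (3 + 1) := by ring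
      _ = b.1 := by rw [hc, mul_one]
  have h1 : ((b.1 * c.1 ^ 3) ^ 2 - 1) * ((b.1 * c.1 ^ 3) ^ 2 + 1) = 0 := by linear_combination hw
  rcases mul_eq_zero.1 h1 with h | h
  · have h2 : (b.1 * c.1 ^ 3 - 1) * (b.1 * c.1 ^ 3 + 1) = 0 := by linear_combination h
    rcases mul_eq_zero.1 h2 with h | h
    · left
      have : c = b := by
        apply Subtype.ext
        have e : b.1 * c.1 ^ 3 = 1 := sub_eq_zero.1 h
        rw [e, one_mul] at hbc
        exact hbc
      rw [this]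
    · right; left
      have e : b.1 * c.1 ^ 3 = -1 := eq_neg_of_add_eq_zero_left h
      rw [e] at hbc
      have hcb : c.1 = - b.1 := by linear_combination -hbc
      obtain ⟨e1, e2, e3, e4⟩ := zz_mul hF (an hF b)
      obtain ⟨f1, f2, f3, f4⟩ := an_e hF b
      obtain ⟨g1, g2, g3, g4⟩ := an_e hF c
      rw [ext_iff', e1, e2, e3, e4, f1, f2, f3, f4, g1, g2, g3, g4, hcb]
      refine ⟨neg_zero.symm, rfl, ?_, neg_zero.symm⟩
      ring
  · right; right
    obtain ⟨f1, f2, f3, f4⟩ := an_e hF b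
    obtain ⟨g1, g2, g3, g4⟩ := an_e hF c
    obtain ⟨e1, e2, e3, e4⟩ := zz_e hF
    have k1 : (b.1 * c.1 ^ 3) ^ 2 = -1 := eq_neg_of_add_eq_zero_left h
    have k2 : (b.1 ^ 3 * c.1) ^ 2 = -1 := by
      have : (b.1 ^ 3 * c.1) ^ 2 * ((b.1 * c.1 ^ 3) ^ 2) = 1 := by
        calc (b.1 ^ 3 * c.1) ^ 2 * ((b.1 * c.1 ^ 3) ^ 2) = (b.1 ^ (3 + 1) * c.1 ^ (3 + 1)) ^ 2 := by ring
          _ = 1 := by rw [hb, hc]; ring
      rw [k1] at this
      linear_combination -this
    rw [ext_iff']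
    simp only [mul_e]
    rw [f1, f2, f3, f4, g1, g2, g3, g4, e1, e2, e3, e4]
    refine ⟨?_, ?_, ?_, ?_⟩
    · linear_combination k1
    · ring
    · ring
    · linear_combination k2

theorem cube_eq_one (hF : Fintype.card F = 9) {p : F} (h : p ^ 3 = 1) : p = 1 := by
  have h3 := three_eq_zero hF
  have : (p - 1) ^ 3 = 0 := by linear_combination h - (p ^ 2 - p) * h3
  exact sub_eq_zero.1 (pow_eq_zero_iff (by norm_num) |>.1 this)

theorem three_d1 (hF : Fintype.card F = 9) {g : GU2 F 3} (hg : g * g * g = 1) (hc : g * d1 hF = d1 hF * g) :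
    g = 1 := by
  obtain ⟨e1, e2, e3, e4⟩ := d1_e hF
  rw [ext_iff'] at hc hg
  simp only [mul_e, one_e00, one_e01, one_e10, one_e11] at hc hg
  rw [e1, e2, e3, e4] at hc
  obtain ⟨_, c2, c3, _⟩ := hc
  have h01 : g.1.1 0 1 = 0 := by
    have : 2 * g.1.1 0 1 = 0 := by linear_combination -c2
    exact (mul_eq_zero.1 this).resolve_left (two_ne hF)
  have h10 : g.1.1 1 0 = 0 := by
    have : 2 * g.1.1 1 0 = 0 := by linear_combination c3
    exact (mul_eq_zero.1 this).resolve_left (two_ne hF)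
  rw [h01, h10] at hg
  obtain ⟨g1, _, _, g4⟩ := hg
  rw [ext_iff']
  exact ⟨cube_eq_one hF (by linear_combination g1), h01, h10, cube_eq_one hF (by linear_combination g4)⟩

theorem three_an (hF : Fintype.card F = 9) {g : GU2 F 3} (b : {b : F // b ^ (3 + 1) = 1}) (hg : g * g * g = 1)
    (hc : g * an hF b = an hF b * g) : g = 1 := by
  obtain ⟨e1, e2, e3, e4⟩ := an_e hF b
  have h3 := three_eq_zero hF
  have hb := b.2
  have hb0 : b.1 ≠ 0 := by
    intro h
    rw [h] at hb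
    simp at hb
  rw [ext_iff'] at hc hg
  simp only [mul_e, one_e00, one_e01, one_e10, one_e11] at hc hg
  rw [e1, e2, e3, e4] at hc
  obtain ⟨c1, c2, _, _⟩ := hc
  have h11 : g.1.1 1 1 = g.1.1 0 0 := by
    have : b.1 * (g.1.1 1 1 - g.1.1 0 0) = 0 := by linear_combination -c2
    exact sub_eq_zero.1 ((mul_eq_zero.1 this).resolve_left hb0)
  have h10 : g.1.1 1 0 = b.1 ^ 2 * g.1.1 0 1 := by
    have : b.1 * (g.1.1 1 0 - b.1 ^ 2 * g.1.1 0 1) = 0 := by linear_combination -c1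
    exact sub_eq_zero.1 ((mul_eq_zero.1 this).resolve_left hb0)
  rw [h11, h10] at hg
  obtain ⟨g1, g2, _, _⟩ := hg
  have p1 : g.1.1 0 0 = 1 := cube_eq_one hF (by
    linear_combination g1 - (b.1 ^ 2 * g.1.1 0 0 * g.1.1 0 1 ^ 2) * h3)
  have r0 : g.1.1 0 1 = 0 := by
    have : b.1 ^ 2 * g.1.1 0 1 ^ 3 = 0 := by linear_combination g2 - (g.1.1 0 0 ^ 2 * g.1.1 0 1) * h3
    have := (mul_eq_zero.1 this).resolve_left (pow_ne_zero 2 hb0)
    exact pow_eq_zero_iff (by norm_num) |>.1 this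
  rw [ext_iff']
  exact ⟨p1, r0, by rw [h10, r0, mul_zero]; rfl, by rw [h11]; exact p1⟩

theorem ne_of_e00 {g h : GU2 F 3} (hne : g.1.1 0 0 ≠ h.1.1 0 0) : g ≠ h := fun e => hne (by rw [e])
theorem ne_of_e11 {g h : GU2 F 3} (hne : g.1.1 1 1 ≠ h.1.1 1 1) : g ≠ h := fun e => hne (by rw [e])

/-- The model facts for `GU₂(3)`. -/
theorem locM (hF : Fintype.card F = 9) : LocM (GU2 F 3) (zz hF) := by
  have h1n := one_ne_neg_one hF
  have ho : ∀ {x : GU2 F 3}, x * x = 1 → x ≠ 1 → orderOf x = 2 := fun h h1 => orderOf_of h h1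
  have e11 : ((1 : GU2 F 3).1.1 0 0 : F) = 1 := rfl
  have e12 : ((1 : GU2 F 3).1.1 1 1 : F) = 1 := rfl
  have hz1 : zz hF ≠ 1 := ne_of_e00 (by rw [(zz_e hF).1, e11]; exact h1n.symm)
  have hd1 : d1 hF ≠ 1 := ne_of_e11 (by rw [(d1_e hF).2.2.2, e12]; exact h1n.symm)
  have hd2 : d2 hF ≠ 1 := ne_of_e00 (by rw [(d2_e hF).1, e11]; exact h1n.symm)
  have han : ∀ b, an hF b ≠ 1 := fun b => ne_of_e00 (by rw [(an_e hF b).1, e11]; exact zero_ne_one)
  have n1 : zz hF ≠ d1 hF := ne_of_e00 (by rw [(zz_e hF).1, (d1_e hF).1]; exact h1n.symm)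
  have n2 : zz hF ≠ d2 hF := ne_of_e11 (by rw [(zz_e hF).2.2.2, (d2_e hF).2.2.2]; exact h1n.symm)
  have n3 : d1 hF ≠ d2 hF := ne_of_e00 (by rw [(d1_e hF).1, (d2_e hF).1]; exact h1n)
  have n4 : ∀ b, zz hF ≠ an hF b := fun b => ne_of_e00 (by
    rw [(zz_e hF).1, (an_e hF b).1]; exact neg_ne_zero.2 one_ne_zero)
  have n5 : ∀ b, d1 hF ≠ an hF b := fun b => ne_of_e00 (by rw [(d1_e hF).1, (an_e hF b).1]; exact one_ne_zero)
  have n6 : ∀ b, d2 hF ≠ an hF b := fun b => ne_of_e00 (by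
    rw [(d2_e hF).1, (an_e hF b).1]; exact neg_ne_zero.2 one_ne_zero)
  have haninj : Function.Injective (an hF) := by
    intro b c h
    apply Subtype.ext
    rw [← (an_e hF b).2.1, ← (an_e hF c).2.1, h]
  have oz := ho (zz_sq hF) hz1
  have od1 := ho (d1_sq hF) hd1
  have od2 := ho (d2_sq hF) hd2
  have oan : ∀ b, orderOf (an hF b) = 2 := fun b => ho (an_sq hF b) (han b)
  have hcl : ∀ {g : GU2 F 3}, orderOf g = 2 → g = zz hF ∨ g = d1 hF ∨ g = d2 hF ∨ ∃ b, g = an hF b :=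
    fun h => classify hF (mul_self_of_orderOf h) (ne_one_of_orderOf h)
  -- products of involutions
  have key : ∀ a b : GU2 F 3, orderOf a = 2 → orderOf b = 2 → a ≠ zz hF → b ≠ zz hF →
      b = a ∨ b = zz hF * a ∨ a * b * (a * b) = zz hF := by
    intro a b ha hb hane hbne
    rcases hcl ha with rfl | rfl | rfl | ⟨x, rfl⟩
    · exact absurd rfl hane
    · rcases hcl hb with rfl | rfl | rfl | ⟨y, rfl⟩
      · exact absurd rfl hbne
      · exact Or.inl rfl
      · exact Or.inr (Or.inl (zz_mul_d1 hF).symm)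
      · exact Or.inr (Or.inr (sq_d_an hF y))
    · rcases hcl hb with rfl | rfl | rfl | ⟨y, rfl⟩
      · exact absurd rfl hbne
      · exact Or.inr (Or.inl (zz_mul_d2 hF).symm)
      · exact Or.inl rfl
      · exact Or.inr (Or.inr (sq_d2_an hF y))
    · rcases hcl hb with rfl | rfl | rfl | ⟨y, rfl⟩
      · exact absurd rfl hbne
      · exact Or.inr (Or.inr (sq_comm (zz_sq hF) (d1_sq hF) (an_sq hF x) (sq_d_an hF x)))
      · exact Or.inr (Or.inr (sq_comm (zz_sq hF) (d2_sq hF) (an_sq hF x) (sq_d2_an hF x)))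
      · exact an_an hF x y
  refine ⟨oz, zz_comm hF, ?_, ?_, ?_, ?_, ?_⟩
  · rw [card_GU2 (q := 3) (by rw [hF]; norm_num)]
  · have hset : {x : GU2 F 3 | orderOf x = 2} = {zz hF, d1 hF, d2 hF} ∪ Set.range (an hF) := by
      ext x
      simp only [Set.mem_ofPred_eq, Set.mem_union, Set.mem_insert_iff, Set.mem_singleton_iff, Set.mem_range]
      constructor
      · intro h
        rcases hcl h with h | h | h | ⟨b, h⟩
        · exact Or.inl (Or.inl h)
        · exact Or.inl (Or.inr (Or.inl h))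
        · exact Or.inl (Or.inr (Or.inr h))
        · exact Or.inr ⟨b, h.symm⟩
      · rintro ((rfl | rfl | rfl) | ⟨b, rfl⟩)
        · exact oz
        · exact od1
        · exact od2
        · exact oan b
    have hdisj : Disjoint ({zz hF, d1 hF, d2 hF} : Set (GU2 F 3)) (Set.range (an hF)) := by
      rw [Set.disjoint_left]
      rintro x (rfl | rfl | rfl) ⟨b, hb⟩
      · exact n4 b hb.symm
      · exact n5 b hb.symm
      · exact n6 b hb.symm
    rw [hset, Set.ncard_union_eq hdisj (Set.toFinite _) (Set.toFinite _)]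
    have c1 : ({zz hF, d1 hF, d2 hF} : Set (GU2 F 3)).ncard = 3 := by
      rw [Set.ncard_insert_of_notMem (by simp [n1, n2]) (Set.toFinite _), Set.ncard_pair n3]
    have c2 : (Set.range (an hF)).ncard = 4 := by
      rw [← Set.image_univ, Set.ncard_image_of_injective _ haninj, Set.ncard_univ]
      exact card_fibre (q := 3) (by rw [hF]; norm_num) one_ne_zero (one_pow 3)
    rw [c1, c2]
  · intro a b ha hb hab
    have hane : a ≠ zz hF := by rintro rfl; exact hab (zz_comm hF b)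
    have hbne : b ≠ zz hF := by rintro rfl; exact hab (zz_comm hF a).symm
    rcases key a b ha hb hane hbne with rfl | rfl | h
    · exact absurd (Commute.refl _) hab
    · exact absurd ((zz_comm hF a).symm.mul_right (Commute.refl a)) hab
    · exact h
  · intro a b ha hb hab hane hbne
    rcases key a b ha hb hane hbne with h | h | h
    · exact Or.inl h
    · exact Or.inr h
    · exfalso
      apply hz1
      rw [← h]
      calc a * b * (a * b) = a * (b * a) * b := by group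
        _ = (a * a) * (b * b) := by rw [← hab.eq]; group
        _ = 1 := by rw [mul_self_of_orderOf ha, mul_self_of_orderOf hb, one_mul]
  · intro a g ha hg hane hga
    have hg3 : g * g * g = 1 := by
      have : g ^ 3 = 1 := orderOf_dvd_iff_pow_eq_one.1 (dvd_of_eq hg)
      rwa [pow_succ, sq] at this
    have hg1 : g ≠ 1 := by
      rintro rfl
      rw [orderOf_one] at hg
      omega
    apply hg1
    rcases hcl ha with rfl | rfl | rfl | ⟨x, rfl⟩
    · exact absurd rfl hane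
    · exact three_d1 hF hg3 hga.eq
    · apply three_d1 hF hg3
      rw [← zz_mul_d2]
      exact ((zz_comm hF g).symm.mul_right hga).eq
    · exact three_an hF x hg3 hga.eq

/-- `LocAt` from `C(t) ≃ GU₂(3)`. -/
theorem locAt (hF : Fintype.card F = 9) {G : Type*} [Group G] [Finite G] {t : G} (ht : orderOf t = 2)
    (e : Subgroup.centralizer ({t} : Set G) ≃* Cfsg.GU 2 F 3) : LocAt t :=
  (locM hF).locAt ht e

end field

end Cfsg.Agent.Classification.RTwo.EndWRGU
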