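import Mathlib
import Cfsg.Prelude.Def_Sporadic
import Cfsg.Agent.S0197
import Cfsg.Agent.Classification.IdL3.Final

/-!
# Simple groups with an involution centralizer `GL₂(3)`
-/

set_option autoImplicit false

namespace Cfsg.Agent.Classification.RTwo.EndSD

open Matrix
open scoped MatrixGroups

theorem two_ne : (2 : ZMod 3) ≠ 0 := by decide

theorem card_gl : Nat.card (GL (Fin 2) (ZMod 3)) = 48 := by
  rw [Matrix.card_GL_field]
  simp [Fin.prod_univ_two]

/-- A simple group with one class of involutions, `C(t) ≃ GL₂(3)`: `PSL₃(3)` or order 7920. -/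
theorem psl_three_or_m11 {G : Type*} [Group G] [Finite G] [IsSimpleGroup G] (t : G) (ht : orderOf t = 2)
    (hone : ∀ s : G, orderOf s = 2 → IsConj t s)
    (e : Subgroup.centralizer ({t} : Set G) ≃* Matrix.GeneralLinearGroup (Fin 2) (ZMod 3)) :
    Nonempty (G ≃* Matrix.ProjectiveSpecialLinearGroup (Fin 3) (ZMod 3)) ∨ Cfsg.IsM11 G := by
  have p3 : Fact (Nat.Prime 3) := ⟨Nat.prime_three⟩
  rcases Cfsg.Agent.S0197.result t ht e with h | h
  · left
    refine Cfsg.Agent.Classification.IdL3.Final.psl3_of_index (F := ZMod 3) two_ne ⊥ bot_le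
      (by simp) ht (e.trans (QuotientGroup.quotientBot (G := GL (Fin 2) (ZMod 3))).symm) ?_ ?_
    · intro s hs
      obtain ⟨g, hg⟩ := isConj_iff.1 (hone s hs)
      exact ⟨g, hg⟩
    · have hc : Nat.card (Subgroup.centralizer ({t} : Set G)) = 48 := by
        rw [Nat.card_congr e.toEquiv]; exact card_gl
      have h1 := Subgroup.card_mul_index (Subgroup.centralizer ({t} : Set G))
      rw [hc, h] at h1
      rw [Nat.card_zmod]
      omega
  · exact Or.inr ⟨inferInstance, h⟩

end Cfsg.Agent.Classification.RTwo.EndSD
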