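import Mathlib
import Cfsg.Prelude.Def_CaseTheorems
import Cfsg.Agent.SporadicA.M11Final
import Cfsg.Agent.SporadicA.M11Facts2
import Cfsg.Agent.Lib.SolvableNormalP

/-!
# A simple group of order 7920 is not minimal simple

It acts sharply 4-transitively on 11 points; a nontrivial normal `p`-subgroup of the stabiliser of a point is
transitive on the remaining 10 points, so `10` divides a power of `p`.
-/

set_option autoImplicit false

namespace Cfsg.Agent.Classification.RTwo.Ends7920

open Cfsg Cfsg.Agent.SporadicA.SharpFour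

/-- A point stabiliser in a sharply 4-transitive group of degree 11 is not solvable. -/
theorem not_isSolvable_stabilizer {G X : Type*} [Group G] [Finite G] [MulAction G X] [Fintype X]
    (hX : Fintype.card X = 11) (h : Sharp4 G X) (x : X) :
    ¬ Group.IsSolvable (MulAction.stabilizer G x) := by
  classical
  intro hsol
  -- ten further points
  have hex : ∀ s : Finset X, s.card ≤ 10 → ∃ y, y ∉ s := by
    intro s hs
    by_contra hc
    push Not at hc
    have : s = Finset.univ := Finset.eq_univ_iff_forall.2 hc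
    rw [this, Finset.card_univ, hX] at hs
    omega
  obtain ⟨a, ha⟩ := hex {x} (by simp)
  obtain ⟨b, hb⟩ := hex {x, a} ((Finset.card_le_two).trans (by norm_num))
  obtain ⟨c, hc⟩ := hex {x, a, b} ((Finset.card_le_three).trans (by norm_num))
  simp only [Finset.mem_singleton] at ha
  simp only [Finset.mem_insert, Finset.mem_singleton, not_or] at hb hc
  -- the stabiliser is nontrivial
  have hnt : Nontrivial (MulAction.stabilizer G x) := by
    obtain ⟨g, h1, h2, h3, h4⟩ := h.exists_map x a b c x b a c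
      (nodup4_iff.2 ⟨Ne.symm ha, Ne.symm hb.1, Ne.symm hc.1, Ne.symm hb.2, Ne.symm hc.2.1,
        Ne.symm hc.2.2⟩)
      (nodup4_iff.2 ⟨Ne.symm hb.1, Ne.symm ha, Ne.symm hc.1, hb.2, Ne.symm hc.2.2,
        Ne.symm hc.2.1⟩)
    refine ⟨⟨⟨g, h1⟩, 1, fun hg => ?_⟩⟩
    have hg' : g = 1 := congrArg Subtype.val hg
    rw [hg', one_smul] at h2
    exact hb.2 h2.symm
  obtain ⟨p, N, hp, hN, hNp, -, hN1⟩ := Lib.SolvableNormalP.exists_normal_pSubgroup
    (MulAction.stabilizer G x)
  have : Fact p.Prime := ⟨hp⟩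
  obtain ⟨⟨n, hnN⟩, hn1'⟩ := Subgroup.ne_bot_iff_exists_ne_one.1 hN1
  have hn1 : n ≠ 1 := fun h => hn1' (Subtype.ext h)
  -- a moved point
  obtain ⟨y, hy⟩ : ∃ y : X, (n : G) • y ≠ y := by
    by_contra hc'
    push Not at hc'
    exact hn1 (Subtype.ext (h.eq_one (n : G) x a b c
      (nodup4_iff.2 ⟨Ne.symm ha, Ne.symm hb.1, Ne.symm hc.1, Ne.symm hb.2, Ne.symm hc.2.1,
        Ne.symm hc.2.2⟩) (hc' x) (hc' a) (hc' b) (hc' c)))
  have hyx : y ≠ x := by
    rintro rfl
    exact hy n.2
  have hnyx : (n : G) • y ≠ x := by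
    intro hh
    apply hyx
    have h1 : (n : G) • x = x := n.2
    exact MulAction.injective (n : G) (hh.trans h1.symm)
  have horb : MulAction.orbit N y = {z : X | z ≠ x} := by
    ext z
    change _ ↔ z ≠ x
    constructor
    · rintro ⟨m, rfl⟩ hh
      apply hyx
      have h1 : ((m : MulAction.stabilizer G x) : G) • x = x := (m : MulAction.stabilizer G x).2
      have h2 : ((m : MulAction.stabilizer G x) : G) • y = x := hh
      exact MulAction.injective _ (h2.trans h1.symm)
    · intro hz
      by_cases hzy : z = y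
      · rw [hzy]; exact MulAction.mem_orbit_self y
      obtain ⟨d, hd⟩ := hex {x, y, (n : G) • y} ((Finset.card_le_three).trans (by norm_num))
      obtain ⟨d', hd'⟩ := hex {x, y, z} ((Finset.card_le_three).trans (by norm_num))
      simp only [Finset.mem_insert, Finset.mem_singleton, not_or] at hd hd'
      obtain ⟨g, h1, h2, h3, h4⟩ := h.exists_map x y ((n : G) • y) d x y z d'
        (nodup4_iff.2 ⟨Ne.symm hyx, Ne.symm hnyx, Ne.symm hd.1, Ne.symm hy, Ne.symm hd.2.1,
          Ne.symm hd.2.2⟩)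
        (nodup4_iff.2 ⟨Ne.symm hyx, Ne.symm hz, Ne.symm hd'.1, Ne.symm hzy, Ne.symm hd'.2.1,
          Ne.symm hd'.2.2⟩)
      set g' : MulAction.stabilizer G x := ⟨g, h1⟩
      refine ⟨⟨g' * n * g'⁻¹, hN.conj_mem n hnN g'⟩, ?_⟩
      change (g * (n : G) * g⁻¹) • y = z
      have h5 : g⁻¹ • y = y := by rw [inv_smul_eq_iff, h2]
      rw [mul_smul, mul_smul, h5, h3]
  have hcard : Nat.card (MulAction.orbit N y) = 10 := by
    rw [horb]
    change Nat.card {z : X // z ≠ x} = 10
    rw [Nat.card_eq_fintype_card, Fintype.card_subtype_compl, hX]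
    simp
  obtain ⟨k, hk⟩ := hNp.card_orbit y
  rw [hcard] at hk
  have h2 : 2 = p := (Nat.prime_dvd_prime_iff_eq Nat.prime_two hp).1
    (Nat.prime_two.dvd_of_dvd_pow (by rw [← hk]; norm_num))
  have h5 : 5 = p := (Nat.prime_dvd_prime_iff_eq Nat.prime_five hp).1
    (Nat.prime_five.dvd_of_dvd_pow (by rw [← hk]; norm_num))
  omega

/-- A simple group of order 7920 is not minimal simple. -/
theorem not_isMinimalSimple {G : Type*} [Group G] [Finite G] (hG : IsM11 G) : ¬ IsMinimalSimple G := by
  intro hmin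
  have F : Cfsg.Agent.SporadicA.M11Final.Facts G :=
    { simple := hG.1
      card := hG.2
      two := fun x hx => Cfsg.Agent.SporadicA.M11Facts.card_centralizer_two hG hx
      three := fun x hx => Cfsg.Agent.SporadicA.M11Facts2.card_centralizer_three hG hx
      norm := fun P => Cfsg.Agent.SporadicA.M11Norm3.card_normalizer_three hG P
      irr := fun _ hχ hχ1 _ hy => Cfsg.Agent.SporadicA.M11Facts2.irr_five hG hχ hχ1 hy }
  obtain ⟨X, i1, i2, i3, hX, hs⟩ := F.exists_sharp4
  obtain ⟨x⟩ : Nonempty X := Fintype.card_pos_iff.1 (by rw [hX]; norm_num)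
  refine not_isSolvable_stabilizer hX hs x (hmin.2.2 _ fun htop => ?_)
  -- the stabiliser is proper
  have hex : ∃ y : X, y ≠ x := by
    by_contra hc
    push Not at hc
    have : Fintype.card X ≤ 1 := Fintype.card_le_one_iff.2 fun u v => by rw [hc u, hc v]
    omega
  obtain ⟨y, hy⟩ := hex
  have hex2 : ∀ s : Finset X, s.card ≤ 10 → ∃ y, y ∉ s := by
    intro s hs'
    by_contra hc
    push Not at hc
    have : s = Finset.univ := Finset.eq_univ_iff_forall.2 hc
    rw [this, Finset.card_univ, hX] at hs'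
    omega
  obtain ⟨b, hb⟩ := hex2 {x, y} ((Finset.card_le_two).trans (by norm_num))
  obtain ⟨c, hc⟩ := hex2 {x, y, b} ((Finset.card_le_three).trans (by norm_num))
  simp only [Finset.mem_insert, Finset.mem_singleton, not_or] at hb hc
  obtain ⟨g, h1, h2, h3, h4⟩ := hs.exists_map x y b c y x b c
    (nodup4_iff.2 ⟨Ne.symm hy, Ne.symm hb.1, Ne.symm hc.1, Ne.symm hb.2, Ne.symm hc.2.1,
      Ne.symm hc.2.2⟩)
    (nodup4_iff.2 ⟨hy, Ne.symm hb.2, Ne.symm hc.2.1, Ne.symm hb.1, Ne.symm hc.1,
      Ne.symm hc.2.2⟩)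
  have h5 : g ∈ MulAction.stabilizer G x := by rw [htop]; exact Subgroup.mem_top g
  rw [MulAction.mem_stabilizer_iff, h1] at h5
  exact hy h5

end Cfsg.Agent.Classification.RTwo.Ends7920
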