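import Mathlib
import Cfsg.Prelude.Def_LieClassical
import Cfsg.Agent.Transfer.SL23Recog
import Cfsg.Agent.Transfer.SL23Section
import Cfsg.Agent.TwoFusion.GUTwo

/-!
# Recognition of `GL(2,3)` and `GU(2,3)` by generators and relations

`i, j, t` as in `SLRel` (so `⟨i, j, t⟩` is a quotient of `SL(2,3)`), and one more element `d` with
`d t d⁻¹ = t⁻¹`, `d i d⁻¹ = i⁻¹` and `d ^ n = i ^ c`.
-/

set_option autoImplicit false

namespace Cfsg.Agent.Classification.RTwo.Recog

open Subgroup Cfsg.Agent.Transfer.SL23Recog Cfsg.Agent.Transfer.SL23Section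

/-- The relations of the extension. -/
structure ERel {M : Type*} [Group M] (n c : ℕ) (i j t d : M) : Prop extends SLRel i j t where
  ht : t ^ 3 = 1
  hdn : d ^ n = i ^ c
  hdt : d * t * d⁻¹ = t⁻¹
  hdi : d * i * d⁻¹ = i⁻¹

variable {M : Type*} [Group M] {n c : ℕ} {i j t d : M}

theorem ERel.conj_mem (h : ERel n c i j t d) {x : M} (hx : x ∈ closure ({i, j, t} : Set M)) :
    d * x * d⁻¹ ∈ closure ({i, j, t} : Set M) := by
  have hi' : i ∈ closure ({i, j, t} : Set M) := subset_closure (by simp)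
  have hj' : j ∈ closure ({i, j, t} : Set M) := subset_closure (by simp)
  have ht' : t ∈ closure ({i, j, t} : Set M) := subset_closure (by simp)
  induction hx using closure_induction with
  | mem y hy =>
    rcases hy with rfl | rfl | hy
    · rw [h.hdi]; exact inv_mem hi'
    · have e : d * y * d⁻¹ = t⁻¹ * i⁻¹ * t := by
        rw [← h.hti]
        calc d * (t * i * t⁻¹) * d⁻¹ = (d * t * d⁻¹) * (d * i * d⁻¹) * (d * t * d⁻¹)⁻¹ := by group
          _ = t⁻¹ * i⁻¹ * t := by rw [h.hdt, h.hdi, inv_inv]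
      rw [e]
      exact mul_mem (mul_mem (inv_mem ht') (inv_mem hi')) ht'
    · rw [Set.mem_singleton_iff] at hy
      subst hy
      rw [h.hdt]; exact inv_mem ht'
  | one => simp
  | mul y z _ _ hy hz =>
    have e : d * (y * z) * d⁻¹ = (d * y * d⁻¹) * (d * z * d⁻¹) := by group
    rw [e]; exact mul_mem hy hz
  | inv y _ hy =>
    have e : d * y⁻¹ * d⁻¹ = (d * y * d⁻¹)⁻¹ := by group
    rw [e]; exact inv_mem hy

theorem ERel.closure_eq (h : ERel n c i j t d) (hn : 0 < n) {x : M}
    (hx : x ∈ closure ({i, j, t, d} : Set M)) :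
    ∃ q ∈ closure ({i, j, t} : Set M), ∃ e : ℕ, e < n ∧ x = q * d ^ e := by
  have hi' : i ∈ closure ({i, j, t} : Set M) := subset_closure (by simp)
  have hj' : j ∈ closure ({i, j, t} : Set M) := subset_closure (by simp)
  have ht' : t ∈ closure ({i, j, t} : Set M) := subset_closure (by simp)
  have key : ∀ x ∈ closure ({i, j, t, d} : Set M), ∃ q ∈ closure ({i, j, t} : Set M), ∃ e : ℕ,
      x = q * d ^ e := by
    intro x hx
    induction hx using closure_induction_left with
    | one => exact ⟨1, one_mem _, 0, by simp⟩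
    | mul_left y hy z hz ih =>
      obtain ⟨q, hq, e, rfl⟩ := ih
      rcases hy with rfl | rfl | rfl | hy
      · exact ⟨y * q, mul_mem hi' hq, e, by rw [mul_assoc]⟩
      · exact ⟨y * q, mul_mem hj' hq, e, by rw [mul_assoc]⟩
      · exact ⟨y * q, mul_mem ht' hq, e, by rw [mul_assoc]⟩
      · rw [Set.mem_singleton_iff] at hy
        subst hy
        exact ⟨y * q * y⁻¹, h.conj_mem hq, e + 1, by rw [pow_succ']; group⟩
    | inv_mul_cancel y hy z hz ih =>
      obtain ⟨q, hq, e, rfl⟩ := ih
      rcases hy with rfl | rfl | rfl | hy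
      · exact ⟨y⁻¹ * q, mul_mem (inv_mem hi') hq, e, by rw [mul_assoc]⟩
      · exact ⟨y⁻¹ * q, mul_mem (inv_mem hj') hq, e, by rw [mul_assoc]⟩
      · exact ⟨y⁻¹ * q, mul_mem (inv_mem ht') hq, e, by rw [mul_assoc]⟩
      · rw [Set.mem_singleton_iff] at hy
        subst hy
        -- `y⁻¹ = y ^ (n-1) * i ^ -c`
        have h5 : y⁻¹ = y ^ (n - 1) * (i ^ c)⁻¹ := by
          rw [← h.hdn, ← pow_sub_one_mul (n := n) (by omega) y, mul_inv_rev]
          group
        have hpow : ∀ (k : ℕ) (q : M), q ∈ closure ({i, j, t} : Set M) →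
            y ^ k * q * (y ^ k)⁻¹ ∈ closure ({i, j, t} : Set M) := by
          intro k
          induction k with
          | zero => intro q hq; simpa using hq
          | succ k ih =>
            intro q hq
            have e : y ^ (k + 1) * q * (y ^ (k + 1))⁻¹ = y * (y ^ k * q * (y ^ k)⁻¹) * y⁻¹ := by
              rw [pow_succ']; group
            rw [e]
            exact h.conj_mem (ih q hq)
        refine ⟨y ^ (n - 1) * ((i ^ c)⁻¹ * q) * (y ^ (n - 1))⁻¹,
          hpow _ _ (mul_mem (inv_mem (pow_mem hi' _)) hq), (n - 1) + e, ?_⟩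
        rw [h5, pow_add]; group
  obtain ⟨q, hq, e, rfl⟩ := key x hx
  refine ⟨q * (i ^ c) ^ (e / n), mul_mem hq (pow_mem (pow_mem hi' _) _), e % n, Nat.mod_lt _ hn, ?_⟩
  rw [← h.hdn, ← pow_mul, mul_assoc, ← pow_add, Nat.div_add_mod]

theorem ERel.card_le (h : ERel n c i j t d) (hn : 0 < n) :
    Finite (closure ({i, j, t, d} : Set M)) ∧
      Nat.card (closure ({i, j, t, d} : Set M)) ≤ 24 * n := by
  obtain ⟨hf1, hc1⟩ := h.toSLRel.card_le h.ht
  have hle : closure ({i, j, t} : Set M) ≤ closure ({i, j, t, d} : Set M) := by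
    apply Subgroup.closure_mono
    intro x hx
    simp only [Set.mem_insert_iff, Set.mem_singleton_iff] at hx ⊢
    tauto
  have hd' : d ∈ closure ({i, j, t, d} : Set M) := subset_closure (by simp)
  let f : closure ({i, j, t} : Set M) × Fin n → closure ({i, j, t, d} : Set M) := fun w =>
    ⟨w.1.1 * d ^ (w.2 : ℕ), mul_mem (hle w.1.2) (pow_mem hd' _)⟩
  have hf : Function.Surjective f := by
    rintro ⟨x, hx⟩
    obtain ⟨q, hq, e, he, rfl⟩ := h.closure_eq hn hx
    exact ⟨(⟨q, hq⟩, ⟨e, he⟩), rfl⟩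
  refine ⟨Finite.of_surjective f hf, ?_⟩
  have := Nat.card_le_card_of_surjective f hf
  rw [Nat.card_prod, Nat.card_fin] at this
  exact this.trans (Nat.mul_le_mul_right n hc1)

theorem card_sl [Finite M] (h : SLRel i j t) (ht : t ^ 3 = 1) (hi2 : i ^ 2 ≠ 1) :
    Nat.card (closure ({i, j, t} : Set M)) = 24 := by
  have htne : t ≠ 1 := by
    intro h1
    have h2 := h.hti
    rw [h1] at h2
    have h3 : i = j := by simpa using h2
    have h4 := h.hji
    rw [← h3] at h4
    have h5 : i = i⁻¹ := by simpa using h4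
    apply hi2
    rw [sq]
    nth_rewrite 2 [h5]
    exact mul_inv_cancel i
  have hle : closure ({i, j} : Set M) ≤ closure ({i, j, t} : Set M) := by
    apply Subgroup.closure_mono
    intro x hx
    simp only [Set.mem_insert_iff, Set.mem_singleton_iff] at hx ⊢
    tauto
  have h8 : 8 ∣ Nat.card (closure ({i, j, t} : Set M)) := by
    have := Subgroup.card_dvd_of_le hle
    rwa [card_quaternion h.toQRel hi2] at this
  have h3 : 3 ∣ Nat.card (closure ({i, j, t} : Set M)) := by
    have h3' : orderOf t = 3 := orderOf_eq_prime ht htne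
    rw [← h3']
    have htm : t ∈ closure ({i, j, t} : Set M) := subset_closure (by simp)
    exact Subgroup.orderOf_dvd_natCard (closure ({i, j, t} : Set M)) htm
  have h24 : 24 ∣ Nat.card (closure ({i, j, t} : Set M)) :=
    Nat.Coprime.mul_dvd_of_dvd_of_dvd (by norm_num) h8 h3
  exact le_antisymm (h.card_le ht).2 (Nat.le_of_dvd Nat.card_pos h24)

theorem ERel.card_eq [Finite M] (h : ERel n c i j t d) (hn : 0 < n) (hi2 : i ^ 2 ≠ 1)
    (hd : ∀ k, 0 < k → k < n → d ^ k ∉ closure ({i, j, t} : Set M)) :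
    Nat.card (closure ({i, j, t, d} : Set M)) = 24 * n := by
  apply le_antisymm (h.card_le hn).2
  have hle : closure ({i, j, t} : Set M) ≤ closure ({i, j, t, d} : Set M) := by
    apply Subgroup.closure_mono
    intro x hx
    simp only [Set.mem_insert_iff, Set.mem_singleton_iff] at hx ⊢
    tauto
  have hd' : d ∈ closure ({i, j, t, d} : Set M) := subset_closure (by simp)
  let f : closure ({i, j, t} : Set M) × Fin n → closure ({i, j, t, d} : Set M) := fun w =>
    ⟨w.1.1 * d ^ (w.2 : ℕ), mul_mem (hle w.1.2) (pow_mem hd' _)⟩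
  have key : ∀ (q q' : closure ({i, j, t} : Set M)) (e e' : ℕ), e ≤ e' → e' < n →
      q.1 * d ^ e = q'.1 * d ^ e' → e = e' := by
    intro q q' e e' hee he' heq
    by_contra hne
    have h1 : d ^ e' = d ^ (e' - e) * d ^ e := by rw [← pow_add, Nat.sub_add_cancel hee]
    have h2 : q.1 = q'.1 * d ^ (e' - e) := by
      rw [h1, ← mul_assoc] at heq
      exact mul_right_cancel heq
    have h3 : d ^ (e' - e) = q'.1⁻¹ * q.1 := by rw [h2]; group
    apply hd (e' - e) (by omega) (by omega)
    rw [h3]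
    exact mul_mem (inv_mem q'.2) q.2
  have hf : Function.Injective f := by
    rintro ⟨q, e⟩ ⟨q', e'⟩ heq
    have h1 : q.1 * d ^ (e : ℕ) = q'.1 * d ^ (e' : ℕ) := congrArg Subtype.val heq
    have h2 : (e : ℕ) = e' := by
      rcases le_total (e : ℕ) e' with h3 | h3
      · exact key q q' e e' h3 e'.2 h1
      · exact (key q' q e' e h3 e.2 h1.symm).symm
    have h4 : e = e' := Fin.ext h2
    subst h4
    rw [Prod.mk.injEq]
    exact ⟨Subtype.ext (mul_right_cancel h1), rfl⟩
  have := Nat.card_le_card_of_injective f hf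
  rw [Nat.card_prod, Nat.card_fin, card_sl h.toSLRel h.ht hi2] at this
  exact this

theorem ERel.closure_eq_top [Finite M] (h : ERel n c i j t d) (hn : 0 < n) (hi2 : i ^ 2 ≠ 1)
    (hd : ∀ k, 0 < k → k < n → d ^ k ∉ closure ({i, j, t} : Set M))
    (hcard : Nat.card M = 24 * n) : closure ({i, j, t, d} : Set M) = ⊤ :=
  Subgroup.eq_top_of_card_eq _ (by rw [h.card_eq hn hi2 hd, hcard])

theorem ERel.subtype (H : Subgroup M) (h : ERel n c i j t d) (hi : i ∈ H) (hj : j ∈ H) (ht : t ∈ H)
    (hd : d ∈ H) : ERel n c (⟨i, hi⟩ : H) ⟨j, hj⟩ ⟨t, ht⟩ ⟨d, hd⟩ where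
  toSLRel := slrel_subtype H hi hj ht h.toSLRel
  ht := Subtype.ext h.ht
  hdn := Subtype.ext h.hdn
  hdt := Subtype.ext h.hdt
  hdi := Subtype.ext h.hdi

/-- Two groups of order `24 n` generated by quadruples satisfying the relations are isomorphic. -/
theorem nonempty_mulEquiv {M M' : Type*} [Group M] [Group M'] {n c : ℕ} (hn : 0 < n)
    {i j t d : M} {i' j' t' d' : M'}
    (h : ERel n c i j t d) (hgen : closure ({i, j, t, d} : Set M) = ⊤)
    (hcard : Nat.card M = 24 * n)
    (h' : ERel n c i' j' t' d') (hgen' : closure ({i', j', t', d'} : Set M') = ⊤)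
    (hcard' : Nat.card M' = 24 * n) : Nonempty (M ≃* M') := by
  let R : Subgroup (M × M') := closure ({(i, i'), (j, j'), (t, t'), (d, d')} : Set (M × M'))
  have hR : ERel n c (i, i') (j, j') (t, t') (d, d') :=
    { hi := by ext <;> simp [h.hi, h'.hi]
      hj := by ext <;> simp [h.hj, h'.hj]
      hji := by ext <;> simp [h.hji, h'.hji]
      hti := by ext <;> simp [h.hti, h'.hti]
      htj := by ext <;> simp [h.htj, h'.htj]
      ht := by ext <;> simp [h.ht, h'.ht]
      hdn := by ext <;> simp [h.hdn, h'.hdn]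
      hdt := by ext <;> simp [h.hdt, h'.hdt]
      hdi := by ext <;> simp [h.hdi, h'.hdi] }
  obtain ⟨hfin, hcardR⟩ := hR.card_le hn
  have hfin' : Finite R := hfin
  have hcardR' : Nat.card R ≤ 24 * n := hcardR
  have : Finite M := Nat.finite_of_card_ne_zero (by rw [hcard]; omega)
  have : Finite M' := Nat.finite_of_card_ne_zero (by rw [hcard']; omega)
  let f : R →* M := (MonoidHom.fst M M').comp R.subtype
  let f' : R →* M' := (MonoidHom.snd M M').comp R.subtype
  have hf : Function.Surjective f := by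
    rw [← MonoidHom.range_eq_top, eq_top_iff, ← hgen, closure_le]
    rintro x (rfl | rfl | rfl | hx)
    · exact ⟨⟨(x, i'), subset_closure (by simp)⟩, rfl⟩
    · exact ⟨⟨(x, j'), subset_closure (by simp)⟩, rfl⟩
    · exact ⟨⟨(x, t'), subset_closure (by simp)⟩, rfl⟩
    · rw [Set.mem_singleton_iff] at hx
      subst hx
      exact ⟨⟨(x, d'), subset_closure (by simp)⟩, rfl⟩
  have hf' : Function.Surjective f' := by
    rw [← MonoidHom.range_eq_top, eq_top_iff, ← hgen', closure_le]
    rintro x (rfl | rfl | rfl | hx)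
    · exact ⟨⟨(i, x), subset_closure (by simp)⟩, rfl⟩
    · exact ⟨⟨(j, x), subset_closure (by simp)⟩, rfl⟩
    · exact ⟨⟨(t, x), subset_closure (by simp)⟩, rfl⟩
    · rw [Set.mem_singleton_iff] at hx
      subst hx
      exact ⟨⟨(d, x), subset_closure (by simp)⟩, rfl⟩
  have h24 : Nat.card R = 24 * n := by
    have := Nat.card_le_card_of_surjective f hf
    rw [hcard] at this
    exact le_antisymm hcardR' this
  have hb : Function.Bijective f := by
    rw [Nat.bijective_iff_surjective_and_card]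
    exact ⟨hf, by rw [h24, hcard]⟩
  have hb' : Function.Bijective f' := by
    rw [Nat.bijective_iff_surjective_and_card]
    exact ⟨hf', by rw [h24, hcard']⟩
  exact ⟨(MulEquiv.ofBijective f hb).symm.trans (MulEquiv.ofBijective f' hb')⟩

section gl

local notation "GL23" => Matrix.GeneralLinearGroup (Fin 2) (ZMod 3)

/-- The embedding of `SL(2,3)` in `GL(2,3)`. -/
def emb : Matrix.SpecialLinearGroup (Fin 2) (ZMod 3) →* GL23 :=
  Matrix.SpecialLinearGroup.toGL

/-- the matrix `diag(1, -1)` -/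
def md : GL23 := ⟨!![1, 0; 0, -1], !![1, 0; 0, -1], by decide, by decide⟩

theorem erel_gl : ERel 2 0 (emb mi) (emb mj) (emb mt) md where
  toSLRel := slrel_map emb slrel_mi
  ht := by rw [← map_pow, mt_pow, map_one]
  hdn := by rw [pow_zero]; decide +kernel
  hdt := by
    rw [mul_inv_eq_iff_eq_mul]
    apply Units.ext
    decide +kernel
  hdi := by
    rw [mul_inv_eq_iff_eq_mul]
    apply Units.ext
    decide +kernel

theorem closure_gl : Subgroup.closure ({emb mi, emb mj, emb mt, md} : Set GL23) = ⊤ := by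
  have hle : (Subgroup.closure ({mi, mj, mt} : Set (Matrix.SpecialLinearGroup (Fin 2) (ZMod 3)))).map emb ≤
      Subgroup.closure ({emb mi, emb mj, emb mt, md} : Set GL23) := by
    rw [Subgroup.map_le_iff_le_comap, Subgroup.closure_le]
    rintro x (rfl | rfl | hx)
    · exact subset_closure (by simp)
    · exact subset_closure (by simp)
    · rw [Set.mem_singleton_iff] at hx
      subst hx
      exact subset_closure (by simp)
  rw [closure_mi] at hle
  have hmem : ∀ s : Matrix.SpecialLinearGroup (Fin 2) (ZMod 3),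
      emb s ∈ Subgroup.closure ({emb mi, emb mj, emb mt, md} : Set GL23) := fun s =>
    hle ⟨s, mem_top _, rfl⟩
  have hmd : md ∈ Subgroup.closure ({emb mi, emb mj, emb mt, md} : Set GL23) := subset_closure (by simp)
  have hdmd : (md : Matrix (Fin 2) (Fin 2) (ZMod 3)).det = -1 := by decide +kernel
  rw [eq_top_iff]
  intro g _
  have hdet : (g : Matrix (Fin 2) (Fin 2) (ZMod 3)).det = 1 ∨
      (g : Matrix (Fin 2) (Fin 2) (ZMod 3)).det = -1 := by
    have h0 : (g : Matrix (Fin 2) (Fin 2) (ZMod 3)).det ≠ 0 := by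
      have := (Matrix.isUnit_iff_isUnit_det _).mp g.isUnit
      exact this.ne_zero
    revert h0
    generalize (g : Matrix (Fin 2) (Fin 2) (ZMod 3)).det = a
    revert a
    decide
  rcases hdet with h1 | h1
  · have e : g = emb ⟨g, h1⟩ := by
      apply Units.ext
      rfl
    rw [e]; exact hmem _
  · have h2 : (g * md : GL23).1.det = 1 := by
      rw [Units.val_mul, Matrix.det_mul, h1, hdmd]; decide
    have e : g = emb ⟨(g * md : GL23).1, h2⟩ * md⁻¹ := by
      rw [eq_mul_inv_iff_mul_eq]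
      apply Units.ext
      rfl
    rw [e]; exact mul_mem (hmem _) (inv_mem hmd)

theorem card_gl : Nat.card GL23 = 24 * 2 := by
  rw [Matrix.card_GL_field, ZMod.card]
  decide

/-- Recognition of `GL(2,3)`. -/
theorem gl23 {H : Type*} [Group H] {i j t d : H} (h : ERel 2 0 i j t d)
    (hgen : Subgroup.closure ({i, j, t, d} : Set H) = ⊤) (hcard : Nat.card H = 48) :
    Nonempty (H ≃* GL23) :=
  nonempty_mulEquiv (by norm_num) h hgen (by rw [hcard]) erel_gl closure_gl card_gl

end gl

section gu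

variable {F : Type*} [Field F] [Fintype F]

open scoped Matrix

theorem three_eq_zero (hF : Fintype.card F = 3 ^ 2) : (3 : F) = 0 := by
  obtain ⟨p, hp⟩ := CharP.exists F
  obtain ⟨n, hprime, hn⟩ := FiniteField.card F p
  have h1 : p ∣ 3 ^ 2 := by
    rw [← hF, hn]
    exact dvd_pow_self p (by exact n.pos.ne')
  have h2 : p = 3 := (Nat.prime_dvd_prime_iff_eq hprime Nat.prime_three).mp (hprime.dvd_of_dvd_pow h1)
  subst h2
  exact_mod_cast CharP.cast_eq_zero F 3

theorem exists_sqrt (hF : Fintype.card F = 3 ^ 2) : ∃ w : F, w ^ 2 = -1 := by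
  obtain ⟨u, hu⟩ := Cfsg.Agent.TwoFusion.GUTwo.exists_primitiveRoot hF (d := 4) (by norm_num)
  refine ⟨u, ?_⟩
  have h4 : (u : F) ^ 4 = 1 := by
    have := pow_orderOf_eq_one u
    rw [hu] at this
    simpa using congrArg Units.val this
  have h2 : (u : F) ^ 2 ≠ 1 := by
    intro h
    have h3 : u ^ 2 = 1 := Units.ext (by simpa using h)
    have := orderOf_dvd_of_pow_eq_one h3
    rw [hu] at this
    norm_num at this
  have h5 : ((u : F) ^ 2 - 1) * ((u : F) ^ 2 + 1) = 0 := by linear_combination h4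
  rcases mul_eq_zero.mp h5 with h | h
  · exact absurd (sub_eq_zero.mp h) h2
  · linear_combination h

variable (w : F)

/-- the element `i` of `GU(2,3)` -/
def ui (hw : w ^ 2 = -1) : Matrix.GeneralLinearGroup (Fin 2) F :=
  ⟨!![w, 0; 0, -w], !![-w, 0; 0, w],
    by ext a b; fin_cases a <;> fin_cases b <;> simp [Matrix.mul_apply, Fin.sum_univ_two] <;> grind,
    by ext a b; fin_cases a <;> fin_cases b <;> simp [Matrix.mul_apply, Fin.sum_univ_two] <;> grind⟩

/-- the element `j` of `GU(2,3)` -/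
def uj : Matrix.GeneralLinearGroup (Fin 2) F :=
  ⟨!![0, 1; -1, 0], !![0, -1; 1, 0],
    by ext a b; fin_cases a <;> fin_cases b <;> simp [Matrix.mul_apply, Fin.sum_univ_two],
    by ext a b; fin_cases a <;> fin_cases b <;> simp [Matrix.mul_apply, Fin.sum_univ_two]⟩

/-- the element `t` of `GU(2,3)` -/
def ut (h3 : (3 : F) = 0) (hw : w ^ 2 = -1) : Matrix.GeneralLinearGroup (Fin 2) F :=
  ⟨!![1 + w, 1 + w; -1 + w, 1 - w], !![1 - w, -1 - w; 1 - w, 1 + w],
    by ext a b; fin_cases a <;> fin_cases b <;> simp [Matrix.mul_apply, Fin.sum_univ_two] <;> grind,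
    by ext a b; fin_cases a <;> fin_cases b <;> simp [Matrix.mul_apply, Fin.sum_univ_two] <;> grind⟩

/-- the element `d` of `GU(2,3)` -/
def ud (hw : w ^ 2 = -1) : Matrix.GeneralLinearGroup (Fin 2) F :=
  ⟨!![0, w; 1, 0], !![0, 1; -w, 0],
    by ext a b; fin_cases a <;> fin_cases b <;> simp [Matrix.mul_apply, Fin.sum_univ_two] <;> grind,
    by ext a b; fin_cases a <;> fin_cases b <;> simp [Matrix.mul_apply, Fin.sum_univ_two] <;> grind⟩

local macro "gutac" : tactic => `(tactic|
  (apply Units.ext; ext a b; fin_cases a <;> fin_cases b <;>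
    simp [ui, uj, ut, ud, Matrix.mul_apply, Fin.sum_univ_two, pow_succ] <;> grind))

omit [Fintype F] in
theorem slrel_gu (h3 : (3 : F) = 0) (hw : w ^ 2 = -1) : SLRel (ui w hw) (uj (F := F)) (ut w h3 hw) where
  hi := by gutac
  hj := by gutac
  hji := by rw [mul_inv_eq_iff_eq_mul]; gutac
  hti := by rw [mul_inv_eq_iff_eq_mul]; gutac
  htj := by rw [mul_inv_eq_iff_eq_mul]; gutac

omit [Fintype F] in
theorem erel_gu (h3 : (3 : F) = 0) (hw : w ^ 2 = -1) :
    ERel 4 2 (ui w hw) (uj (F := F)) (ut w h3 hw) (ud w hw) where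
  toSLRel := slrel_gu w h3 hw
  ht := by gutac
  hdn := by gutac
  hdt := by rw [mul_inv_eq_iff_eq_mul]; gutac
  hdi := by rw [mul_inv_eq_iff_eq_mul]; gutac

theorem mem_gu {F : Type*} [Field F] [Fintype F] (hF : Fintype.card F = 3 ^ 2) (w : F)
    (hw : w ^ 2 = -1) :
    ui w hw ∈ Cfsg.GU 2 F 3 ∧ uj (F := F) ∈ Cfsg.GU 2 F 3 ∧ ut w (three_eq_zero hF) hw ∈ Cfsg.GU 2 F 3 ∧
      ud w hw ∈ Cfsg.GU 2 F 3 := by
  have h3 : (3 : F) = 0 := three_eq_zero hF
  have key := fun g => (Cfsg.Agent.TwoFusion.GUTwo.mem_iff (q := 3) hF g).2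
  refine ⟨key _ ?_, key _ ?_, key _ ?_, key _ ?_⟩ <;> refine ⟨?_, ?_, ?_⟩ <;>
    simp [ui, uj, ut, ud] <;> grind

theorem card_gu (hF : Fintype.card F = 3 ^ 2) : Nat.card (Cfsg.GU 2 F 3) = 24 * 4 :=
  Cfsg.Agent.TwoFusion.GUTwo.card_GU2 (q := 3) hF

omit [Fintype F] in
/-- the determinant of a power of `d` -/
theorem det_ud (w : F) (hw : w ^ 2 = -1) (k : ℕ) : ((ud w hw ^ k : Matrix.GeneralLinearGroup (Fin 2) F) :
    Matrix (Fin 2) (Fin 2) F).det = (-w) ^ k := by
  rw [Units.val_pow_eq_pow_val, Matrix.det_pow]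
  congr 1
  simp [ud, Matrix.det_fin_two]

omit [Fintype F] in
theorem det_sl (h3 : (3 : F) = 0) (w : F) (hw : w ^ 2 = -1) (g : Matrix.GeneralLinearGroup (Fin 2) F)
    (hg : g ∈ Subgroup.closure ({ui w hw, uj (F := F), ut w h3 hw} : Set (Matrix.GeneralLinearGroup (Fin 2) F))) :
    (g : Matrix (Fin 2) (Fin 2) F).det = 1 := by
  have hle : Subgroup.closure ({ui w hw, uj (F := F), ut w h3 hw} :
      Set (Matrix.GeneralLinearGroup (Fin 2) F)) ≤
      (Matrix.GeneralLinearGroup.det (n := Fin 2) (R := F)).ker := by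
    rw [Subgroup.closure_le]
    rintro x (rfl | rfl | hx)
    · apply Units.ext
      simp [ui, Matrix.det_fin_two]
      grind
    · apply Units.ext
      simp [uj, Matrix.det_fin_two]
    · rw [Set.mem_singleton_iff] at hx
      subst hx
      apply Units.ext
      simp [ut, Matrix.det_fin_two]
      grind
  have := hle hg
  rw [MonoidHom.mem_ker] at this
  have h1 := congrArg Units.val this
  simpa using h1

/-- Recognition of `GU(2,3)`. -/
theorem gu23 {H : Type*} [Group H] {i j t d : H} (h : ERel 4 2 i j t d)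
    (hgen : Subgroup.closure ({i, j, t, d} : Set H) = ⊤) (hcard : Nat.card H = 96)
    (hF : Fintype.card F = 3 ^ 2) : Nonempty (H ≃* Cfsg.GU 2 F 3) := by
  obtain ⟨w, hw⟩ := exists_sqrt hF
  have h3 : (3 : F) = 0 := three_eq_zero hF
  obtain ⟨m1, m2, m3, m4⟩ := mem_gu hF w hw
  have hE := (erel_gu w h3 hw).subtype (Cfsg.GU 2 F 3) m1 m2 m3 m4
  have : Finite (Cfsg.GU 2 F 3) := Nat.finite_of_card_ne_zero (by rw [card_gu hF]; norm_num)
  have hw1 : w ≠ 1 := by
    rintro rfl
    have : (1 : F) = 0 := by linear_combination h3 - hw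
    exact one_ne_zero this
  have hgen' := hE.closure_eq_top (by norm_num) ?_ ?_ (card_gu hF)
  · exact nonempty_mulEquiv (by norm_num) h hgen (by rw [hcard]) hE hgen' (card_gu hF)
  · intro h1
    have h2 := congrArg (fun g : Cfsg.GU 2 F 3 => (g.1 : Matrix (Fin 2) (Fin 2) F) 0 0) h1
    simp [ui, pow_succ, Matrix.mul_apply, Fin.sum_univ_two] at h2
    grind
  · intro k hk0 hk4 hmem
    have h4 : (ud w hw) ^ k ∈ Subgroup.closure ({ui w hw, uj (F := F), ut w h3 hw} :
        Set (Matrix.GeneralLinearGroup (Fin 2) F)) := by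
      have h5 := Subgroup.mem_map_of_mem (Cfsg.GU 2 F 3).subtype hmem
      rw [MonoidHom.map_closure] at h5
      simpa [Set.image_insert_eq] using h5
    have h6 := det_sl h3 w hw _ h4
    rw [det_ud] at h6
    interval_cases k
    · rw [pow_one] at h6
      have h7 : w ^ 2 = 1 := by rw [← neg_neg w, h6]; ring
      have : (1 : F) = 0 := by linear_combination h3 + h7 - hw
      exact one_ne_zero this
    · have : (1 : F) = 0 := by linear_combination h3 + h6 - hw
      exact one_ne_zero this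
    · have : w = 1 := by linear_combination h6 + w * hw
      exact hw1 this

end gu

end Cfsg.Agent.Classification.RTwo.Recog
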