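import Mathlib
import Cfsg.Prelude.Def_Balance
import Cfsg.Prelude.Def_LieClassical
import Cfsg.Agent.Lib.Cores
import Cfsg.Agent.Classification.RTwo.Recog

/-!
# The balance condition for the core kill lemma

If every involution `v` of `G` has a homomorphism `π v` of its centralizer onto a group `Q` (with
`π v v = z`) with odd kernel and in `Q` the elements of odd order centralizing an involution other than
`z` are trivial, then `O(C(t)) ∩ C(s) ≤ O(C(s))` for all `2`-elements `s ≠ 1` of `C(t)`.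
-/

set_option autoImplicit false

open Cfsg

namespace Cfsg.Agent.Classification.RTwo.Balance

open Subgroup

section balance

variable {G : Type*} [Group G] [Finite G]

theorem le_pPrimeCore {H : Type*} [Group H] {p : ℕ} (N : Subgroup H) (hN : N.Normal)
    (hc : (Nat.card N).Coprime p) : N ≤ Cfsg.pPrimeCore p H :=
  le_sSup ⟨hN, hc⟩

omit [Finite G] in
theorem mem_cent_iff {v k : G} {p : ℕ} : k ∈ centralizerPPrimeCore p v ↔
    ∃ h : k ∈ Subgroup.centralizer ({v} : Set G),
      (⟨k, h⟩ : Subgroup.centralizer ({v} : Set G)) ∈ pPrimeCore p (Subgroup.centralizer ({v} : Set G)) := by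
  constructor
  · rintro ⟨⟨k, hk⟩, h, rfl⟩
    exact ⟨hk, h⟩
  · rintro ⟨h, h'⟩
    exact ⟨⟨k, h⟩, h', rfl⟩

theorem mem_of_zpowers {s v k : G} {p : ℕ} (hv : v ∈ zpowers s) (hk : k ∈ centralizerPPrimeCore p v)
    (hsk : s * k = k * s) : k ∈ centralizerPPrimeCore p s := by
  obtain ⟨hkv, hk'⟩ := mem_cent_iff.1 hk
  have hks : k ∈ Subgroup.centralizer ({s} : Set G) := by
    rw [Subgroup.mem_centralizer_singleton_iff]; exact hsk.symm
  have hle : Subgroup.centralizer ({s} : Set G) ≤ Subgroup.centralizer ({v} : Set G) := by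
    intro x hx
    rw [Subgroup.mem_centralizer_singleton_iff] at hx ⊢
    obtain ⟨m, rfl⟩ := mem_zpowers_iff.1 hv
    exact (Commute.zpow_right (show Commute x s from hx) m)
  refine mem_cent_iff.2 ⟨hks, ?_⟩
  let f : Subgroup.centralizer ({s} : Set G) →* Subgroup.centralizer ({v} : Set G) :=
    Subgroup.inclusion hle
  have hn : ((pPrimeCore p (Subgroup.centralizer ({v} : Set G))).comap f).Normal :=
    (Cfsg.Agent.Lib.Cores.pPrimeCore_normal p).comap f
  apply le_pPrimeCore _ hn
  · have h1 : Nat.card ((pPrimeCore p (Subgroup.centralizer ({v} : Set G))).comap f) ∣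
        Nat.card (pPrimeCore p (Subgroup.centralizer ({v} : Set G))) :=
      Subgroup.card_comap_dvd_of_injective _ f (Subgroup.inclusion_injective hle)
    exact Nat.Coprime.coprime_dvd_left h1 (Cfsg.Agent.Lib.Cores.pPrimeCore_coprime p)
  · exact hk'

/-- The balance condition. -/
theorem balance {Q : Type*} [Group Q] (z : Q)
    (hQ : ∀ a : Q, orderOf a = 2 → a ≠ z → ∀ k : Q, Odd (orderOf k) → k * a = a * k → k = 1)
    (hπ : ∀ v : G, orderOf v = 2 → ∃ π : Subgroup.centralizer ({v} : Set G) →* Q,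
      Odd (Nat.card π.ker) ∧ ∀ h : v ∈ Subgroup.centralizer ({v} : Set G), π ⟨v, h⟩ = z)
    (t : G) (_ht : orderOf t = 2) {S : Subgroup G} (hS : IsPGroup 2 S) (hSt : ∀ s ∈ S, s * t = t * s) :
    ∀ s ∈ S, s ≠ 1 → ∀ k ∈ centralizerPPrimeCore 2 t, s * k = k * s →
      k ∈ centralizerPPrimeCore 2 s := by
  intro s hs hs1 k hk hsk
  -- an involution in `⟨s⟩`
  obtain ⟨v, hvs, hv⟩ : ∃ v ∈ zpowers s, orderOf v = 2 := by
    obtain ⟨m, hm⟩ := hS ⟨s, hs⟩
    have hm' : s ^ 2 ^ m = 1 := congrArg Subtype.val hm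
    obtain ⟨n, hn, hn'⟩ := (Nat.dvd_prime_pow Nat.prime_two).1 (orderOf_dvd_of_pow_eq_one hm')
    have hn0 : n ≠ 0 := by
      rintro rfl
      rw [pow_zero, orderOf_eq_one_iff] at hn'
      exact hs1 hn'
    refine ⟨s ^ 2 ^ (n - 1), pow_mem (mem_zpowers s) _, ?_⟩
    rw [orderOf_pow' s (by positivity), hn',
      Nat.gcd_eq_right (pow_dvd_pow 2 (Nat.sub_le n 1)), Nat.pow_div (Nat.sub_le n 1) two_pos]
    have : n - (n - 1) = 1 := by omega
    rw [this, pow_one]
  by_cases hvt : v = t
  · subst hvt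
    exact mem_of_zpowers hvs hk hsk
  refine mem_of_zpowers hvs ?_ hsk
  obtain ⟨hkt, hk'⟩ := mem_cent_iff.1 hk
  rw [Subgroup.mem_centralizer_singleton_iff] at hkt
  have hkv : k * v = v * k := by
    obtain ⟨m, rfl⟩ := mem_zpowers_iff.1 hvs
    exact (Commute.zpow_right (show Commute k s from hsk.symm) m)
  have htv : t * v = v * t := by
    obtain ⟨m, rfl⟩ := mem_zpowers_iff.1 hvs
    exact (Commute.zpow_right (show Commute t s from (hSt s hs).symm) m)
  have hkodd : Odd (orderOf k) := by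
    have h1 : orderOf (⟨⟨k, mem_cent_iff.1 hk |>.1⟩, hk'⟩ :
        pPrimeCore 2 (Subgroup.centralizer ({t} : Set G))) = orderOf k := by
      rw [← Subgroup.orderOf_coe, ← Subgroup.orderOf_coe]
    rw [← h1]
    have h2 := orderOf_dvd_natCard (⟨⟨k, mem_cent_iff.1 hk |>.1⟩, hk'⟩ :
        pPrimeCore 2 (Subgroup.centralizer ({t} : Set G)))
    have h3 := Nat.Coprime.coprime_dvd_left h2
      (Cfsg.Agent.Lib.Cores.pPrimeCore_coprime (G := Subgroup.centralizer ({t} : Set G)) 2)
    exact Nat.coprime_two_right.1 h3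
  obtain ⟨π, hodd, hπz⟩ := hπ v hv
  have hvv : v ∈ Subgroup.centralizer ({v} : Set G) := by
    rw [Subgroup.mem_centralizer_singleton_iff]
  have hkC : k ∈ Subgroup.centralizer ({v} : Set G) := by
    rw [Subgroup.mem_centralizer_singleton_iff]; exact hkv
  have htC : t ∈ Subgroup.centralizer ({v} : Set G) := by
    rw [Subgroup.mem_centralizer_singleton_iff]; exact htv
  have ht1 : t * t = 1 := by rw [← sq, ← _ht, pow_orderOf_eq_one]
  have hv1 : v * v = 1 := by rw [← sq, ← hv, pow_orderOf_eq_one]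
  -- elements of the kernel of square one are trivial
  have hker : ∀ x : Subgroup.centralizer ({v} : Set G), π x = 1 → x * x = 1 → x = 1 := by
    intro x hx hx2
    have h1 : orderOf (⟨x, hx⟩ : π.ker) ∣ 2 :=
      orderOf_dvd_of_pow_eq_one (Subtype.ext (by rw [Subgroup.coe_pow, sq]; exact hx2))
    have h2 : orderOf (⟨x, hx⟩ : π.ker) ∣ Nat.card π.ker := orderOf_dvd_natCard _
    have h3 : orderOf (⟨x, hx⟩ : π.ker) ∣ Nat.gcd 2 (Nat.card π.ker) := Nat.dvd_gcd h1 h2
    have h4 : Nat.gcd 2 (Nat.card π.ker) = 1 := Nat.coprime_two_left.2 hodd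
    rw [h4, Nat.dvd_one, orderOf_eq_one_iff] at h3
    exact congrArg Subtype.val h3
  have hπt2 : π ⟨t, htC⟩ * π ⟨t, htC⟩ = 1 := by
    rw [← map_mul, ← map_one π]; congr 1; exact Subtype.ext ht1
  have hπt1 : π ⟨t, htC⟩ ≠ 1 := by
    intro h
    have h1 := hker _ h (Subtype.ext ht1)
    have h2 : t = 1 := congrArg Subtype.val h1
    rw [h2, orderOf_one] at _ht
    exact absurd _ht (by norm_num)
  have hπto : orderOf (π ⟨t, htC⟩) = 2 := orderOf_eq_prime (by rw [sq]; exact hπt2) hπt1
  have hπtz : π ⟨t, htC⟩ ≠ z := by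
    intro h
    have h1 : π (⟨t, htC⟩ * ⟨v, hvv⟩) = 1 := by
      rw [map_mul, hπz hvv, ← h]; exact hπt2
    have h2 := hker _ h1 (by
      apply Subtype.ext
      show (t * v) * (t * v) = 1
      calc t * v * (t * v) = t * (v * t) * v := by group
        _ = t * (t * v) * v := by rw [htv]
        _ = (t * t) * (v * v) := by group
        _ = 1 := by rw [ht1, hv1, one_mul])
    have h3 : t * v = 1 := congrArg Subtype.val h2
    apply hvt
    calc v = t * t * v := by rw [ht1, one_mul]
      _ = t * (t * v) := by group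
      _ = t := by rw [h3, mul_one]
  have hπk : π ⟨k, hkC⟩ = 1 := by
    apply hQ _ hπto hπtz
    · have h1 : orderOf (π ⟨k, hkC⟩) ∣ orderOf (⟨k, hkC⟩ : Subgroup.centralizer ({v} : Set G)) :=
        orderOf_map_dvd π _
      rw [← Subgroup.orderOf_coe] at h1
      exact hkodd.of_dvd_nat h1
    · rw [← map_mul, ← map_mul]
      congr 1
      exact Subtype.ext hkt
  refine mem_cent_iff.2 ⟨hkC, ?_⟩
  exact le_pPrimeCore π.ker inferInstance (Nat.coprime_two_right.2 hodd) hπk

end balance

section matrices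

variable {F : Type*} [Field F]

/-- A matrix commuting with an involution `A ≠ ±1` has the form `s + r A`. -/
theorem exists_eq (h2 : (2 : F) ≠ 0) (A K : Matrix (Fin 2) (Fin 2) F) (hA : A * A = 1) (hA1 : A ≠ 1)
    (hA2 : A ≠ -1) (h : K * A = A * K) : ∃ s r : F, K = s • (1 : Matrix (Fin 2) (Fin 2) F) + r • A := by
  have e00 := congrFun (congrFun hA 0) 0
  have e01 := congrFun (congrFun hA 0) 1
  have e10 := congrFun (congrFun hA 1) 0
  have e11 := congrFun (congrFun hA 1) 1
  have k00 := congrFun (congrFun h 0) 0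
  have k01 := congrFun (congrFun h 0) 1
  have k10 := congrFun (congrFun h 1) 0
  simp only [Matrix.mul_apply, Fin.sum_univ_two, Matrix.one_apply_eq, ne_eq, zero_ne_one,
    not_false_eq_true, Matrix.one_apply_ne, one_ne_zero] at e00 e01 e10 e11 k00 k01 k10
  have htr : A 0 0 + A 1 1 = 0 := by
    by_contra hne
    have h01 : A 0 1 = 0 := by
      have : A 0 1 * (A 0 0 + A 1 1) = 0 := by linear_combination e01
      exact (mul_eq_zero.1 this).resolve_right hne
    have h10 : A 1 0 = 0 := by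
      have : A 1 0 * (A 0 0 + A 1 1) = 0 := by linear_combination e10
      exact (mul_eq_zero.1 this).resolve_right hne
    rw [h01] at e00 e11
    have h3 : (A 0 0 - A 1 1) * (A 0 0 + A 1 1) = 0 := by linear_combination e00 - e11
    have h4 : A 0 0 = A 1 1 := sub_eq_zero.1 ((mul_eq_zero.1 h3).resolve_right hne)
    have h5 : (A 0 0 - 1) * (A 0 0 + 1) = 0 := by linear_combination e00
    rcases mul_eq_zero.1 h5 with h6 | h6
    · apply hA1
      ext i j
      fin_cases i <;> fin_cases j
      · simpa using sub_eq_zero.1 h6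
      · simpa using h01
      · simpa using h10
      · simpa [← h4] using sub_eq_zero.1 h6
    · apply hA2
      have h7 : A 0 0 = -1 := by linear_combination h6
      ext i j
      fin_cases i <;> fin_cases j
      · simpa using h7
      · simpa using h01
      · simpa using h10
      · simpa [← h4] using h7
  have h11 : A 1 1 = -A 0 0 := by linear_combination htr
  rw [h11] at k01 k10
  refine ⟨(K 0 0 + K 1 1) / 2, ((K 0 0 - K 1 1) * A 0 0 + K 0 1 * A 1 0 + K 1 0 * A 0 1) / 2, ?_⟩
  ext i j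
  fin_cases i <;> fin_cases j <;>
    simp only [Fin.zero_eta, Fin.mk_one, Matrix.add_apply, Matrix.smul_apply, smul_eq_mul,
      Matrix.one_apply_eq, ne_eq, zero_ne_one, not_false_eq_true, Matrix.one_apply_ne, one_ne_zero,
      Fin.isValue] <;> field_simp
  · clear hA hA1 hA2 h
    generalize A 0 0 = a at *
    generalize A 0 1 = b at *
    generalize A 1 0 = c at *
    generalize K 0 0 = x at *
    generalize K 0 1 = y at *
    generalize K 1 0 = z at *
    generalize K 1 1 = w at *
    grind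
  · clear hA hA1 hA2 h
    generalize A 0 0 = a at *
    generalize A 0 1 = b at *
    generalize A 1 0 = c at *
    generalize K 0 0 = x at *
    generalize K 0 1 = y at *
    generalize K 1 0 = z at *
    generalize K 1 1 = w at *
    grind
  · clear hA hA1 hA2 h
    generalize A 0 0 = a at *
    generalize A 0 1 = b at *
    generalize A 1 0 = c at *
    generalize K 0 0 = x at *
    generalize K 0 1 = y at *
    generalize K 1 0 = z at *
    generalize K 1 1 = w at *
    grind
  · clear hA hA1 hA2 h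
    rw [h11]
    generalize A 0 0 = a at *
    generalize A 0 1 = b at *
    generalize A 1 0 = c at *
    generalize K 0 0 = x at *
    generalize K 0 1 = y at *
    generalize K 1 0 = z at *
    generalize K 1 1 = w at *
    grind

theorem pow_three (h3 : (3 : F) = 0) (A : Matrix (Fin 2) (Fin 2) F) (hA : A * A = 1) (s r : F) :
    (s • (1 : Matrix (Fin 2) (Fin 2) F) + r • A) ^ 3 =
      s ^ 3 • (1 : Matrix (Fin 2) (Fin 2) F) + r ^ 3 • A := by
  have h1 : (s • (1 : Matrix (Fin 2) (Fin 2) F) + r • A) * (s • (1 : Matrix (Fin 2) (Fin 2) F) + r • A) =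
      (s ^ 2 + r ^ 2) • (1 : Matrix (Fin 2) (Fin 2) F) + (2 * s * r) • A := by
    simp only [mul_add, add_mul, smul_mul_smul_comm, mul_one, one_mul, hA]
    module
  rw [pow_succ, sq, h1]
  simp only [mul_add, add_mul, smul_mul_smul_comm, mul_one, one_mul, hA]
  have e1 : s ^ 3 = (s ^ 2 + r ^ 2) * s + 2 * s * r * r := by linear_combination (- s * r ^ 2) * h3
  have e2 : r ^ 3 = (s ^ 2 + r ^ 2) * r + 2 * s * r * s := by linear_combination (- s ^ 2 * r) * h3
  rw [e1, e2]
  module

theorem pow_nine (h3 : (3 : F) = 0) (A : Matrix (Fin 2) (Fin 2) F) (hA : A * A = 1) (s r : F) :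
    (s • (1 : Matrix (Fin 2) (Fin 2) F) + r • A) ^ 9 =
      s ^ 9 • (1 : Matrix (Fin 2) (Fin 2) F) + r ^ 9 • A := by
  rw [show (9 : ℕ) = 3 * 3 by norm_num, pow_mul, pow_three h3 A hA, pow_three h3 A hA, ← pow_mul,
    ← pow_mul]

theorem two_ne_zero' (h3 : (3 : F) = 0) : (2 : F) ≠ 0 := by
  intro h2
  exact one_ne_zero (α := F) (by linear_combination h3 - h2)

/-- In `GL(2, F)`, `|F|` a power `3^m` with `x ^ q = x` on `F`, elements of odd order commuting with an
involution other than `-1` are trivial. -/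
theorem odd_comm {m : ℕ} (h3 : (3 : F) = 0) (hm : ∀ x : F, x ^ (2 ^ m + 1) = x)
    (hpow : ∀ (A : Matrix (Fin 2) (Fin 2) F), A * A = 1 → ∀ s r : F,
      (s • (1 : Matrix (Fin 2) (Fin 2) F) + r • A) ^ (2 ^ m + 1) =
      s ^ (2 ^ m + 1) • (1 : Matrix (Fin 2) (Fin 2) F) + r ^ (2 ^ m + 1) • A)
    (a k : Matrix.GeneralLinearGroup (Fin 2) F) (ha : orderOf a = 2) (ha' : a ≠ -1)
    (hk : Odd (orderOf k)) (hka : k * a = a * k) : k = 1 := by
  have h2 : a * a = 1 := by
    have := pow_orderOf_eq_one a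
    rwa [ha, sq] at this
  have h1 : a ≠ 1 := by rintro rfl; simp at ha
  have h2' : a.1 * a.1 = 1 := congrArg Units.val h2
  obtain ⟨s, r, hsr⟩ := exists_eq (two_ne_zero' h3) a.1 k.1 h2'
    (fun h => h1 (Units.ext h)) (fun h => ha' (Units.ext h)) (congrArg Units.val hka)
  have h4 : k ^ (2 ^ m + 1) = k := by
    apply Units.ext
    rw [Units.val_pow_eq_pow_val, hsr, hpow _ h2', hm, hm]
  have h5 : k ^ (2 ^ m) = 1 := by
    rw [pow_succ] at h4
    exact mul_eq_right.1 h4
  have h6 := orderOf_dvd_of_pow_eq_one h5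
  obtain ⟨j, hj, hj'⟩ := (Nat.dvd_prime_pow Nat.prime_two).1 h6
  rw [hj'] at hk
  have h7 : j = 0 := by
    by_contra hj0
    obtain ⟨i, rfl⟩ := Nat.exists_eq_succ_of_ne_zero hj0
    rw [pow_succ] at hk
    exact (Nat.not_even_iff_odd.2 hk) (even_two.mul_left _)
  rw [h7, pow_zero, orderOf_eq_one_iff] at hj'
  exact hj'

theorem gl_odd (a k : Matrix.GeneralLinearGroup (Fin 2) (ZMod 3)) (ha : orderOf a = 2) (ha' : a ≠ -1)
    (hk : Odd (orderOf k)) (hka : k * a = a * k) : k = 1 := by
  have h3 : (3 : ZMod 3) = 0 := by decide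
  refine odd_comm (m := 1) h3 (by decide) ?_ a k ha ha' hk hka
  intro A hA s r
  exact pow_three h3 A hA s r

variable [Fintype F]

theorem gu_odd (hF : Fintype.card F = 3 ^ 2) (a k : Cfsg.GU 2 F 3) (ha : orderOf a = 2)
    (ha' : (a : Matrix.GeneralLinearGroup (Fin 2) F) ≠ -1)
    (hk : Odd (orderOf k)) (hka : k * a = a * k) : k = 1 := by
  have h3 : (3 : F) = 0 := Recog.three_eq_zero hF
  apply Subtype.ext
  refine odd_comm (m := 3) h3 ?_ ?_ (a : Matrix.GeneralLinearGroup (Fin 2) F) k
    (by rw [Subgroup.orderOf_coe]; exact ha) ha' (by rw [Subgroup.orderOf_coe]; exact hk)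
    (congrArg Subtype.val hka)
  · intro x
    have := FiniteField.pow_card x
    rw [hF] at this
    simpa using this
  · intro A hA s r
    exact pow_nine h3 A hA s r

end matrices

end Cfsg.Agent.Classification.RTwo.Balance
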