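import Mathlib
import Cfsg.Agent.S0942
import Cfsg.Agent.Blocks.PrincipalKernel
import Cfsg.Agent.Characters.Core
import Cfsg.Agent.Characters.Values

/-!
# Core killing by a small character of the principal block

* `isConj_of_ker_coprime`: `p`-elements congruent modulo a normal `p'`-subgroup are conjugate;
* `exists_isConj_mul`: `s * y` is conjugate to `s * c` with `c ∈ K` commuting with `s`;
* `apply_eq`: (Lemma CK) `S` a `p`-subgroup normalising a `p'`-subgroup `K`, with
  `C_K(s) ≤ O_{p'}(C_G(s))` for `1 ≠ s ∈ S`; an irreducible character of the principal block of degree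
  less than `|S|` is constant on `K`;
* `eq_bot`: hence in a simple group with a non-principal such character, `K = 1`.
-/

set_option autoImplicit false

namespace Cfsg.Agent.Classification.RTwo.CoreKill

open Cfsg Cfsg.Agent.Characters Cfsg.Agent.Characters.Core
open scoped ComplexConjugate Pointwise

universe u

section Conj

/-- Two elements `a`, `b` of order dividing a power of `p` congruent modulo a normal subgroup of order prime
to `p` are conjugate. -/
theorem isConj_of_ker_coprime {C D : Type*} [Group C] [Finite C] [Group D] (π : C →* D)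
    {p : ℕ} [Fact p.Prime] (hcop : (Nat.card π.ker).Coprime p) (a b : C) (m : ℕ)
    (ha : a ^ p ^ m = 1) (hb : b ^ p ^ m = 1) (hab : π a = π b) : IsConj a b := by
  have hp : p.Prime := Fact.out
  set L : Subgroup C := (Subgroup.zpowers (π b)).comap π with hL
  have hkL : ∀ x : C, π x = 1 → x ∈ L := by
    intro x hx
    rw [hL, Subgroup.mem_comap, hx]
    exact one_mem _
  have haL : a ∈ L := by
    rw [hL, Subgroup.mem_comap, hab]
    exact Subgroup.mem_zpowers _
  have hbL : b ∈ L := by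
    rw [hL, Subgroup.mem_comap]
    exact Subgroup.mem_zpowers _
  -- elements of the kernel which are p-elements are trivial
  have hker : ∀ x : C, π x = 1 → x ^ p ^ m = 1 → x = 1 := by
    intro x hx hxm
    have h1 : (⟨x, hx⟩ : π.ker) ^ Nat.card π.ker = 1 := pow_card_eq_one'
    have h2 : x ^ Nat.card π.ker = 1 := congrArg Subtype.val h1
    have h3 : orderOf x ∣ p ^ m := orderOf_dvd_of_pow_eq_one hxm
    have h4 : orderOf x ∣ Nat.card π.ker := orderOf_dvd_of_pow_eq_one h2
    have h5 : Nat.Coprime (p ^ m) (Nat.card π.ker) := Nat.Coprime.pow_left _ hcop.symm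
    have h6 := Nat.dvd_gcd h3 h4
    rw [h5] at h6
    exact orderOf_eq_one_iff.1 (Nat.dvd_one.1 h6)
  -- the cyclic group generated by `c` with `π c = π b` is a Sylow subgroup of `L`
  have hcardL : Nat.card L = Nat.card π.ker * orderOf (π b) := by
    set πL : L →* Subgroup.zpowers (π b) :=
      (π.comp L.subtype).codRestrict _ (fun x => x.2) with hπL
    have hsurj : Function.Surjective πL := by
      rintro ⟨y, hy⟩
      obtain ⟨k, rfl⟩ := Subgroup.mem_zpowers_iff.1 hy
      exact ⟨⟨b ^ k, Subgroup.zpow_mem _ hbL k⟩, Subtype.ext (map_zpow π b k)⟩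
    have h1 := Subgroup.card_mul_index πL.ker
    rw [Subgroup.index_ker, MonoidHom.range_eq_top_of_surjective _ hsurj, Subgroup.card_top,
      Nat.card_zpowers] at h1
    rw [← h1]
    congr 1
    refine Nat.card_congr ?_
    refine
      { toFun := fun x => ⟨x.1.1, congrArg Subtype.val x.2⟩
        invFun := fun x => ⟨⟨x.1, hkL _ x.2⟩, Subtype.ext x.2⟩
        left_inv := fun x => rfl
        right_inv := fun x => rfl }
  have hsyl : ∀ c : C, ∀ hcL : c ∈ L, c ^ p ^ m = 1 → π c = π b →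
      ∃ P : Sylow p L, (P : Subgroup L) = Subgroup.zpowers (⟨c, hcL⟩ : L) := by
    intro c hcL hcm hc
    have hord : orderOf c = orderOf (π b) := by
      apply Nat.dvd_antisymm
      · apply orderOf_dvd_of_pow_eq_one
        apply hker
        · rw [map_pow, hc, pow_orderOf_eq_one]
        · rw [← pow_mul, mul_comm, pow_mul, hcm, one_pow]
      · rw [← hc]
        exact orderOf_map_dvd π c
    have hordL : orderOf (⟨c, hcL⟩ : L) = orderOf (π b) := by
      rw [← hord, ← Subgroup.orderOf_coe]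
    have hpg : IsPGroup p (Subgroup.zpowers (⟨c, hcL⟩ : L)) := by
      obtain ⟨l, -, hl⟩ := (Nat.dvd_prime_pow hp).1 (orderOf_dvd_of_pow_eq_one hcm)
      refine IsPGroup.of_card (n := l) ?_
      rw [Nat.card_zpowers, ← Subgroup.orderOf_coe]
      exact hl
    have hidx : ¬ p ∣ (Subgroup.zpowers (⟨c, hcL⟩ : L)).index := by
      have h1 := Subgroup.card_mul_index (Subgroup.zpowers (⟨c, hcL⟩ : L))
      rw [Nat.card_zpowers, hordL, hcardL, mul_comm] at h1
      have h2 : (Subgroup.zpowers (⟨c, hcL⟩ : L)).index = Nat.card π.ker :=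
        Nat.eq_of_mul_eq_mul_right (orderOf_pos_iff.2 (by
          rw [← hc]; exact π.isOfFinOrder (isOfFinOrder_of_finite c))) h1
      rw [h2]
      exact (Nat.Prime.coprime_iff_not_dvd hp).1 hcop.symm
    exact ⟨hpg.toSylow hidx, rfl⟩
  obtain ⟨P, hP⟩ := hsyl a haL ha hab
  obtain ⟨Q, hQ⟩ := hsyl b hbL hb rfl
  obtain ⟨g, hg⟩ := MulAction.exists_smul_eq L P Q
  have hg2 : MulAut.conj g • (P : Subgroup L) = (Q : Subgroup L) := by
    rw [← hg]; rfl
  have h1 : g * ⟨a, haL⟩ * g⁻¹ ∈ (Q : Subgroup L) := by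
    rw [← hg2, hP]
    exact Subgroup.smul_mem_pointwise_smul _ (MulAut.conj g) _ (Subgroup.mem_zpowers _)
  rw [hQ] at h1
  obtain ⟨s, hs⟩ := Subgroup.mem_zpowers_iff.1 h1
  have h2 : b ^ s = (g : C) * a * (g : C)⁻¹ := congrArg Subtype.val hs
  -- the image of the conjugate
  have h3 : π ((g : C) * a * (g : C)⁻¹) = π b := by
    obtain ⟨l, hl⟩ := Subgroup.mem_zpowers_iff.1 (show π (g : C) ∈ Subgroup.zpowers (π b) from g.2)
    rw [map_mul, map_mul, map_inv, hab, ← hl]
    rw [← zpow_neg, ← zpow_add_one, ← zpow_add]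
    ring_nf
    simp
  have h4 : b ^ (s - 1) = 1 := by
    have h5 : π (b ^ (s - 1)) = 1 := by
      rw [zpow_sub_one, map_mul, h2, h3, map_inv, mul_inv_cancel]
    refine hker _ h5 ?_
    rw [← zpow_natCast, ← zpow_mul, mul_comm, zpow_mul, zpow_natCast, hb, one_zpow]
  have h5 : b ^ s = b := by
    have := h4
    rw [zpow_sub_one, mul_inv_eq_one] at this
    exact this
  exact isConj_iff.2 ⟨(g : C), by rw [← h2, h5]⟩

variable {G : Type*} [Group G] [Finite G]

/-- Let the `p`-element `s` normalise the `p'`-subgroup `K`, `y ∈ K`.  Then `s * y` is conjugate to `s * c`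
with `c ∈ K` commuting with `s`. -/
theorem exists_isConj_mul {p : ℕ} [Fact p.Prime] (K : Subgroup G) (hK : (Nat.card K).Coprime p) (s : G)
    (m : ℕ) (hs : s ^ p ^ m = 1) (hsK : s ∈ Subgroup.normalizer (K : Set G)) (y : G) (hy : y ∈ K) :
    ∃ c ∈ K, s * c = c * s ∧ IsConj (s * y) (s * c) := by
  have hp : p.Prime := Fact.out
  set N := Subgroup.normalizer (K : Set G) with hN
  have hKN : K ≤ N := Subgroup.le_normalizer
  set K' : Subgroup N := K.subgroupOf N with hK'
  have : K'.Normal := Subgroup.normal_in_normalizer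
  set π : N →* N ⧸ K' := QuotientGroup.mk' K' with hπ
  have hkerπ : π.ker = K' := QuotientGroup.ker_mk' K'
  have hcop : (Nat.card π.ker).Coprime p := by
    rw [hkerπ, hK', Nat.card_congr (Subgroup.subgroupOfEquivOfLe hKN).toEquiv]
    exact hK
  set a : N := ⟨s, hsK⟩ with ha
  set k : N := ⟨y, hKN hy⟩ with hk
  have hkK : k ∈ K' := by rw [hK', Subgroup.mem_subgroupOf]; exact hy
  set x : N := a * k with hx
  have hπx : π x = π a := by
    rw [hx, map_mul]
    have : π k = 1 := by rw [← MonoidHom.mem_ker, hkerπ]; exact hkK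
    rw [this, mul_one]
  have hapm : a ^ p ^ m = 1 := Subtype.ext hs
  -- split the order of x
  obtain ⟨f, r, hpr, hfr⟩ := Nat.exists_eq_pow_mul_and_not_dvd (orderOf_pos x).ne' p hp.ne_one
  have hcop2 : Nat.Coprime (p ^ (f + m)) r := by
    exact Nat.Coprime.pow_left _ ((Nat.Prime.coprime_iff_not_dvd hp).2 hpr)
  obtain ⟨e, he1, he2⟩ := Nat.chineseRemainder hcop2 1 0
  have hr : r ∣ e := (Nat.modEq_zero_iff_dvd).1 he2
  obtain ⟨e', rfl⟩ := hr
  -- `x ^ e` is a `p`-element
  have hxe : (x ^ (r * e')) ^ p ^ (f + m) = 1 := by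
    rw [← pow_mul]
    have : r * e' * p ^ (f + m) = orderOf x * (e' * p ^ m) := by
      rw [hfr, pow_add]; ring
    rw [this, pow_mul, pow_orderOf_eq_one, one_pow]
  have hae : a ^ p ^ (f + m) = 1 := by
    rw [pow_add, mul_comm, pow_mul, hapm, one_pow]
  have hπe : π (x ^ (r * e')) = π a := by
    rw [map_pow, hπx]
    have h1 : π a ^ p ^ (f + m) = 1 := by rw [← map_pow, hae, map_one]
    have h2 : π a ^ (r * e') = π a ^ 1 := by
      apply pow_eq_pow_iff_modEq.2
      exact he1.of_dvd (orderOf_dvd_of_pow_eq_one h1)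
    rw [h2, pow_one]
  obtain ⟨g, hg⟩ := isConj_iff.1 (isConj_of_ker_coprime π hcop (x ^ (r * e')) a (f + m) hxe hae hπe)
  set d : N := g * ((x ^ (r * e'))⁻¹ * x) * g⁻¹ with hd
  have hdK : d ∈ K' := by
    rw [← hkerπ, MonoidHom.mem_ker, hd, map_mul, map_mul, map_mul, map_inv, hπe, hπx]
    simp
  have hcomm : Commute a d := by
    rw [← hg, hd]
    have h1 : Commute (x ^ (r * e')) ((x ^ (r * e'))⁻¹ * x) := by
      have h2 : Commute (x ^ (r * e')) x := (Commute.refl x).pow_left _
      exact (Commute.refl _).inv_right.mul_right h2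
    have h3 : Commute (MulAut.conj g (x ^ (r * e'))) (MulAut.conj g ((x ^ (r * e'))⁻¹ * x)) :=
      h1.map (MulAut.conj g).toMonoidHom
    simpa only [MulEquiv.coe_toMonoidHom, MulAut.conj_apply] using h3
  have had : a * d = g * x * g⁻¹ := by
    rw [← hg, hd]; group
  refine ⟨(d : G), by simpa [hK', Subgroup.mem_subgroupOf] using hdK,
    congrArg Subtype.val hcomm.eq, isConj_iff.2 ⟨(g : G), ?_⟩⟩
  have := congrArg Subtype.val had
  exact this.symm

end Conj

section Char

variable {G : Type u} [Group G]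

/-- The sum of a character over a subgroup is `|H|` times a natural number. -/
theorem exists_sum_eq [Finite G] {χ : G → ℂ} (hχ : IsCharacter G χ) (H : Subgroup G) [Fintype H] :
    ∃ n : ℕ, ∑ h : H, χ h = (Nat.card H : ℂ) * n := by
  obtain ⟨n, hn⟩ := classInner_isNat (isCharacter_comp H.subtype hχ) (isCharacter_one (G := H))
  refine ⟨n, ?_⟩
  rw [← hn, classInner_def]
  have h0 : (Nat.card H : ℂ) ≠ 0 := by exact_mod_cast Nat.card_pos.ne'
  rw [← mul_assoc, mul_inv_cancel₀ h0, one_mul]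
  refine Finset.sum_congr rfl fun x _ => ?_
  simp

/-- An irreducible character of a simple group taking its degree as a value off `1` is principal. -/
theorem eq_one_of_apply_eq [Finite G] [IsSimpleGroup G] {χ : G → ℂ} (hχ : IsIrrCharacter G χ) {g : G}
    (hg : g ≠ 1) (h : χ g = χ 1) : χ = 1 := by
  have := Fintype.ofFinite G
  obtain ⟨n, ρ, hρ, rfl⟩ := hχ
  have hχ' : IsIrrCharacter G ρ.character := ⟨n, ρ, hρ, rfl⟩
  have hker : ∀ x : G, ρ.character x = ρ.character 1 → ρ x = 1 := by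
    intro x hx
    have h1 : ‖ρ.character x‖ = (Module.finrank ℂ (Fin n → ℂ) : ℝ) := by
      rw [hx, Representation.char_one, Complex.norm_natCast]
    obtain ⟨w, hw⟩ := (Values.norm_character_eq_iff ρ x).1 h1
    obtain ⟨d, hd0, hd⟩ := isIrr_apply_one hχ'
    have h2 : w * d = d := by
      rw [← hd]
      conv_rhs => rw [← hx]
      rw [Representation.character, Representation.character, hw, map_smul, map_one, smul_eq_mul]
      rfl
    have hd0' : (d : ℂ) ≠ 0 := by exact_mod_cast hd0.ne'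
    have h3 : w = 1 := by
      apply mul_right_cancel₀ hd0'
      rw [h2, one_mul]
    rw [hw, h3, one_smul]
    rfl
  set N : Subgroup G := MonoidHom.ker (ρ : G →* Module.End ℂ (Fin n → ℂ)) with hN
  have hgN : g ∈ N := by
    rw [hN, MonoidHom.mem_ker]
    exact hker g h
  have hNtop : N = ⊤ := by
    rcases IsSimpleGroup.eq_bot_or_eq_top_of_normal N inferInstance with h1 | h1
    · rw [h1, Subgroup.mem_bot] at hgN
      exact absurd hgN hg
    · exact h1
  have hconst : ∀ x : G, ρ.character x = ρ.character 1 := by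
    intro x
    have h1 : x ∈ N := hNtop ▸ Subgroup.mem_top x
    rw [hN, MonoidHom.mem_ker] at h1
    rw [Representation.character, Representation.character, map_one]
    exact congrArg _ h1
  obtain ⟨d, hd0, hd⟩ := isIrr_apply_one hχ'
  have h1 := classInner_irr_self hχ'
  rw [classInner_def, Finset.sum_congr rfl fun x _ => by rw [hconst x], Finset.sum_const,
    Finset.card_univ, nsmul_eq_mul, ← Nat.card_eq_fintype_card, ← mul_assoc,
    inv_mul_cancel₀ card_ne_zero_complex, one_mul, hd, Complex.conj_natCast] at h1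
  have h2 : d * d = 1 := by exact_mod_cast h1
  have h3 : d = 1 := Nat.eq_one_of_mul_eq_one_left h2
  funext x
  rw [hconst x, hd, h3]
  simp

end Char

section Main

variable {G : Type u} [Group G] [Finite G]

/-- The value at `s * y`. -/
theorem apply_mul {p : ℕ} [Fact p.Prime] {M : Ideal AlgInt} (hM : IsPModular p M) {K : Subgroup G}
    (hK : (Nat.card K).Coprime p) {s : G} (hs : ∃ k : ℕ, orderOf s = p ^ k)
    (hsK : s ∈ Subgroup.normalizer (K : Set G))
    (hbal : ∀ k ∈ K, s * k = k * s → k ∈ centralizerPPrimeCore p s) {χ : IrrCharacter G}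
    (hχ : χ ∈ principalBlock M G) {y : G} (hy : y ∈ K) :
    (χ : G → ℂ) (s * y) = (χ : G → ℂ) s := by
  obtain ⟨m, hm⟩ := hs
  obtain ⟨c, hcK, hc, hconj⟩ := exists_isConj_mul K hK s m (by rw [← hm, pow_orderOf_eq_one]) hsK y hy
  have h1 : (χ : G → ℂ) (s * y) = (χ : G → ℂ) (s * c) := by
    obtain ⟨g, hg⟩ := isConj_iff.1 hconj
    rw [← hg]
    exact (isIrr_isClassFunction χ.2 _ _).symm
  rw [h1]
  exact S0942.result p M hM s ⟨m, hm⟩ c (hbal c hcK hc) χ hχ

/-- **Lemma CK.** -/
theorem apply_eq {p : ℕ} [Fact p.Prime] {M : Ideal AlgInt} (hM : IsPModular p M) {S K : Subgroup G}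
    (hS : IsPGroup p S) (hK : (Nat.card K).Coprime p)
    (hSK : ∀ s ∈ S, ∀ k ∈ K, s * k * s⁻¹ ∈ K)
    (hbal : ∀ s ∈ S, s ≠ 1 → ∀ k ∈ K, s * k = k * s → k ∈ centralizerPPrimeCore p s)
    {χ : IrrCharacter G} (hχ : χ ∈ principalBlock M G) {d : ℕ} (hd : (χ : G → ℂ) 1 = d)
    (hdS : d < Nat.card S) {k : G} (hk : k ∈ K) : (χ : G → ℂ) k = (χ : G → ℂ) 1 := by
  classical
  have := Fintype.ofFinite G
  have hp : p.Prime := Fact.out
  have hchar := isIrr_isCharacter χ.2
  have hSN : ∀ s ∈ S, s ∈ Subgroup.normalizer (K : Set G) := by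
    intro s hs
    rw [Subgroup.mem_normalizer_iff]
    intro x
    constructor
    · exact fun hx => hSK s hs x hx
    · intro hx
      have := hSK s⁻¹ (S.inv_mem hs) _ hx
      simpa [mul_assoc] using this
  have hval : ∀ s ∈ S, s ≠ 1 → ∀ y ∈ K, (χ : G → ℂ) (s * y) = (χ : G → ℂ) s := by
    intro s hs hs1 y hy
    obtain ⟨m, hm⟩ := (hS.exists_orderOf_eq_pow : ∀ g : S, _) ⟨s, hs⟩
    rw [Subgroup.orderOf_mk] at hm
    exact apply_mul hM hK ⟨m, hm⟩ (hSN s hs) (hbal s hs hs1) hχ hy
  -- the subgroup SK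
  have hdisj : Disjoint S K := by
    rw [Subgroup.disjoint_def]
    intro x hxS hxK
    obtain ⟨m, hm⟩ := (hS.exists_orderOf_eq_pow : ∀ g : S, _) ⟨x, hxS⟩
    rw [Subgroup.orderOf_mk] at hm
    have h1 : orderOf x ∣ Nat.card K := by
      have h0 := orderOf_dvd_natCard (⟨x, hxK⟩ : K)
      rwa [Subgroup.orderOf_mk] at h0
    rw [hm] at h1
    have h2 : Nat.Coprime (p ^ m) (Nat.card K) := Nat.Coprime.pow_left _ hK.symm
    have h3 := Nat.Coprime.eq_one_of_dvd h2 h1
    rw [h3] at hm
    exact orderOf_eq_one_iff.1 hm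
  set H : Subgroup G :=
    { carrier := {x | ∃ s ∈ S, ∃ y ∈ K, s * y = x}
      one_mem' := ⟨1, S.one_mem, 1, K.one_mem, mul_one 1⟩
      mul_mem' := by
        rintro _ _ ⟨s, hs, y, hy, rfl⟩ ⟨s', hs', y', hy', rfl⟩
        refine ⟨s * s', S.mul_mem hs hs', s'⁻¹ * y * s' * y', K.mul_mem ?_ hy', by group⟩
        have := hSK s'⁻¹ (S.inv_mem hs') y hy
        rwa [inv_inv] at this
      inv_mem' := by
        rintro _ ⟨s, hs, y, hy, rfl⟩
        exact ⟨s⁻¹, S.inv_mem hs, s * y⁻¹ * s⁻¹, hSK s hs _ (K.inv_mem hy), by group⟩ } with hH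
  have hHmem : ∀ x : G, x ∈ H ↔ ∃ s ∈ S, ∃ y ∈ K, s * y = x := fun x => Iff.rfl
  have hinj : Function.Injective (fun q : S × K => (⟨(q.1 : G) * q.2,
      ⟨q.1, q.1.2, q.2, q.2.2, rfl⟩⟩ : H)) := by
    intro q q' hq
    have h1 : (q.1 : G) * q.2 = q'.1 * q'.2 := congrArg Subtype.val hq
    have h2 : (q'.1 : G)⁻¹ * q.1 = q'.2 * (q.2 : G)⁻¹ := by
      rw [inv_mul_eq_iff_eq_mul, ← mul_assoc, ← h1, mul_inv_cancel_right]
    have h3 : (q'.1 : G)⁻¹ * q.1 = 1 := by
      apply Subgroup.disjoint_def.1 hdisj (S.mul_mem (S.inv_mem q'.1.2) q.1.2)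
      rw [h2]
      exact K.mul_mem q'.2.2 (K.inv_mem q.2.2)
    have h4 : (q.1 : G) = q'.1 := (inv_mul_eq_one.1 h3).symm
    have h5 : (q.2 : G) = q'.2 := by
      rw [h3] at h2
      exact (mul_inv_eq_one.1 h2.symm).symm
    exact Prod.ext (Subtype.ext h4) (Subtype.ext h5)
  have hsurj : Function.Surjective (fun q : S × K => (⟨(q.1 : G) * q.2,
      ⟨q.1, q.1.2, q.2, q.2.2, rfl⟩⟩ : H)) := by
    rintro ⟨_, s, hs, y, hy, rfl⟩
    exact ⟨(⟨s, hs⟩, ⟨y, hy⟩), rfl⟩
  set eqv := Equiv.ofBijective _ ⟨hinj, hsurj⟩ with heqv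
  have hcard : Nat.card H = Nat.card S * Nat.card K := by
    rw [← Nat.card_congr eqv, Nat.card_prod]
  have hsum : ∑ h : H, (χ : G → ℂ) h = ∑ s : S, ∑ y : K, (χ : G → ℂ) (s * y) := by
    rw [← Fintype.sum_prod_type' (f := fun (s : S) (y : K) => (χ : G → ℂ) (s * y))]
    exact (Fintype.sum_equiv eqv _ _ fun q => rfl).symm
  obtain ⟨a, ha⟩ := exists_sum_eq hchar H
  obtain ⟨b, hb⟩ := exists_sum_eq hchar S
  obtain ⟨c, hc⟩ := exists_sum_eq hchar K
  -- evaluate the double sum
  have hsum2 : ∑ s : S, ∑ y : K, (χ : G → ℂ) (s * y) =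
      (Nat.card K : ℂ) * (Nat.card S * b - d) + Nat.card K * c := by
    rw [← Finset.add_sum_erase Finset.univ _ (Finset.mem_univ (1 : S))]
    have h1 : ∑ y : K, (χ : G → ℂ) (((1 : S) : G) * y) = Nat.card K * c := by
      rw [← hc]
      refine Finset.sum_congr rfl fun y _ => ?_
      rw [Subgroup.coe_one, one_mul]
    have h2 : ∑ s ∈ Finset.univ.erase (1 : S), ∑ y : K, (χ : G → ℂ) (s * y) =
        (Nat.card K : ℂ) * ∑ s ∈ Finset.univ.erase (1 : S), (χ : G → ℂ) s := by
      rw [Finset.mul_sum]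
      refine Finset.sum_congr rfl fun s hs => ?_
      have hs1 : (s : G) ≠ 1 := fun h => (Finset.mem_erase.1 hs).1 (Subtype.ext h)
      rw [Finset.sum_congr rfl fun (y : K) _ => hval s s.2 hs1 y y.2, Finset.sum_const,
        Finset.card_univ, nsmul_eq_mul, ← Nat.card_eq_fintype_card]
    have h3 : ∑ s ∈ Finset.univ.erase (1 : S), (χ : G → ℂ) s = Nat.card S * b - d := by
      rw [← hb, ← Finset.add_sum_erase Finset.univ _ (Finset.mem_univ (1 : S)), Subgroup.coe_one,
        hd, add_sub_cancel_left]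
    rw [h1, h2, h3, add_comm]
  -- arithmetic
  have hK0 : (Nat.card K : ℂ) ≠ 0 := by exact_mod_cast Nat.card_pos.ne'
  have h1 : (Nat.card S : ℂ) * a = Nat.card S * b - d + c := by
    apply mul_left_cancel₀ hK0
    rw [hsum, hsum2, hcard] at ha
    push_cast at ha
    linear_combination (-1 : ℂ) * ha
  have h2 : (Nat.card S : ℤ) * a = Nat.card S * b - d + c := by exact_mod_cast h1
  -- `c ≤ d`
  have hcd : c ≤ d := by
    have h3 : ‖∑ y : K, (χ : G → ℂ) y‖ ≤ Nat.card K * d := by
      refine (norm_sum_le _ _).trans ?_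
      have h4 : ∀ y ∈ (Finset.univ : Finset K), ‖(χ : G → ℂ) y‖ ≤ d := by
        intro y _
        obtain ⟨n, ρ, hρ⟩ := hchar
        rw [← hρ] at hd ⊢
        rw [Representation.char_one] at hd
        have h5 : (Module.finrank ℂ (Fin n → ℂ) : ℝ) = d := by exact_mod_cast hd
        rw [← h5]
        exact Values.norm_character_le ρ y
      refine (Finset.sum_le_sum h4).trans ?_
      rw [Finset.sum_const, Finset.card_univ, nsmul_eq_mul, ← Nat.card_eq_fintype_card]
    rw [hc, norm_mul, Complex.norm_natCast, Complex.norm_natCast] at h3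
    have h4 : (0 : ℝ) < Nat.card K := by exact_mod_cast Nat.card_pos
    exact_mod_cast le_of_mul_le_mul_left h3 h4
  have hcd2 : c = d := by
    have h3 : (Nat.card S : ℤ) ∣ (d - c : ℤ) := ⟨b - a, by linarith⟩
    have h4 : (d - c : ℤ) = 0 := by
      apply Int.eq_zero_of_abs_lt_dvd h3
      rw [abs_lt]
      have h5 : (c : ℤ) ≤ d := by exact_mod_cast hcd
      have h6 : (d : ℤ) < Nat.card S := by exact_mod_cast hdS
      have h7 : (0 : ℤ) ≤ c := Int.natCast_nonneg c
      constructor <;> linarith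
    omega
  have h3 : ∑ y ∈ (Finset.univ.map ⟨((↑) : K → G), Subtype.val_injective⟩), (χ : G → ℂ) y =
      ((Finset.univ.map ⟨((↑) : K → G), Subtype.val_injective⟩).card : ℂ) * (χ : G → ℂ) 1 := by
    rw [Finset.sum_map, Finset.card_map, Finset.card_univ, ← Nat.card_eq_fintype_card, hd, ← hcd2]
    exact hc
  exact Blocks.PrincipalKernel.apply_eq_of_sum_eq hchar h3
    (Finset.mem_map.2 ⟨⟨k, hk⟩, Finset.mem_univ _, rfl⟩)

/-- In a simple group with a non-principal character of the principal block of degree less than `|S|`, a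
`p'`-subgroup `K` as in Lemma CK is trivial. -/
theorem eq_bot [IsSimpleGroup G] {p : ℕ} [Fact p.Prime] {M : Ideal AlgInt} (hM : IsPModular p M)
    {S K : Subgroup G} (hS : IsPGroup p S) (hK : (Nat.card K).Coprime p)
    (hSK : ∀ s ∈ S, ∀ k ∈ K, s * k * s⁻¹ ∈ K)
    (hbal : ∀ s ∈ S, s ≠ 1 → ∀ k ∈ K, s * k = k * s → k ∈ centralizerPPrimeCore p s)
    {χ : IrrCharacter G} (hχ : χ ∈ principalBlock M G) (hχ1 : (χ : G → ℂ) ≠ 1) {d : ℕ}
    (hd : (χ : G → ℂ) 1 = d) (hdS : d < Nat.card S) : K = ⊥ := by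
  rw [Subgroup.eq_bot_iff_forall]
  intro k hk
  by_contra hk1
  exact hχ1 (eq_one_of_apply_eq χ.2 hk1 (apply_eq hM hS hK hSK hbal hχ hd hdS hk))

/-- The core of the centralizer of `t` is trivial, if a `p`-group `S ≤ C(t)` satisfies the balance condition
`O_{p'}(C(t)) ∩ C(s) ≤ O_{p'}(C(s))` for `1 ≠ s ∈ S` and the principal block contains a non-principal
character of degree less than `|S|`. -/
theorem core_eq_bot [IsSimpleGroup G] {p : ℕ} [Fact p.Prime] {M : Ideal AlgInt} (hM : IsPModular p M)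
    (t : G) {S : Subgroup G} (hS : IsPGroup p S) (hSt : ∀ s ∈ S, s * t = t * s)
    (hbal : ∀ s ∈ S, s ≠ 1 → ∀ k ∈ centralizerPPrimeCore p t, s * k = k * s →
      k ∈ centralizerPPrimeCore p s)
    {χ : IrrCharacter G} (hχ : χ ∈ principalBlock M G) (hχ1 : (χ : G → ℂ) ≠ 1) {d : ℕ}
    (hd : (χ : G → ℂ) 1 = d) (hdS : d < Nat.card S) :
    centralizerPPrimeCore p t = ⊥ ∧ pPrimeCore p (Subgroup.centralizer ({t} : Set G)) = ⊥ := by
  have h1 : centralizerPPrimeCore p t = ⊥ := by
    refine eq_bot hM hS ?_ ?_ hbal hχ hχ1 hd hdS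
    · have h1 : Nat.card (centralizerPPrimeCore p t) =
          Nat.card (pPrimeCore p (Subgroup.centralizer ({t} : Set G))) :=
        Nat.card_congr ((pPrimeCore p (Subgroup.centralizer ({t} : Set G))).equivMapOfInjective
          _ (Subgroup.subtype_injective _)).toEquiv.symm
      rw [h1]
      exact Lib.Cores.pPrimeCore_coprime p
    · rintro s hs _ ⟨k, hk, rfl⟩
      have hsC : s ∈ Subgroup.centralizer ({t} : Set G) :=
        Subgroup.mem_centralizer_singleton_iff.2 (hSt s hs)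
      have h2 := (Lib.Cores.pPrimeCore_normal (G := Subgroup.centralizer ({t} : Set G)) p).conj_mem
        _ hk ⟨s, hsC⟩
      exact ⟨_, h2, rfl⟩
  refine ⟨h1, ?_⟩
  have h2 := h1
  rw [centralizerPPrimeCore, Subgroup.map_eq_bot_iff_of_injective _ (Subgroup.subtype_injective _)] at h2
  exact h2

end Main

end Cfsg.Agent.Classification.RTwo.CoreKill
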