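import Mathlib
import Cfsg.Agent.Characters.Core
import Cfsg.Agent.Characters.GL23
import Cfsg.Agent.Characters.CentInvClassAlg

/-!
# Involution centralizers with quotient `GL(2,3)` by an odd normal subgroup: the class algebra

`t` is an involution, `π : C(t) → GL(2,3)` is surjective with odd kernel.

* `pi_t`: `π t = -1`.
* `support_comp`: a function `f ∘ π`, with `f` supported on the roots of `-1`, is supported on the
  roots of `t`.
* `kap π w`: the number of the involutions over `w`; `odd_kap`, `kap_eq`.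
* `pair_sum`: the sum of `f (π (x * y))` over the pairs of involutions of `C(t)`.
* `class_algebra`: the class algebra formula for the functions induced from `f ∘ π`.
-/

set_option autoImplicit false
open Cfsg

namespace Cfsg.Agent.Classification.RTwo.SDClass

open Cfsg.Agent.Characters Cfsg.Agent.Characters.GL23 Cfsg.Agent.Characters.GL23Table

theorem sq_of_order {M : Type*} [Monoid M] {u : M} (h : orderOf u = 2) : u ^ 2 = 1 := by
  have h1 := pow_orderOf_eq_one u
  rwa [h] at h1

theorem exists_conj_table : ∀ a b c d : ZMod 3, isInv a b c d →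
    ¬ (a = -1 ∧ b = 0 ∧ c = 0 ∧ d = -1) →
    ∃ p q r s : ZMod 3, p * s - q * r ≠ 0 ∧
      mul4 (a, b, c, d) (p, q, r, s) = mul4 (p, q, r, s) (1, 0, 0, -1) := by
  decide +kernel

/-- The reflection `diag(1,-1)`. -/
def refl0 : Grp := Matrix.GeneralLinearGroup.mkOfDetNeZero !![1, 0; 0, -1]
    (by rw [Matrix.det_fin_two]; decide)

theorem ent_refl0 : ent refl0 = (1, 0, 0, -1) := rfl

/-- A noncentral involution of `GL(2,3)` is conjugate to `diag(1,-1)`. -/
theorem exists_conj_refl0 (g : Grp) (h : orderOf g = 2) (hg : g ≠ -1) :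
    ∃ c : Grp, g = c * refl0 * c⁻¹ := by
  obtain ⟨p, q, r, s, h1, h2⟩ := exists_conj_table (g 0 0) (g 0 1) (g 1 0) (g 1 1)
    ((isInv_iff g).mpr h)
    (fun hh => hg ((eq_neg_one_iff g).mpr (by simp only [ent, Prod.mk.injEq]; exact hh)))
  let c : Grp := Matrix.GeneralLinearGroup.mkOfDetNeZero !![p, q; r, s]
    (by rw [Matrix.det_fin_two]; exact h1)
  have hc : ent c = (p, q, r, s) := rfl
  refine ⟨c, ?_⟩
  rw [eq_mul_inv_iff_mul_eq]
  apply ent_injective
  rw [ent_mul, ent_mul, hc, ent_refl0]
  exact h2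

theorem orderOf_neg_one : orderOf (-1 : Grp) = 2 := by
  rw [orderOf_eq_prime_iff (p := 2)]
  refine ⟨by rw [neg_one_sq], ?_⟩
  intro h
  have h1 := congrArg ent h
  rw [ent_neg_one, ent_one] at h1
  revert h1
  decide

/-- A product of two involutions, one of them central, is not a root of `-1`. -/
theorem not_root (w w' : Grp) (hw : orderOf w = 2) (hw' : orderOf w' = 2)
    (h : w = -1 ∨ w' = -1) : ¬ ∃ k : ℕ, (w * w') ^ k = -1 := by
  rintro ⟨k, hk⟩
  obtain ⟨u, hu, hwu⟩ : ∃ u : Grp, orderOf u = 2 ∧ w * w' = -u := by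
    rcases h with h | h
    · exact ⟨w', hw', by rw [h, neg_one_mul]⟩
    · exact ⟨w, hw, by rw [h, mul_neg_one]⟩
  rw [hwu] at hk
  have hu2 : u ^ 2 = 1 := sq_of_order hu
  have hne : (-1 : Grp) ≠ 1 := by
    intro h
    have := orderOf_neg_one
    rw [h, orderOf_one] at this
    omega
  rcases Nat.even_or_odd k with hk' | hk'
  · obtain ⟨j, hj⟩ := hk'
    rw [hj, ← two_mul, pow_mul, neg_sq, hu2, one_pow] at hk
    exact hne hk.symm
  · obtain ⟨j, hj⟩ := hk'
    rw [hj, pow_add, pow_mul, neg_sq, hu2, one_pow, one_mul, pow_one] at hk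
    have : u = 1 := by
      have := congrArg (fun x => -x) hk
      simpa using this
    rw [this, orderOf_one] at hu
    omega

section main

variable {G : Type*} [Group G] {t : G} (ht : orderOf t = 2)
  (π : Subgroup.centralizer ({t} : Set G) →* Grp)

/-- `t` as an element of its centralizer -/
def tC (t : G) : Subgroup.centralizer ({t} : Set G) :=
  ⟨t, Subgroup.mem_centralizer_singleton_iff.mpr rfl⟩

theorem tC_mul_comm (x : Subgroup.centralizer ({t} : Set G)) : tC t * x = x * tC t := by
  apply Subtype.ext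
  exact (Subgroup.mem_centralizer_singleton_iff.mp x.2).symm

include ht in
theorem orderOf_tC : orderOf (tC t) = 2 := by
  rw [← Subgroup.orderOf_coe]
  exact ht

/-- An involution is not in the kernel. -/
theorem pi_ne_one [Finite G] (hK : Odd (Nat.card π.ker))
    {x : Subgroup.centralizer ({t} : Set G)} (hx : orderOf x = 2) : π x ≠ 1 := by
  intro h
  have h1 : orderOf (⟨x, h⟩ : π.ker) ∣ Nat.card π.ker := orderOf_dvd_natCard _
  rw [← Subgroup.orderOf_coe] at h1
  have h2 : orderOf ((⟨x, h⟩ : π.ker) : Subgroup.centralizer ({t} : Set G)) = 2 := hx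
  rw [h2] at h1
  exact (Nat.not_even_iff_odd.2 hK) (even_iff_two_dvd.2 h1)

theorem orderOf_pi [Finite G] (hK : Odd (Nat.card π.ker))
    {x : Subgroup.centralizer ({t} : Set G)} (hx : orderOf x = 2) : orderOf (π x) = 2 := by
  have h1 : orderOf (π x) ∣ 2 := by
    have := orderOf_map_dvd π x
    rwa [hx] at this
  rcases (Nat.dvd_prime Nat.prime_two).1 h1 with h | h
  · exact absurd (orderOf_eq_one_iff.1 h) (pi_ne_one π hK hx)
  · exact h

include ht in
theorem pi_t [Finite G] (hπ : Function.Surjective π) (hK : Odd (Nat.card π.ker)) :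
    π (tC t) = -1 := by
  refine eq_neg_one_of_central _ (orderOf_pi π hK (orderOf_tC ht)) fun x => ?_
  obtain ⟨y, rfl⟩ := hπ x
  rw [← map_mul, ← map_mul, tC_mul_comm]

include ht in
theorem support_comp [Finite G] (hπ : Function.Surjective π) (hK : Odd (Nat.card π.ker))
    (h : Subgroup.centralizer ({t} : Set G)) (hh : ∃ k : ℕ, π h ^ k = -1) :
    ∃ k : ℕ, (h : G) ^ k = t := by
  obtain ⟨k, hk⟩ := hh
  -- `h ^ k * t⁻¹` lies in the kernel and commutes with `t`
  have h1 : h ^ k * (tC t)⁻¹ ∈ π.ker := by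
    rw [MonoidHom.mem_ker, map_mul, map_pow, map_inv, hk, pi_t ht π hπ hK, mul_inv_cancel]
  set y := h ^ k * (tC t)⁻¹ with hy
  have h2 : y ^ Nat.card π.ker = 1 := by
    have := pow_card_eq_one' (x := (⟨y, h1⟩ : π.ker))
    simpa using congrArg Subtype.val this
  have h3 : h ^ k = y * tC t := by rw [hy]; group
  have h4 : (h ^ k) ^ Nat.card π.ker = tC t := by
    rw [h3, (show Commute y (tC t) from (tC_mul_comm y).symm).mul_pow, h2, one_mul]
    obtain ⟨j, hj⟩ := hK
    have h5 : tC t ^ 2 = 1 := sq_of_order (orderOf_tC ht)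
    rw [hj, pow_add, pow_mul, h5, one_pow, one_mul, pow_one]
  refine ⟨k * Nat.card π.ker, ?_⟩
  have h5 := congrArg (Subtype.val) h4
  rw [← pow_mul] at h5
  exact h5

/-- The number of the involutions over `w`. -/
noncomputable def kap (w : Grp) : ℕ :=
  Nat.card {x : Subgroup.centralizer ({t} : Set G) // orderOf x = 2 ∧ π x = w}

theorem kap_conj [Finite G] (hπ : Function.Surjective π) (w c : Grp) :
    kap π (c * w * c⁻¹) = kap π w := by
  obtain ⟨d, rfl⟩ := hπ c
  symm
  unfold kap
  refine Nat.card_congr ((MulAut.conj d).toEquiv.subtypeEquiv fun x => ?_)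
  have h1 : orderOf ((MulAut.conj d).toEquiv x) = orderOf x := MulEquiv.orderOf_eq (MulAut.conj d) x
  rw [h1]
  refine and_congr_right fun _ => ?_
  show π x = w ↔ π (d * x * d⁻¹) = _
  rw [map_mul, map_mul, map_inv]
  constructor
  · rintro rfl; rfl
  · intro h
    exact mul_left_cancel (mul_right_cancel h)

/-- All noncentral involutions have the same number of involutions over them. -/
theorem kap_eq [Finite G] (hπ : Function.Surjective π) (w : Grp) (h : orderOf w = 2)
    (hw : w ≠ -1) : kap π w = kap π refl0 := by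
  obtain ⟨c, rfl⟩ := exists_conj_refl0 w h hw
  exact kap_conj π hπ _ _

theorem card_fiber [Finite G] (hπ : Function.Surjective π) (w : Grp) :
    Nat.card {x : Subgroup.centralizer ({t} : Set G) // π x = w} = Nat.card π.ker := by
  obtain ⟨d, rfl⟩ := hπ w
  symm
  refine Nat.card_congr ((Equiv.mulLeft d).subtypeEquiv fun x => ?_)
  rw [MonoidHom.mem_ker, Equiv.coe_mulLeft, map_mul]
  simp

theorem odd_kap [Finite G] (hπ : Function.Surjective π) (hK : Odd (Nat.card π.ker)) (w : Grp)
    (hw : orderOf w = 2) : Odd (kap π w) := by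
  classical
  have hw2 : w⁻¹ = w := by
    have : w ^ 2 = 1 := sq_of_order hw
    rw [inv_eq_iff_mul_eq_one, ← pow_two, this]
  have hw1 : w ≠ 1 := by
    intro h
    rw [h, orderOf_one] at hw
    omega
  let A := {x : Subgroup.centralizer ({t} : Set G) // π x = w}
  have : Fintype A := Fintype.ofFinite _
  let f : Function.End A := fun x => ⟨x.1⁻¹, by rw [map_inv, x.2, hw2]⟩
  have hf : f ^ 2 ^ 1 = 1 := by
    funext x
    apply Subtype.ext
    show ((x.1)⁻¹)⁻¹ = x.1
    exact inv_inv _
  have h1 := Equiv.Perm.card_fixedPoints_modEq hf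
  have h2 : Nat.card A = Nat.card π.ker := card_fiber π hπ w
  rw [Nat.card_eq_fintype_card] at h2
  have h3 : Fintype.card (Function.fixedPoints f) = kap π w := by
    unfold kap
    rw [← Nat.card_eq_fintype_card]
    refine Nat.card_congr
      { toFun := fun x => ⟨x.1.1, ?_⟩
        invFun := fun x => ⟨⟨x.1, x.2.2⟩, ?_⟩
        left_inv := fun x => rfl
        right_inv := fun x => rfl }
    · have hx : (x.1.1)⁻¹ = x.1.1 := congrArg Subtype.val (x.2 : f x.1 = x.1)
      refine ⟨?_, x.1.2⟩
      rw [orderOf_eq_prime_iff (p := 2)]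
      refine ⟨?_, ?_⟩
      · rw [pow_two]
        nth_rewrite 1 [← hx]
        exact inv_mul_cancel _
      · intro h
        exact hw1 (by rw [← x.1.2, h, map_one])
    · show f ⟨x.1, x.2.2⟩ = ⟨x.1, x.2.2⟩
      apply Subtype.ext
      show (x.1)⁻¹ = x.1
      have : x.1 ^ 2 = 1 := sq_of_order x.2.1
      rw [inv_eq_iff_mul_eq_one, ← pow_two, this]
  rw [h3, h2] at h1
  rw [Nat.odd_iff] at hK ⊢
  rw [← hK]
  exact h1.symm

open scoped Classical in
theorem sum_inv [Fintype (Subgroup.centralizer ({t} : Set G))] [Fintype Grp] (F : Grp → ℂ) :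
    ∑ x : Subgroup.centralizer ({t} : Set G), (if orderOf x = 2 then F (π x) else 0) =
      ∑ w : Grp, (kap π w : ℂ) * F w := by
  rw [← Finset.sum_filter, ← Finset.sum_fiberwise (Finset.univ.filter
    fun x : Subgroup.centralizer ({t} : Set G) => orderOf x = 2) π (fun x => F (π x))]
  refine Finset.sum_congr rfl fun w _ => ?_
  rw [Finset.sum_congr rfl (g := fun _ => F w) (fun x hx => by
    rw [(Finset.mem_filter.1 hx).2]), Finset.sum_const, nsmul_eq_mul]
  congr 2
  rw [Finset.filter_filter]
  unfold kap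
  rw [Nat.card_eq_fintype_card, Fintype.card_subtype]

open scoped Classical in
/-- The sum over the pairs of involutions of the centralizer. -/
theorem pair_sum [Finite G] [Fintype (Subgroup.centralizer ({t} : Set G))] [Fintype Grp]
    (hπ : Function.Surjective π) (hK : Odd (Nat.card π.ker)) (f : Grp → ℂ)
    (hf : ∀ w, f w ≠ 0 → ∃ k : ℕ, w ^ k = -1) :
    ∑ x : Subgroup.centralizer ({t} : Set G), ∑ y : Subgroup.centralizer ({t} : Set G),
      (if orderOf x = 2 ∧ orderOf y = 2 then f (π (x * y)) else 0) =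
    (kap π refl0 : ℂ) ^ 2 * ∑ x : Grp, ∑ y : Grp,
      (if orderOf x = 2 ∧ orderOf y = 2 then f (x * y) else 0) := by
  have h1 : ∑ x : Subgroup.centralizer ({t} : Set G), ∑ y : Subgroup.centralizer ({t} : Set G),
      (if orderOf x = 2 ∧ orderOf y = 2 then f (π (x * y)) else 0) =
      ∑ x : Subgroup.centralizer ({t} : Set G), (if orderOf x = 2 then
        ∑ w' : Grp, (kap π w' : ℂ) * f (π x * w') else 0) := by
    refine Finset.sum_congr rfl fun x _ => ?_
    by_cases hx : orderOf x = 2
    · rw [if_pos hx, ← sum_inv π (fun w' => f (π x * w'))]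
      refine Finset.sum_congr rfl fun y _ => ?_
      by_cases hy : orderOf y = 2
      · rw [if_pos hy, if_pos ⟨hx, hy⟩, map_mul]
      · rw [if_neg hy, if_neg fun h => hy h.2]
    · rw [if_neg hx]
      exact Finset.sum_eq_zero fun y _ => if_neg fun h => hx h.1
  rw [h1, sum_inv π (fun w => ∑ w' : Grp, (kap π w' : ℂ) * f (w * w'))]
  simp only [Finset.mul_sum]
  refine Finset.sum_congr rfl fun w _ => Finset.sum_congr rfl fun w' _ => ?_
  -- the number over an element which is not an involution is zero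
  have hk0 : ∀ w : Grp, orderOf w ≠ 2 → kap π w = 0 := by
    intro w hw
    unfold kap
    rw [Nat.card_eq_zero]
    left
    refine ⟨fun x => hw ?_⟩
    rw [← x.2.2]
    exact orderOf_pi π hK x.2.1
  by_cases hw : orderOf w = 2
  · by_cases hw' : orderOf w' = 2
    · rw [if_pos ⟨hw, hw'⟩]
      by_cases h : w = -1 ∨ w' = -1
      · have : f (w * w') = 0 := by
          by_contra h0
          exact not_root w w' hw hw' h (hf _ h0)
        rw [this]
        ring
      · push Not at h
        rw [kap_eq π hπ w hw h.1, kap_eq π hπ w' hw' h.2]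
        ring
    · rw [if_neg fun h => hw' h.2, hk0 w' hw']
      simp
  · rw [if_neg fun h => hw h.1, hk0 w hw]
    simp

open scoped Classical in
include ht in
/-- The class algebra formula for a function induced from the inflation of `f`. -/
theorem class_algebra [Fintype G] [Fintype (IrrCharacter G)]
    [Fintype (Subgroup.centralizer ({t} : Set G))] [Fintype Grp]
    (hconj : ∀ x : G, orderOf x = 2 → IsConj t x)
    (hπ : Function.Surjective π) (hK : Odd (Nat.card π.ker)) (f : Grp → ℂ)
    (hf : ∀ w, f w ≠ 0 → ∃ k : ℕ, w ^ k = -1) (m : IrrCharacter G → ℤ)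
    (hm : indFun _ (fun h => f (π h)) = ∑ χ : IrrCharacter G, m χ • (χ : G → ℂ)) :
    (Nat.card G : ℂ) * ∑ χ : IrrCharacter G, (m χ : ℂ) * ((χ : G → ℂ) t ^ 2 / (χ : G → ℂ) 1) =
      (Nat.card (Subgroup.centralizer ({t} : Set G)) : ℂ) * ((kap π refl0 : ℂ) ^ 2 *
        ∑ x : Grp, ∑ y : Grp, (if orderOf x = 2 ∧ orderOf y = 2 then f (x * y) else 0)) := by
  rw [CentInvClassAlg.class_algebra t ht hconj (fun h => f (π h))
    (fun h hh => support_comp ht π hπ hK h (hf _ hh)) m hm, ← pair_sum π hπ hK f hf]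

end main

end Cfsg.Agent.Classification.RTwo.SDClass
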