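import Mathlib
import Cfsg.Agent.Characters.GL23Combi

/-!
# The integer vectors behind `GL(2,3)` centralizers, with the degrees

`GL23Combi.combi` together with the indices at which the degrees `|X|` and `|1 - Y|` occur.
-/

set_option autoImplicit false

namespace Cfsg.Agent.Classification.RTwo.SDCombi

open Cfsg.Agent.Characters.GL23Table Cfsg.Agent.Characters.GL23Combi

section

variable {ι : Type*} [DecidableEq ι]

variable [Fintype ι]

/-- A vector with three nonzero entries whose sum over `B` vanishes. -/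
theorem three_mem (B : Finset ι) (F : ι → ℤ) (a b c : ι) (hab : a ≠ b) (hac : a ≠ c) (hbc : b ≠ c)
    (hF : ∀ x, x ≠ a → x ≠ b → x ≠ c → F x = 0) (haB : a ∈ B) (hsum : ∑ x ∈ B, F x = 0)
    (h0 : F a ≠ 0) (h1 : F a + F b ≠ 0) (h2 : F a + F c ≠ 0) : b ∈ B ∧ c ∈ B := by
  have h3 : ∑ x ∈ B, F x = ∑ x, if x ∈ B then F x else 0 := by
    rw [Finset.sum_ite_mem, Finset.univ_inter]
  rw [h3, sum_three (fun x => if x ∈ B then F x else 0) a b c hab hac hbc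
    (fun x h h' h'' => by rw [hF x h h' h'', ite_self])] at hsum
  simp only [haB, if_true] at hsum
  by_cases hb : b ∈ B <;> by_cases hc : c ∈ B
  · exact ⟨hb, hc⟩
  · simp only [hb, hc, if_true, if_false, add_zero] at hsum
    exact absurd hsum h1
  · simp only [hb, hc, if_true, if_false, add_zero] at hsum
    exact absurd hsum h2
  · simp only [hb, hc, if_false, add_zero] at hsum
    exact absurd hsum h0

theorem finish (d : ι → ℤ) (hd : ∀ x, 0 < d x) (i0 : ι) (hd0 : d i0 = 1)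
    (A B C D E : ι → ℤ) (i j k l m n o : ι) (ε γ : ℤ) (hε : ε ^ 2 = 1) (hγ : γ ^ 2 = 1)
    (hC0 : C i0 = 1) (hD0 : D i0 = 0) (hE0 : E i0 = -1) (hA0 : A i0 = 0) (hB0 : B i0 = 0)
    (hAi : A i = ε) (hBi : B i = ε) (hCi : C i = ε) (hDi : D i = ε) (hEi : E i = 0)
    (hDj : D j = 0) (hEj : E j = 0) (hDk : D k = 0) (hEk : E k = 0)
    (hAx : ∀ x, x ≠ i → x ≠ j → A x = 0) (hBx : ∀ x, x ≠ i → x ≠ k → B x = 0)
    (h0i : i0 ≠ i) (hli : l ≠ i) (hl0 : l ≠ i0) (hlj : l ≠ j) (hlk : l ≠ k) (hCl : C l = γ)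
    (hDl : D l = 0) (hEl : E l = 0)
    (hCx : ∀ x, x ≠ i0 → x ≠ i → x ≠ l → C x = 0)
    (hDm : D m ^ 2 = 1) (hmi : m ≠ i)
    (hDx : ∀ x, x ≠ i → x ≠ m → x ≠ n → D x = 0)
    (hEm : E m = D m) (hEn : E n = 0) (hEo : E o ^ 2 = 1) (ho0 : o ≠ i0) (hom : o ≠ m)
    (hon : o ≠ n) (hEx : ∀ x, x ≠ i0 → x ≠ m → x ≠ n → x ≠ o → E x = 0)
    (hCd : 1 + ε * d i + γ * d l = 0) (hEd : ∑ x, E x * d x = 0)
    (v : ι → ℤ) (hv : ∀ x, v x = 2 * A x + 2 * B x - 3 * C x + D x - 4 * E x) :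
    ∃ X Y : ℤ, X ≠ 0 ∧ X + 1 ≠ 0 ∧ Y ≠ 0 ∧ 1 - Y ≠ 0 ∧
      ∑ x, (C x : ℚ) * ((v x : ℚ) ^ 2 / d x) = 1 + 4 / X - 9 / (X + 1) ∧
      ∑ x, (E x : ℚ) * ((v x : ℚ) ^ 2 / d x) = -1 + 9 / Y + 16 / (1 - Y) ∧
      (∃ i, C i ≠ 0 ∧ d i = |X|) ∧ (∃ o, E o ≠ 0 ∧ d o = |1 - Y|) ∧
      (∀ B : Finset ι, i0 ∈ B → ∑ x ∈ B, C x * d x = 0 → ∀ x, C x ≠ 0 → x ∈ B) ∧
      (∀ B : Finset ι, i0 ∈ B → ∑ x ∈ B, E x * d x = 0 → ∀ x, E x ≠ 0 → x ∈ B) := by
  have ne_of (f : ι → ℤ) {x y : ι} (hx : f x ^ 2 = 1) (hy : f y = 0) : x ≠ y := by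
    rintro rfl
    rw [hy] at hx
    norm_num at hx
  have hmj : m ≠ j := ne_of D hDm hDj
  have hmk : m ≠ k := ne_of D hDm hDk
  have hml : m ≠ l := ne_of D hDm hDl
  have hm0 : m ≠ i0 := ne_of D hDm hD0
  have hoi : o ≠ i := ne_of E hEo hEi
  have hoj : o ≠ j := ne_of E hEo hEj
  have hok : o ≠ k := ne_of E hEo hEk
  have hol : o ≠ l := ne_of E hEo hEl
  have hEx' : ∀ x, x ≠ i0 → x ≠ m → x ≠ o → E x = 0 := by
    intro x h1 h2 h3
    by_cases hxn : x = n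
    · rw [hxn, hEn]
    · exact hEx x h1 h2 hxn h3
  have v0 : v i0 = 1 := by rw [hv, hA0, hB0, hC0, hD0, hE0]; norm_num
  have vi : v i = 2 * ε := by rw [hv, hAi, hBi, hCi, hDi, hEi]; ring
  have vl : v l = -3 * γ := by
    rw [hv, hAx l hli hlj, hBx l hli hlk, hCl, hDl, hEl]; ring
  have vm : v m = -3 * D m := by
    rw [hv, hAx m hmi hmj, hBx m hmi hmk, hCx m hm0 hmi hml, hEm]; ring
  have vo : v o = -4 * E o := by
    rw [hv, hAx o hoi hoj, hBx o hoi hok, hCx o ho0 hoi hol, hDx o hoi hom hon]; ring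
  have sumE : ∑ x, E x * d x = -1 + E m * d m + E o * d o := by
    rw [sum_three (fun x => E x * d x) i0 m o hm0.symm ho0.symm hom.symm
      (fun x h h' h'' => by rw [hEx' x h h' h'', zero_mul]), hE0, hd0]
    ring
  rw [hEd] at sumE
  have hεd : ε * d i ≠ 0 := by
    rcases pm hε with h | h <;> rw [h] <;> have := hd i <;> omega
  have hγd : γ * d l ≠ 0 := by
    rcases pm hγ with h | h <;> rw [h] <;> have := hd l <;> omega
  have hEm2 : E m ^ 2 = 1 := by rw [hEm]; exact hDm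
  have hmd : E m * d m ≠ 0 := by
    rcases pm hEm2 with h | h <;> rw [h] <;> have := hd m <;> omega
  have hod : E o * d o ≠ 0 := by
    rcases pm hEo with h | h <;> rw [h] <;> have := hd o <;> omega
  refine ⟨ε * d i, E m * d m, hεd, by omega, hmd, by omega, ?_, ?_, ⟨i, ?_, ?_⟩,
    ⟨o, ?_, ?_⟩, ?_, ?_⟩
  · rw [sum_three (fun x => (C x : ℚ) * ((v x : ℚ) ^ 2 / d x)) i0 i l h0i hl0.symm hli.symm
      (fun x h h' h'' => by rw [hCx x h h' h'']; simp), v0, vi, vl, hC0, hCi, hCl, hd0]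
    have e1 : ((2 * ε : ℤ) : ℚ) ^ 2 = 4 := by
      have : (2 * ε) ^ 2 = 4 := by rw [mul_pow, hε]; norm_num
      exact_mod_cast this
    have e2 : ((-3 * γ : ℤ) : ℚ) ^ 2 = 9 := by
      have : (-3 * γ) ^ 2 = 9 := by rw [mul_pow, hγ]; norm_num
      exact_mod_cast this
    rw [e1, e2, frac_one hε (hd i) rfl, frac_one hγ (hd l) rfl]
    have e3 : ((γ * d l : ℤ) : ℚ) = -(((ε * d i : ℤ) : ℚ) + 1) := by
      have : γ * d l = -(ε * d i + 1) := by omega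
      rw [this]
      push_cast
      ring
    rw [e3, div_neg]
    norm_num
    ring
  · rw [sum_three (fun x => (E x : ℚ) * ((v x : ℚ) ^ 2 / d x)) i0 m o hm0.symm ho0.symm hom.symm
      (fun x h h' h'' => by rw [hEx' x h h' h'']; simp), v0, vm, vo, hE0, hd0, ← hEm]
    have e1 : ((-3 * E m : ℤ) : ℚ) ^ 2 = 9 := by
      have : (-3 * E m) ^ 2 = 9 := by rw [mul_pow, hEm2]; norm_num
      exact_mod_cast this
    have e2 : ((-4 * E o : ℤ) : ℚ) ^ 2 = 16 := by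
      have : (-4 * E o) ^ 2 = 16 := by rw [mul_pow, hEo]; norm_num
      exact_mod_cast this
    rw [e1, e2, frac_one hEm2 (hd m) rfl, frac_one hEo (hd o) rfl]
    have e3 : ((E o * d o : ℤ) : ℚ) = 1 - ((E m * d m : ℤ) : ℚ) := by
      have : E o * d o = 1 - E m * d m := by omega
      rw [this]
      push_cast
      ring
    rw [e3]
    norm_num
  · rw [hCi]
    rcases pm hε with h | h <;> rw [h] <;> norm_num
  · rw [abs_mul, abs_of_pos (hd i)]
    rcases pm hε with h | h <;> rw [h] <;> simp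
  · intro h
    rw [h] at hEo
    norm_num at hEo
  · have e3 : 1 - E m * d m = E o * d o := by omega
    rw [e3, abs_mul, abs_of_pos (hd o)]
    rcases pm hEo with h | h <;> rw [h] <;> simp
  · intro B h0 hsum x hx
    obtain ⟨h1, h2⟩ := three_mem B (fun x => C x * d x) i0 i l h0i hl0.symm hli.symm
      (fun x h h' h'' => by rw [hCx x h h' h'', zero_mul]) h0 hsum
      (by rw [hC0, hd0]; norm_num)
      (by
        rw [hC0, hd0, hCi]
        intro h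
        apply hγd
        linear_combination hCd - h)
      (by
        rw [hC0, hd0, hCl]
        intro h
        apply hεd
        linear_combination hCd - h)
    by_contra hxB
    refine hx (hCx x ?_ ?_ ?_)
    · rintro rfl; exact hxB h0
    · rintro rfl; exact hxB h1
    · rintro rfl; exact hxB h2
  · intro B h0 hsum x hx
    obtain ⟨h1, h2⟩ := three_mem B (fun x => E x * d x) i0 m o hm0.symm ho0.symm hom.symm
      (fun x h h' h'' => by rw [hEx' x h h' h'', zero_mul]) h0 hsum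
      (by rw [hE0, hd0]; norm_num)
      (by
        rw [hE0, hd0]
        intro h
        apply hod
        linear_combination -sumE - h)
      (by
        rw [hE0, hd0]
        intro h
        apply hmd
        linear_combination -sumE - h)
    by_contra hxB
    refine hx (hEx' x ?_ ?_ ?_)
    · rintro rfl; exact hxB h0
    · rintro rfl; exact hxB h1
    · rintro rfl; exact hxB h2

/-- The combinatorial heart: the degrees and the values. -/
theorem combi (d : ι → ℤ) (hd : ∀ x, 0 < d x) (i0 : ι) (hd0 : d i0 = 1)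
    (A B C D E : ι → ℤ)
    (hAA : ∑ x, A x ^ 2 = 2) (hBB : ∑ x, B x ^ 2 = 2) (hCC : ∑ x, C x ^ 2 = 3)
    (hDD : ∑ x, D x ^ 2 = 3) (hEE : ∑ x, E x ^ 2 = 3)
    (hAB : ∑ x, A x * B x = 1) (hAC : ∑ x, A x * C x = 1) (hAD : ∑ x, A x * D x = 1)
    (hAE : ∑ x, A x * E x = 0) (hBC : ∑ x, B x * C x = 1) (hBD : ∑ x, B x * D x = 1)
    (hBE : ∑ x, B x * E x = 0) (hCD : ∑ x, C x * D x = 1) (hCE : ∑ x, C x * E x = -1)
    (hDE : ∑ x, D x * E x = 1)
    (hA0 : A i0 = 0) (hB0 : B i0 = 0) (hC0 : C i0 = 1) (hD0 : D i0 = 0) (hE0 : E i0 = -1)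
    (hAd : ∑ x, A x * d x = 0) (hBd : ∑ x, B x * d x = 0) (hCd : ∑ x, C x * d x = 0)
    (hDd : ∑ x, D x * d x = 0) (hEd : ∑ x, E x * d x = 0)
    (v : ι → ℤ) (hv : ∀ x, v x = 2 * A x + 2 * B x - 3 * C x + D x - 4 * E x) :
    ∃ X Y : ℤ, X ≠ 0 ∧ X + 1 ≠ 0 ∧ Y ≠ 0 ∧ 1 - Y ≠ 0 ∧
      ∑ x, (C x : ℚ) * ((v x : ℚ) ^ 2 / d x) = 1 + 4 / X - 9 / (X + 1) ∧
      ∑ x, (E x : ℚ) * ((v x : ℚ) ^ 2 / d x) = -1 + 9 / Y + 16 / (1 - Y) ∧
      (∃ i, C i ≠ 0 ∧ d i = |X|) ∧ (∃ o, E o ≠ 0 ∧ d o = |1 - Y|) ∧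
      (∀ B : Finset ι, i0 ∈ B → ∑ x ∈ B, C x * d x = 0 → ∀ x, C x ≠ 0 → x ∈ B) ∧
      (∀ B : Finset ι, i0 ∈ B → ∑ x ∈ B, E x * d x = 0 → ∀ x, E x ≠ 0 → x ∈ B) := by
  obtain ⟨i, j, k, ε, hε, hij, hik, hjk, hAi, hAj, hAx, hBi, hBk, hBx, hdj, hdk⟩ :=
    two_vectors d A B hd hAA hBB hAB hAd hBd
  have hεne : ε ≠ 0 := by rcases hε with h | h <;> rw [h] <;> norm_num
  have hε2 : ε ^ 2 = 1 := by rcases hε with h | h <;> rw [h] <;> norm_num
  have h0i : i0 ≠ i := by rintro rfl; exact hεne (hAi ▸ hA0)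
  have h0j : i0 ≠ j := by
    rintro rfl
    rw [hA0] at hAj
    omega
  have h0k : i0 ≠ k := by
    rintro rfl
    rw [hB0] at hBk
    omega
  have sumA : ∀ F : ι → ℤ, ∑ x, A x * F x = ε * (F i - F j) := by
    intro F
    rw [sum_two (fun x => A x * F x) i j hij (fun x h h' => by rw [hAx x h h', zero_mul]), hAi, hAj]
    ring
  have sumB : ∀ F : ι → ℤ, ∑ x, B x * F x = ε * (F i - F k) := by
    intro F
    rw [sum_two (fun x => B x * F x) i k hik (fun x h h' => by rw [hBx x h h', zero_mul]), hBi, hBk]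
    ring
  rw [sumA] at hAC hAD hAE
  rw [sumB] at hBC hBD hBE
  obtain ⟨hCi, hCj, hCk, l, hCl, hli, hl0, hlj, hlk, hCx⟩ :=
    lemmaC d C i0 i j k ε hd0 hε hij hik hjk h0i h0j h0k hdj hdk hCC hAC hBC hC0 hCd
  have sumC : ∀ F : ι → ℤ, ∑ x, C x * F x = F i0 + ε * F i + C l * F l := by
    intro F
    rw [sum_three (fun x => C x * F x) i0 i l h0i hl0.symm hli.symm
      (fun x h h' h'' => by rw [hCx x h h' h'', zero_mul]), hC0, hCi]
    ring
  rw [sumC] at hCD hCE hCd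
  rw [hd0] at hCd
  rw [hD0, zero_add] at hCD
  rw [hE0] at hCE
  obtain ⟨hDi, hDj, hDk, hDl, m, n, hDm, hDn, hmi, hni, hmn, hDx⟩ :=
    lemmaD d D i j k l ε (C l) hε hCl hij hik hjk hli hlj hlk hdj hdk hDD hAD hBD hCD hCd hDd
  have ne_of (f : ι → ℤ) {x y : ι} (hx : f x ^ 2 = 1) (hy : f y = 0) : x ≠ y := by
    rintro rfl
    rw [hy] at hx
    norm_num at hx
  have hDE' : ε * E i + D m * E m + D n * E n = 1 := by
    rw [← hDE, sum_three (fun x => D x * E x) i m n hmi.symm hni.symm hmn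
      (fun x h h' h'' => by rw [hDx x h h' h'', zero_mul]), hDi]
  obtain ⟨hEi, hEj, hEk, hEl, hcase, o, hEo, ho0, hom, hon, hEx⟩ :=
    lemmaE E D i0 i j k l m n ε (C l) hε hCl hij hik hjk h0i h0j h0k (ne_of D hDm hD0).symm
      (ne_of D hDn hD0).symm hmn hDm hDn hEE hAE hBE hE0 hCE hDE'
  rcases hcase with ⟨h1, h2⟩ | ⟨h1, h2⟩
  · exact finish d hd i0 hd0 A B C D E i j k l m n o ε (C l) hε2 hCl hC0 hD0 hE0 hA0 hB0 hAi hBi
      hCi hDi hEi hDj hEj hDk hEk hAx hBx h0i hli hl0 hlj hlk rfl hDl hEl hCx hDm hmi hDx h1 h2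
      hEo ho0 hom hon hEx hCd hEd v hv
  · exact finish d hd i0 hd0 A B C D E i j k l n m o ε (C l) hε2 hCl hC0 hD0 hE0 hA0 hB0 hAi hBi
      hCi hDi hEi hDj hEj hDk hEk hAx hBx h0i hli hl0 hlj hlk rfl hDl hEl hCx hDn hni
      (fun x a b c => hDx x a c b) h2 h1
      hEo ho0 hon hom (fun x a b c e => hEx x a c b e) hCd hEd v hv

end

end Cfsg.Agent.Classification.RTwo.SDCombi
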