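import Mathlib

/-!
# The number theory for involution centralizers with quotient `GL(2,3)`

The degrees of `L₃(3)` (`X = 26`, `Y = 13`) and of `M₁₁` (`X = 10`, `Y = 45`).
-/

set_option autoImplicit false

namespace Cfsg.Agent.Classification.RTwo.SDNum

/-- The final diophantine equation. -/
theorem final (x e : ℤ) (hx : x ≠ 0) (he : e ≠ 0) (hx2 : Odd x)
    (h : e ^ 2 * ((1 + 4 * x) * (3 + 8 * x)) = x ^ 2 * ((16 * e - 3) * (4 * e - 1))) :
    (x = 1 ∧ e = 3) ∨ (x = 3 ∧ e = 1) := by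
  have h0 : e ^ 2 * (3 + 20 * x) = x ^ 2 * (32 * e ^ 2 - 28 * e + 3) := by linear_combination h
  have he2 : 0 < e ^ 2 := by positivity
  have hx2' : 0 < x ^ 2 := by positivity
  have h1 : 0 < 32 * e ^ 2 - 28 * e + 3 := by
    rcases lt_or_gt_of_ne he with h' | h'
    · nlinarith
    · nlinarith
  have hx1 : 1 ≤ x := by
    by_contra hlt
    push Not at hlt
    have : x ≤ -1 := by omega
    have h2 : e ^ 2 * (3 + 20 * x) < 0 := mul_neg_of_pos_of_neg he2 (by linarith)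
    have h3 : 0 < x ^ 2 * (32 * e ^ 2 - 28 * e + 3) := mul_pos hx2' h1
    linarith
  have he1 : 1 ≤ e := by
    by_contra hlt
    push Not at hlt
    have h2 : e ≤ -1 := by omega
    have h3 : 32 * e ^ 2 ≤ 32 * e ^ 2 - 28 * e + 3 := by linarith
    have h4 : x ^ 2 * (32 * e ^ 2) ≤ e ^ 2 * (3 + 20 * x) := by
      rw [h0]
      exact mul_le_mul_of_nonneg_left h3 hx2'.le
    have h5 : e ^ 2 * (32 * x ^ 2) ≤ e ^ 2 * (3 + 20 * x) := by linarith
    have h6 := le_of_mul_le_mul_left h5 he2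
    nlinarith
  have hx5 : x ≤ 5 := by
    by_contra hlt
    push Not at hlt
    have h3 : 4 * e ^ 2 ≤ 32 * e ^ 2 - 28 * e + 3 := by nlinarith
    have h4 : x ^ 2 * (4 * e ^ 2) ≤ e ^ 2 * (3 + 20 * x) := by
      rw [h0]
      exact mul_le_mul_of_nonneg_left h3 hx2'.le
    have h5 : e ^ 2 * (4 * x ^ 2) ≤ e ^ 2 * (3 + 20 * x) := by linarith
    have h6 := le_of_mul_le_mul_left h5 he2
    nlinarith
  obtain ⟨k, hk⟩ := hx2
  have : x = 1 ∨ x = 3 ∨ x = 5 := by omega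
  rcases this with rfl | rfl | rfl
  · left
    refine ⟨rfl, ?_⟩
    have h7 : (e - 3) * (9 * e - 1) = 0 := by linear_combination -h0
    rcases mul_eq_zero.1 h7 with h8 | h8 <;> omega
  · right
    refine ⟨rfl, ?_⟩
    have h7 : (e - 1) * (25 * e - 3) * 9 = 0 := by linear_combination -h0
    have h8 : (e - 1) * (25 * e - 3) = 0 := by omega
    rcases mul_eq_zero.1 h8 with h8 | h8 <;> omega
  · exfalso
    nlinarith

theorem even_of_sq {N a w : ℤ} (hN : Odd N) (h : N * a ^ 2 = 2 * w) : ∃ b, a = 2 * b := by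
  have h1 : Even (N * a ^ 2) := h ▸ even_two_mul w
  rw [Int.even_mul, Int.even_pow] at h1
  rcases h1 with h1 | h1
  · exact absurd hN (Int.not_odd_iff_even.2 h1)
  · obtain ⟨b, hb⟩ := h1.1
    exact ⟨b, by omega⟩

theorem odd_of_eq {N a u : ℤ} (hu : Odd u) (h : N * a ^ 2 = u) : Odd a := by
  by_contra h1
  rw [Int.not_odd_iff_even] at h1
  have : Even (N * a ^ 2) := Even.mul_left (h1.pow_of_ne_zero (by norm_num)) _
  rw [h] at this
  exact (Int.not_even_iff_odd.2 hu) this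

/-- The two solutions. -/
theorem main (N κ X Y : ℤ) (hN : Odd N) (hκ : Odd κ) (hX : X ≠ 0)
    (hX1 : X + 1 ≠ 0) (hY : Y ≠ 0) (hY1 : 1 - Y ≠ 0)
    (h1 : N * (X - 2) ^ 2 = 96 * κ ^ 2 * X * (X + 1))
    (h2 : N * (Y + 3) ^ 2 = 192 * κ ^ 2 * Y * (Y - 1)) :
    (X = 10 ∧ Y = 45) ∨ (X = 26 ∧ Y = 13) := by
  have hN0 : N ≠ 0 := by
    rintro rfl
    exact (by decide : ¬ Odd (0 : ℤ)) hN
  have hκ0 : κ ≠ 0 := by
    rintro rfl
    exact (by decide : ¬ Odd (0 : ℤ)) hκ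
  -- `X = 2 + 8 x`
  obtain ⟨a, ha⟩ := even_of_sq (a := X - 2) (w := 48 * κ ^ 2 * X * (X + 1)) hN
    (by linear_combination h1)
  have hXa : X = 2 * a + 2 := by linarith
  subst hXa
  have h3 : N * a ^ 2 = 2 * (24 * κ ^ 2 * (a + 1) * (2 * a + 3)) := by
    have : (4 : ℤ) * (N * a ^ 2) = 4 * (2 * (24 * κ ^ 2 * (a + 1) * (2 * a + 3))) := by
      linear_combination h1
    exact mul_left_cancel₀ (by norm_num) this
  obtain ⟨b, rfl⟩ := even_of_sq hN h3
  have h4 : N * b ^ 2 = 2 * (6 * κ ^ 2 * (2 * b + 1) * (4 * b + 3)) := by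
    have : (4 : ℤ) * (N * b ^ 2) = 4 * (2 * (6 * κ ^ 2 * (2 * b + 1) * (4 * b + 3))) := by
      linear_combination h3
    exact mul_left_cancel₀ (by norm_num) this
  obtain ⟨x, rfl⟩ := even_of_sq hN h4
  have h5 : N * x ^ 2 = 3 * κ ^ 2 * (1 + 4 * x) * (3 + 8 * x) := by
    have : (4 : ℤ) * (N * x ^ 2) = 4 * (3 * κ ^ 2 * (1 + 4 * x) * (3 + 8 * x)) := by
      linear_combination h4
    exact mul_left_cancel₀ (by norm_num) this
  have hx2 : Odd x := by
    refine odd_of_eq ?_ h5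
    refine Odd.mul (Odd.mul (Odd.mul (by decide) hκ.pow) ⟨2 * x, by ring⟩) ⟨4 * x + 1, by ring⟩
  -- `Y = -3 + 16 e`
  obtain ⟨a, ha⟩ := even_of_sq (a := Y + 3) (w := 96 * κ ^ 2 * Y * (Y - 1)) hN
    (by linear_combination h2)
  have hYa : Y = 2 * a - 3 := by linarith
  subst hYa
  have h6 : N * a ^ 2 = 2 * (48 * κ ^ 2 * (2 * a - 3) * (a - 2)) := by
    have : (4 : ℤ) * (N * a ^ 2) = 4 * (2 * (48 * κ ^ 2 * (2 * a - 3) * (a - 2))) := by
      linear_combination h2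
    exact mul_left_cancel₀ (by norm_num) this
  obtain ⟨b, rfl⟩ := even_of_sq hN h6
  have h7 : N * b ^ 2 = 2 * (24 * κ ^ 2 * (4 * b - 3) * (b - 1)) := by
    have : (4 : ℤ) * (N * b ^ 2) = 4 * (2 * (24 * κ ^ 2 * (4 * b - 3) * (b - 1))) := by
      linear_combination h6
    exact mul_left_cancel₀ (by norm_num) this
  obtain ⟨c, rfl⟩ := even_of_sq hN h7
  have h8 : N * c ^ 2 = 2 * (6 * κ ^ 2 * (8 * c - 3) * (2 * c - 1)) := by
    have : (4 : ℤ) * (N * c ^ 2) = 4 * (2 * (6 * κ ^ 2 * (8 * c - 3) * (2 * c - 1))) := by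
      linear_combination h7
    exact mul_left_cancel₀ (by norm_num) this
  obtain ⟨e, rfl⟩ := even_of_sq hN h8
  have h9 : N * e ^ 2 = 3 * κ ^ 2 * (16 * e - 3) * (4 * e - 1) := by
    have : (4 : ℤ) * (N * e ^ 2) = 4 * (3 * κ ^ 2 * (16 * e - 3) * (4 * e - 1)) := by
      linear_combination h8
    exact mul_left_cancel₀ (by norm_num) this
  have hx0 : x ≠ 0 := by
    rintro rfl
    exact (by decide : ¬ Odd (0 : ℤ)) hx2
  have he0 : e ≠ 0 := by
    rintro rfl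
    have h10 : (3 : ℤ) * κ ^ 2 * 3 = 0 := by linear_combination -h9
    have : κ ^ 2 = 0 := by omega
    exact hκ0 (by simpa using this)
  have h10 : e ^ 2 * ((1 + 4 * x) * (3 + 8 * x)) = x ^ 2 * ((16 * e - 3) * (4 * e - 1)) := by
    have h11 : (3 * κ ^ 2) * (e ^ 2 * ((1 + 4 * x) * (3 + 8 * x))) =
        (3 * κ ^ 2) * (x ^ 2 * ((16 * e - 3) * (4 * e - 1))) := by
      linear_combination x ^ 2 * h9 - e ^ 2 * h5
    exact mul_left_cancel₀ (by positivity) h11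
  rcases final x e hx0 he0 hx2 h10 with ⟨rfl, rfl⟩ | ⟨rfl, rfl⟩
  · left; constructor <;> norm_num
  · right; constructor <;> norm_num

end Cfsg.Agent.Classification.RTwo.SDNum
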