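import Mathlib
import Cfsg.Prelude.Def_Blocks
import Cfsg.Agent.Characters.Core
import Cfsg.Agent.Characters.GL23
import Cfsg.Agent.Characters.GL23Assembly
import Cfsg.Agent.Characters.CentInvTI
import Cfsg.Agent.Blocks.Knorr
import Cfsg.Agent.Classification.BGBlockB0
import Cfsg.Agent.Classification.RTwo.SDClass
import Cfsg.Agent.Classification.RTwo.SDCombi
import Cfsg.Agent.Classification.RTwo.SDNum
import Cfsg.Agent.S0942
import Cfsg.Agent.S0925
import Cfsg.Agent.S0148
import Cfsg.Agent.S0150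

/-!
# Involution centralizers with quotient `GL(2,3)` by an odd normal subgroup: a small character

`main`: if all involutions of `G` are conjugate and `C(t)` has a normal subgroup of odd order with
quotient `GL(2,3)`, then the principal 2-block contains an irreducible character of degree `10` or
`12`.
-/

set_option autoImplicit false
open Cfsg

namespace Cfsg.Agent.Classification.RTwo.SDChar

open Cfsg.Agent.Characters Cfsg.Agent.Characters.GL23 Cfsg.Agent.Characters.GL23Table
open Cfsg.Agent.Classification.RTwo.SDClass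
open scoped ComplexConjugate

section inflate

/-- Inflation preserves the inner product. -/
theorem classInner_inflate {C Q : Type*} [Group C] [Group Q] [Fintype C] [Fintype Q] (π : C →* Q)
    (hπ : Function.Surjective π) (f g : Q → ℂ) :
    classInner (fun x => f (π x)) (fun x => g (π x)) = classInner f g := by
  classical
  have h0 : ∀ w : Q, Nat.card {x : C // π x = w} = Nat.card π.ker := by
    intro w
    obtain ⟨d, rfl⟩ := hπ w
    symm
    refine Nat.card_congr ((Equiv.mulLeft d).subtypeEquiv fun x => ?_)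
    rw [MonoidHom.mem_ker, Equiv.coe_mulLeft, map_mul]
    simp
  have h1 : ∑ x : C, f (π x) * conj (g (π x)) =
      (Nat.card π.ker : ℂ) * ∑ w : Q, f w * conj (g w) := by
    rw [← Finset.sum_fiberwise Finset.univ π (fun x => f (π x) * conj (g (π x))), Finset.mul_sum]
    refine Finset.sum_congr rfl fun w _ => ?_
    rw [Finset.sum_congr rfl (g := fun _ => f w * conj (g w)) (fun x hx => by
      rw [(Finset.mem_filter.1 hx).2]), Finset.sum_const, nsmul_eq_mul]
    congr 2
    rw [← h0 w, Nat.card_eq_fintype_card, Fintype.card_subtype]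
  have h2 : Nat.card C = Nat.card Q * Nat.card π.ker := by
    have := Subgroup.card_eq_card_quotient_mul_card_subgroup π.ker
    rw [this, Nat.card_congr (QuotientGroup.quotientKerEquivOfSurjective π hπ).toEquiv]
  have h3 : (Nat.card π.ker : ℂ) ≠ 0 := by exact_mod_cast Nat.card_pos.ne'
  have h4 : (Nat.card Q : ℂ) ≠ 0 := by exact_mod_cast Nat.card_pos.ne'
  rw [Core.classInner_def, Core.classInner_def, h1, h2]
  push_cast
  field_simp

end inflate

section main

variable {G : Type*} [Group G] [Fintype G] {t : G} (ht : orderOf t = 2)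
  (π : Subgroup.centralizer ({t} : Set G) →* Grp)

/-- The five functions on the centralizer. -/
noncomputable def alC (i : Fin 5) : Subgroup.centralizer ({t} : Set G) → ℂ :=
  fun h => emb (alG i (π h))

theorem isGen_alC (i : Fin 5) :
    IsGeneralizedCharacter (Subgroup.centralizer ({t} : Set G)) (alC π i) := by
  have h := GL23Assembly.isGen_comp (χ := fun g : Grp => emb (alG i g)) π (isGen_alG i)
  exact h

theorem emb_alG_support (i : Fin 5) (w : Grp) (hw : emb (alG i w) ≠ 0) : ∃ k : ℕ, w ^ k = -1 := by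
  refine alG_support i w ?_
  intro h0
  apply hw
  rw [h0, map_zero]

include ht in
theorem alC_support (hπ : Function.Surjective π) (hK : Odd (Nat.card π.ker)) (i : Fin 5)
    (h : Subgroup.centralizer ({t} : Set G)) (hh : alC π i h ≠ 0) : ∃ k : ℕ, (h : G) ^ k = t :=
  support_comp ht π hπ hK h (emb_alG_support i _ hh)

theorem card_C (hπ : Function.Surjective π) :
    Nat.card (Subgroup.centralizer ({t} : Set G)) = 48 * Nat.card π.ker := by
  have := Subgroup.card_eq_card_quotient_mul_card_subgroup π.ker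
  rw [this, Nat.card_congr (QuotientGroup.quotientKerEquivOfSurjective π hπ).toEquiv, natCard_Grp]

include ht in
/-- A character in the principal 2-block is constant on the elements over `-1`. -/
theorem value_of_mem {M : Ideal AlgInt} (hM : IsPModular 2 M) (hπ : Function.Surjective π)
    (hK : Odd (Nat.card π.ker)) (χ : IrrCharacter G) (hχ : χ ∈ principalBlock M G)
    (x : Subgroup.centralizer ({t} : Set G)) (hx : π x = -1) :
    (χ : G → ℂ) x = (χ : G → ℂ) t := by
  have h1 : (tC t)⁻¹ * x ∈ π.ker := by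
    rw [MonoidHom.mem_ker, map_mul, map_inv, pi_t ht π hπ hK, hx, inv_mul_cancel]
  have hle : π.ker ≤ pPrimeCore 2 (Subgroup.centralizer ({t} : Set G)) := by
    refine le_sSup (show π.ker ∈ {N : Subgroup (Subgroup.centralizer ({t} : Set G)) |
      N.Normal ∧ (Nat.card N).Coprime 2} from ⟨MonoidHom.normal_ker π, ?_⟩)
    rw [Nat.coprime_two_right]
    exact hK
  have h2 : ((tC t)⁻¹ * x : Subgroup.centralizer ({t} : Set G)) ∈
      pPrimeCore 2 (Subgroup.centralizer ({t} : Set G)) := hle h1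
  have h3 : (((tC t)⁻¹ * x : Subgroup.centralizer ({t} : Set G)) : G) ∈
      centralizerPPrimeCore 2 t := ⟨_, h2, rfl⟩
  have : Fact (Nat.Prime 2) := ⟨Nat.prime_two⟩
  have h4 := S0942.result 2 M hM t ⟨1, by rw [ht, pow_one]⟩ _ h3 χ hχ
  have h5 : (x : G) =
      t * (((tC t)⁻¹ * x : Subgroup.centralizer ({t} : Set G)) : G) := by
    show (x : G) = t * (t⁻¹ * x)
    group
  rw [← h4, ← h5]

open scoped Classical in
include ht in
/-- The value at `t` of an irreducible character that is constant on the elements over `-1`. -/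
theorem value_t [Fintype (IrrCharacter G)] [Fintype (Subgroup.centralizer ({t} : Set G))]
    (hπ : Function.Surjective π) (hK : Odd (Nat.card π.ker))
    (m : Fin 5 → IrrCharacter G → ℤ)
    (hm : ∀ i, indFun _ (alC π i) = ∑ χ : IrrCharacter G, m i χ • (χ : G → ℂ))
    (χ : IrrCharacter G) (hχ : ∀ x : Subgroup.centralizer ({t} : Set G), π x = -1 →
      (χ : G → ℂ) x = (χ : G → ℂ) t) :
    (χ : G → ℂ) t = ((∑ i, wt i * m i χ : ℤ) : ℂ) := by
  have h1 : ∀ i, (m i χ : ℂ) = classInner (alC π i) (fun x => (χ : G → ℂ) x) := by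
    intro i
    rw [← S0150.classInner_indFun _ _ _ (fun g h => Core.isIrr_isClassFunction χ.2 g h), hm i]
    have := Core.classInner_sum_smul_irr (fun ψ : IrrCharacter G => ((m i ψ : ℤ) : ℂ)) χ
    rw [← this]
    congr 1
    refine Finset.sum_congr rfl fun ψ _ => ?_
    rw [Int.cast_smul_eq_zsmul]
  have h2 : ((∑ i, wt i * m i χ : ℤ) : ℂ) = conj ((χ : G → ℂ) t) := by
    push_cast
    simp only [h1, Core.classInner_def]
    have h3 : ∑ i : Fin 5, (wt i : ℂ) * ((Nat.card (Subgroup.centralizer ({t} : Set G)) : ℂ)⁻¹ *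
        ∑ g : Subgroup.centralizer ({t} : Set G), alC π i g * conj ((χ : G → ℂ) g)) =
        (Nat.card (Subgroup.centralizer ({t} : Set G)) : ℂ)⁻¹ *
        ∑ g : Subgroup.centralizer ({t} : Set G), (∑ i : Fin 5, (wt i : ℂ) * alC π i g) *
          conj ((χ : G → ℂ) g) := by
      simp only [Finset.mul_sum, Finset.sum_mul]
      rw [Finset.sum_comm]
      refine Finset.sum_congr rfl fun g _ => Finset.sum_congr rfl fun i _ => ?_
      ring
    rw [h3]
    have h4 : ∀ g : Subgroup.centralizer ({t} : Set G),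
        (∑ i : Fin 5, (wt i : ℂ) * alC π i g) * conj ((χ : G → ℂ) g) =
          if π g = -1 then 48 * conj ((χ : G → ℂ) t) else 0 := by
      intro g
      have h5 : ∑ i : Fin 5, (wt i : ℂ) * alC π i g = if π g = -1 then 48 else 0 :=
        wt_sum_alG (π g)
      rw [h5]
      by_cases hg : π g = -1
      · rw [if_pos hg, if_pos hg, hχ g hg]
      · rw [if_neg hg, if_neg hg, zero_mul]
    simp only [h4]
    rw [← Finset.sum_filter, Finset.sum_const, nsmul_eq_mul]
    have h6 : (Finset.univ.filter fun g : Subgroup.centralizer ({t} : Set G) => π g = -1).card =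
        Nat.card π.ker := by
      rw [← card_fiber π hπ (-1), Nat.card_eq_fintype_card, Fintype.card_subtype]
    have h7 : (Nat.card π.ker : ℂ) ≠ 0 := by exact_mod_cast Nat.card_pos.ne'
    rw [h6, card_C π hπ]
    push_cast
    field_simp
  have h3 := congrArg (starRingEnd ℂ) h2
  rw [Complex.conj_conj, map_intCast] at h3
  exact h3.symm

include ht in
/-- `t` is central in a Sylow 2-subgroup. -/
theorem odd_index (hconj : ∀ x : G, orderOf x = 2 → IsConj t x) :
    Odd (Subgroup.centralizer ({t} : Set G)).index := by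
  have : Fact (Nat.Prime 2) := ⟨Nat.prime_two⟩
  obtain ⟨P⟩ : Nonempty (Sylow 2 G) := inferInstance
  have hP1 : Nontrivial (P : Subgroup G) := by
    rw [← Finite.one_lt_card_iff_nontrivial, P.card_eq_multiplicity]
    refine Nat.one_lt_pow ?_ (by norm_num)
    have h2 : 2 ∣ Nat.card G := by rw [← ht]; exact orderOf_dvd_natCard t
    exact (Nat.prime_two.factorization_pos_of_dvd Nat.card_pos.ne' h2).ne'
  have hP2 : IsPGroup 2 (P : Subgroup G) := P.isPGroup'
  have hZ : Nontrivial (Subgroup.center (P : Subgroup G)) := hP2.center_nontrivial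
  have hZp : IsPGroup 2 (Subgroup.center (P : Subgroup G)) := hP2.to_subgroup _
  obtain ⟨z, hz⟩ : ∃ z : Subgroup.center (P : Subgroup G), orderOf z = 2 := by
    refine exists_prime_orderOf_dvd_card' 2 ?_
    obtain ⟨k, hk, hk'⟩ := hZp.nontrivial_iff_card.1 hZ
    rw [hk']
    exact dvd_pow_self 2 hk.ne'
  have hz2 : orderOf ((z : (P : Subgroup G)) : G) = 2 := by
    rw [Subgroup.orderOf_coe, Subgroup.orderOf_coe, hz]
  obtain ⟨c, hc⟩ := isConj_iff.1 (hconj _ hz2)
  -- `t = c⁻¹ z c` is centralized by the conjugate of `P`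
  have h1 : ∀ g ∈ (P : Subgroup G), (g * ((z : (P : Subgroup G)) : G)) =
      ((z : (P : Subgroup G)) : G) * g := by
    intro g hg
    have := (Subgroup.mem_center_iff.1 z.2) ⟨g, hg⟩
    exact congrArg Subtype.val this
  have h2 : ((P : Subgroup G).map (MulAut.conj c⁻¹).toMonoidHom) ≤
      Subgroup.centralizer ({t} : Set G) := by
    rintro _ ⟨g, hg, rfl⟩
    rw [Subgroup.mem_centralizer_singleton_iff]
    have h3 := h1 g hg
    rw [← hc] at h3
    show c⁻¹ * g * c⁻¹⁻¹ * t = t * (c⁻¹ * g * c⁻¹⁻¹)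
    rw [inv_inv]
    have h4 : c⁻¹ * (g * (c * t * c⁻¹)) * c = c⁻¹ * (c * t * c⁻¹ * g) * c := by rw [h3]
    calc c⁻¹ * g * c * t = c⁻¹ * (g * (c * t * c⁻¹)) * c := by group
      _ = c⁻¹ * (c * t * c⁻¹ * g) * c := h4
      _ = t * (c⁻¹ * g * c) := by group
  have h5 : Nat.card ((P : Subgroup G).map (MulAut.conj c⁻¹).toMonoidHom) =
      Nat.card (P : Subgroup G) :=
    Nat.card_congr ((P : Subgroup G).equivMapOfInjective _
      (MulAut.conj c⁻¹).injective).toEquiv.symm
  have h6 : Nat.card (P : Subgroup G) ∣ Nat.card (Subgroup.centralizer ({t} : Set G)) := by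
    rw [← h5]
    exact Subgroup.card_dvd_of_le h2
  have h7 := Subgroup.card_mul_index (Subgroup.centralizer ({t} : Set G))
  rw [← Nat.not_even_iff_odd, even_iff_two_dvd]
  intro h8
  have h9 : 2 ^ ((Nat.card G).factorization 2 + 1) ∣ Nat.card G := by
    rw [pow_succ, ← P.card_eq_multiplicity]
    exact (mul_dvd_mul h6 h8).trans (dvd_of_eq h7)
  exact Nat.pow_succ_factorization_not_dvd Nat.card_pos.ne' Nat.prime_two h9

open scoped Classical in
/-- The part of an induced function in the principal block has degree zero. -/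
theorem block_degree [Fintype (IrrCharacter G)] {M : Ideal AlgInt} (hM : IsPModular 2 M)
    (ϑ : G → ℂ) (hcl : IsClassFunction G ϑ) (hodd : ∀ g, Odd (orderOf g) → ϑ g = 0)
    (m : IrrCharacter G → ℤ) (hm : ϑ = ∑ χ : IrrCharacter G, m χ • (χ : G → ℂ))
    (d : IrrCharacter G → ℕ) (hd : ∀ χ : IrrCharacter G, (χ : G → ℂ) 1 = d χ) :
    ∑ χ ∈ Finset.univ.filter (fun χ : IrrCharacter G => χ ∈ principalBlock M G),
      m χ * (d χ : ℤ) = 0 := by
  have h1 := BGBlockB0.blockPart_odd hM hcl hodd (g := 1) (by simp)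
  rw [BGBlockB0.blockPart_sum] at h1
  have h2 : ∀ χ : IrrCharacter G, classInner ϑ (χ : G → ℂ) = m χ := by
    intro χ
    rw [hm]
    have := Core.classInner_sum_smul_irr (fun ψ : IrrCharacter G => ((m ψ : ℤ) : ℂ)) χ
    rw [← this]
    congr 1
    refine Finset.sum_congr rfl fun ψ _ => ?_
    rw [Int.cast_smul_eq_zsmul]
  have h3 : ((∑ χ ∈ Finset.univ.filter (fun χ : IrrCharacter G => χ ∈ principalBlock M G),
      m χ * (d χ : ℤ) : ℤ) : ℂ) = 0 := by
    rw [← h1]
    push_cast
    refine Finset.sum_congr rfl fun χ _ => ?_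
    rw [h2, hd]
  exact_mod_cast h3

end main

theorem arith_of_sums {N k : ℕ} {X Y : ℤ} (hX : X ≠ 0) (hX1 : X + 1 ≠ 0) (hY : Y ≠ 0)
    (hY1 : 1 - Y ≠ 0) (h3 : (N : ℚ) * (1 + 4 / X - 9 / (X + 1)) = 96 * k ^ 2)
    (h5 : (N : ℚ) * (-1 + 9 / Y + 16 / (1 - Y)) = -192 * k ^ 2) :
    (N : ℤ) * (X - 2) ^ 2 = 96 * k ^ 2 * X * (X + 1) ∧
      (N : ℤ) * (Y + 3) ^ 2 = 192 * k ^ 2 * Y * (Y - 1) := by
  have hX' : (X : ℚ) ≠ 0 := by exact_mod_cast hX
  have hX1' : (X : ℚ) + 1 ≠ 0 := by exact_mod_cast hX1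
  have hY' : (Y : ℚ) ≠ 0 := by exact_mod_cast hY
  have hY1' : 1 - (Y : ℚ) ≠ 0 := by exact_mod_cast hY1
  constructor
  · have : (N : ℚ) * (X - 2) ^ 2 = 96 * k ^ 2 * X * (X + 1) := by
      field_simp at h3
      linear_combination h3
    exact_mod_cast this
  · have : (N : ℚ) * (Y + 3) ^ 2 = 192 * k ^ 2 * Y * (Y - 1) := by
      field_simp at h5
      linear_combination h5
    exact_mod_cast this

open scoped Classical in
/-- An irreducible character of degree `10` or `12` in the principal 2-block. -/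
theorem main {G : Type*} [Group G] [Finite G] {t : G} (ht : orderOf t = 2)
    (hconj : ∀ x : G, orderOf x = 2 → IsConj t x)
    (π : Subgroup.centralizer ({t} : Set G) →* Matrix.GeneralLinearGroup (Fin 2) (ZMod 3))
    (hπ : Function.Surjective π) (hK : Odd (Nat.card π.ker))
    {M : Ideal AlgInt} (hM : IsPModular 2 M) :
    ∃ χ : IrrCharacter G, χ ∈ principalBlock M G ∧
      ((χ : G → ℂ) 1 = 10 ∨ (χ : G → ℂ) 1 = 12) := by
  have := Fintype.ofFinite G
  have hfin := Core.finite_irr (G := G)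
  have : Fintype (IrrCharacter G) := Fintype.ofFinite _
  have : Fintype (Subgroup.centralizer ({t} : Set G)) := Fintype.ofFinite _
  have : Finite Grp := inferInstance
  have : Fintype Grp := Fintype.ofFinite _
  have hgen : ∀ i, IsGeneralizedCharacter G (indFun _ (alC π i)) :=
    fun i => GL23Assembly.isGen_indFun _ _ (isGen_alC π i)
  choose m hm using fun i => Core.isGeneralizedCharacter_iff.mp (hgen i)
  have hm' : ∀ i, indFun _ (alC π i) = ∑ χ : IrrCharacter G, ((m i χ : ℤ) : ℂ) • (χ : G → ℂ) := by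
    intro i
    rw [hm i]
    refine Finset.sum_congr rfl fun ψ _ => ?_
    rw [Int.cast_smul_eq_zsmul]
  have hclass : ∀ i, IsClassFunction _ (alC π i) := fun i =>
    GL23Assembly.isGen_isClassFunction (isGen_alC π i)
  have hCard : Nat.card (Subgroup.centralizer ({t} : Set G)) = 48 * Nat.card π.ker :=
    card_C π hπ
  -- Gram matrix
  have hgram : ∀ i j, ∑ χ, m i χ * m j χ = gram i j := by
    intro i j
    have h1 := CentInvTI.classInner_ind t ht (alC π i) (alC π j) (hclass i) (hclass j)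
      (alC_support ht π hπ hK i) (alC_support ht π hπ hK j)
    rw [hm' i, hm' j, Core.classInner_sum_smul_sum_smul] at h1
    have h2 : classInner (alC π i) (alC π j) = gram i j := by
      rw [← classInner_alG i j]
      exact classInner_inflate π hπ (fun g : Grp => emb (alG i g))
        (fun g : Grp => emb (alG j g))
    rw [h2] at h1
    simp only [map_intCast] at h1
    exact_mod_cast h1
  -- trivial character
  have hi0 : ∀ i, m i ⟨1, Core.isIrr_one⟩ = (![0,0,1,0,-1] : Fin 5 → ℤ) i := by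
    intro i
    have h1 := Core.classInner_sum_smul_irr (fun ψ : IrrCharacter G => ((m i ψ : ℤ) : ℂ))
      ⟨1, Core.isIrr_one⟩
    rw [← hm' i, S0150.classInner_indFun _ _ _ (fun g h => rfl)] at h1
    have h2 := classInner_alG_one i
    rw [← classInner_inflate π hπ (fun g : Grp => emb (alG i g)) 1] at h2
    have h3 : ((m i ⟨1, Core.isIrr_one⟩ : ℤ) : ℂ) = ((![0,0,1,0,-1] : Fin 5 → ℤ) i : ℤ) := by
      rw [← h1, ← h2]
      rfl
    exact_mod_cast h3
  -- degrees
  choose d hdpos hd using fun χ : IrrCharacter G => Core.isIrr_apply_one χ.2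
  have hdeg : ∀ i, ∑ χ, m i χ * (d χ : ℤ) = 0 := by
    intro i
    have h1 := CentInvTI.ind_one t ht (alC π i) (alC_support ht π hπ hK i)
    rw [hm' i, Finset.sum_apply] at h1
    have h2 : ∑ χ : IrrCharacter G, ((m i χ : ℤ) : ℂ) * (d χ : ℂ) = 0 := by
      rw [← h1]
      refine Finset.sum_congr rfl fun χ _ => ?_
      rw [Pi.smul_apply, hd χ, smul_eq_mul]
    exact_mod_cast h2
  -- vanishing on elements of odd order
  have hodd : ∀ i (g : G), Odd (orderOf g) → indFun _ (alC π i) g = 0 := by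
    intro i g hg
    rw [S0150.indFun_apply]
    refine mul_eq_zero_of_right _ (Finset.sum_eq_zero fun x _ => ?_)
    by_cases hx : x⁻¹ * g * x ∈ Subgroup.centralizer ({t} : Set G)
    · have h1 := S0150.extendByZero_coe (Subgroup.centralizer ({t} : Set G)) (alC π i)
        ⟨x⁻¹ * g * x, hx⟩
      rw [h1]
      by_contra h2
      obtain ⟨k, hk⟩ := alC_support ht π hπ hK i _ h2
      have h3 : orderOf (x⁻¹ * g * x) = orderOf g := by
        have := orderOf_injective (MulAut.conj x⁻¹).toMonoidHom (MulAut.conj x⁻¹).injective g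
        simpa using this
      have h4 : orderOf t ∣ orderOf g := by
        rw [← h3, ← hk]
        exact orderOf_pow_dvd k
      rw [ht] at h4
      exact (Nat.not_even_iff_odd.2 hg) (even_iff_two_dvd.2 h4)
    · exact S0150.extendByZero_of_notMem _ _ hx
  have hblock : ∀ i, ∑ χ ∈ Finset.univ.filter (fun χ : IrrCharacter G => χ ∈ principalBlock M G),
      m i χ * (d χ : ℤ) = 0 := fun i =>
    block_degree hM _ (GL23Assembly.isGen_isClassFunction (hgen i)) (hodd i) (m i) (hm i) d hd
  have hprinc : (⟨1, Core.isIrr_one⟩ : IrrCharacter G) ∈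
      Finset.univ.filter (fun χ : IrrCharacter G => χ ∈ principalBlock M G) := by
    rw [Finset.mem_filter]
    refine ⟨Finset.mem_univ _, ?_⟩
    have : M.IsPrime := Blocks.Local.isPrime_of_isPModular hM
    exact Blocks.Basic.sameBlock_refl _
  obtain ⟨X, Y, hX, hX1, hY, hY1, hS3, hS5, ⟨χ₁, hχ₁, hχ₁d⟩, ⟨χ₂, hχ₂, hχ₂d⟩, hB3, hB5⟩ :=
    SDCombi.combi (fun χ : IrrCharacter G => (d χ : ℤ))
    (fun χ => by exact_mod_cast hdpos χ) ⟨1, Core.isIrr_one⟩
    (by
      have h1 := hd ⟨1, Core.isIrr_one⟩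
      have h2 : (1 : ℂ) = (d ⟨1, Core.isIrr_one⟩ : ℂ) := h1
      exact_mod_cast h2.symm)
    (m 0) (m 1) (m 2) (m 3) (m 4)
    (by simp only [pow_two]; exact hgram 0 0) (by simp only [pow_two]; exact hgram 1 1)
    (by simp only [pow_two]; exact hgram 2 2) (by simp only [pow_two]; exact hgram 3 3)
    (by simp only [pow_two]; exact hgram 4 4)
    (hgram 0 1) (hgram 0 2) (hgram 0 3) (hgram 0 4) (hgram 1 2) (hgram 1 3) (hgram 1 4)
    (hgram 2 3) (hgram 2 4) (hgram 3 4) (hi0 0) (hi0 1) (hi0 2) (hi0 3) (hi0 4)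
    (hdeg 0) (hdeg 1) (hdeg 2) (hdeg 3) (hdeg 4)
    (fun χ => ∑ i, wt i * m i χ)
    (by
      intro χ
      rw [Fin.sum_univ_five]
      change (2 : ℤ) * m 0 χ + (2 : ℤ) * m 1 χ + (-3 : ℤ) * m 2 χ + (1 : ℤ) * m 3 χ +
        (-4 : ℤ) * m 4 χ = _
      ring)
  have hmem2 : ∀ χ, m 2 χ ≠ 0 → χ ∈ principalBlock M G := fun χ h =>
    (Finset.mem_filter.1 (hB3 _ hprinc (hblock 2) χ h)).2
  have hmem4 : ∀ χ, m 4 χ ≠ 0 → χ ∈ principalBlock M G := fun χ h =>
    (Finset.mem_filter.1 (hB5 _ hprinc (hblock 4) χ h)).2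
  -- the values at `t`
  have hval : ∀ χ : IrrCharacter G, χ ∈ principalBlock M G →
      (χ : G → ℂ) t = ((∑ i, wt i * m i χ : ℤ) : ℂ) :=
    fun χ hχ => value_t ht π hπ hK m hm χ (fun x hx => value_of_mem ht π hM hπ hK χ hχ x hx)
  set N := (Subgroup.centralizer ({t} : Set G)).index with hN
  have hGN : Nat.card G = 48 * Nat.card π.ker * N := by
    rw [← hCard, hN, Subgroup.card_mul_index]
  have hKer0 : (Nat.card π.ker : ℚ) ≠ 0 := by exact_mod_cast Nat.card_pos.ne'
  set κ := kap π refl0 with hκ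
  have hsum : ∀ i : Fin 5, (∀ χ, m i χ ≠ 0 → χ ∈ principalBlock M G) → ∀ c : ℤ,
      (∑ x : Grp, ∑ y : Grp, (if orderOf x = 2 ∧ orderOf y = 2 then emb (alG i (x * y)) else 0)
        = (c : ℂ)) →
      (N : ℚ) * (∑ χ : IrrCharacter G, (m i χ : ℚ) *
        (((∑ j, wt j * m j χ : ℤ) : ℚ) ^ 2 / ((d χ : ℤ) : ℚ))) = κ ^ 2 * c := by
    intro i hi c hc
    have h1 := SDClass.class_algebra ht π hconj hπ hK (fun w => emb (alG i w))
      (fun w hw => emb_alG_support i w hw) (m i) (hm i)
    rw [hc, hCard, hGN] at h1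
    have h2 : ((∑ χ : IrrCharacter G, (m i χ : ℚ) *
        (((∑ j, wt j * m j χ : ℤ) : ℚ) ^ 2 / ((d χ : ℤ) : ℚ)) : ℚ) : ℂ) =
        ∑ χ : IrrCharacter G, (m i χ : ℂ) * ((χ : G → ℂ) t ^ 2 / (χ : G → ℂ) 1) := by
      rw [Rat.cast_sum]
      refine Finset.sum_congr rfl fun χ _ => ?_
      by_cases h0 : m i χ = 0
      · rw [h0]
        push_cast
        ring
      · rw [hval χ (hi χ h0), hd χ]
        push_cast
        rfl
    rw [← h2] at h1
    have h3 : ((48 * Nat.card π.ker * N : ℕ) : ℚ) * (∑ χ : IrrCharacter G, (m i χ : ℚ) *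
        (((∑ j, wt j * m j χ : ℤ) : ℚ) ^ 2 / ((d χ : ℤ) : ℚ))) =
        ((48 * Nat.card π.ker : ℕ) : ℚ) * ((κ : ℚ) ^ 2 * (c : ℚ)) := by
      exact_mod_cast h1
    push_cast at h3 ⊢
    have h4 : (48 * (Nat.card π.ker : ℚ)) ≠ 0 := mul_ne_zero (by norm_num) hKer0
    refine mul_left_cancel₀ h4 ?_
    rw [← h3]
    ring
  have h3 := hsum 2 hmem2 96 (by rw [inv_sum_alG_two]; norm_num)
  have h5 := hsum 4 hmem4 (-192) (by rw [inv_sum_alG_four]; norm_num)
  rw [hS3] at h3
  rw [hS5] at h5
  obtain ⟨e3, e5⟩ := arith_of_sums (N := N) (k := κ) hX hX1 hY hY1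
    (by push_cast at h3 ⊢; rw [h3]; ring) (by push_cast at h5 ⊢; rw [h5]; ring)
  have hNodd : Odd (N : ℤ) := by exact_mod_cast odd_index ht hconj
  have hκodd : Odd (κ : ℤ) := by
    have h6 : orderOf refl0 = 2 := by
      rw [← isInv_iff]
      show isInv 1 0 0 (-1)
      decide
    exact_mod_cast odd_kap π hπ hK refl0 h6
  rcases SDNum.main N κ X Y hNodd hκodd hX hX1 hY hY1 e3 e5 with ⟨h, -⟩ | ⟨-, h⟩
  · refine ⟨χ₁, hmem2 χ₁ hχ₁, Or.inl ?_⟩
    rw [hd χ₁]
    rw [h] at hχ₁d
    norm_num at hχ₁d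
    exact_mod_cast hχ₁d
  · refine ⟨χ₂, hmem4 χ₂ hχ₂, Or.inr ?_⟩
    rw [hd χ₂]
    rw [h] at hχ₂d
    norm_num at hχ₂d
    exact_mod_cast hχ₂d

end Cfsg.Agent.Classification.RTwo.SDChar
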