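import Mathlib

/-!
# Extension of homomorphisms to cyclic extensions

`G = N⟨d⟩`, `N` normal, `f : N →* K`, `k : K` acting on `f(N)` as `d` acts on `N` and `f (d ^ m) = k ^ m`
whenever `d ^ m ∈ N`: then `f` extends to `G →* K` with `d ↦ k`.
-/

set_option autoImplicit false

namespace Cfsg.Agent.Classification.RTwo.ExtHom

open Subgroup

variable {G K : Type*} [Group G] [Group K]

section

variable (N : Subgroup G) [hN : N.Normal] (d : G) (f : N →* K) (k : K)

/-- conjugation by powers of `d` -/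
theorem conj_zpow (hk : ∀ n : N, f (MulAut.conjNormal d n) = k * f n * k⁻¹) (m : ℤ) (n : N) :
    f (MulAut.conjNormal (d ^ m) n) = k ^ m * f n * (k ^ m)⁻¹ := by
  have hpos : ∀ (m : ℕ) (n : N), f (MulAut.conjNormal (d ^ m) n) = k ^ m * f n * (k ^ m)⁻¹ := by
    intro m
    induction m with
    | zero => intro n; simp
    | succ m ih =>
      intro n
      rw [pow_succ', map_mul, MulAut.mul_apply, hk, ih, pow_succ']
      group
  rcases Int.eq_nat_or_neg m with ⟨j, rfl | rfl⟩
  · rw [zpow_natCast, zpow_natCast]; exact hpos j n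
  · rw [zpow_neg, zpow_neg, zpow_natCast, zpow_natCast, inv_inv]
    have h1 := hpos j (MulAut.conjNormal (d ^ j)⁻¹ n)
    rw [← MulAut.mul_apply, ← map_mul, mul_inv_cancel, map_one, MulAut.one_apply] at h1
    rw [h1]; group

omit hN in
/-- the value does not depend on the representation -/
theorem well_defined (hpow : ∀ (m : ℤ) (h : d ^ m ∈ N), f ⟨d ^ m, h⟩ = k ^ m)
    (n n' : N) (m m' : ℤ) (h : (n : G) * d ^ m = n' * d ^ m') : f n * k ^ m = f n' * k ^ m' := by
  have h1 : d ^ (m' - m) = (n' : G)⁻¹ * n := by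
    rw [zpow_sub, eq_inv_mul_iff_mul_eq, ← mul_assoc, ← h, mul_inv_cancel_right]
  have h2 : d ^ (m' - m) ∈ N := by rw [h1]; exact mul_mem (inv_mem n'.2) n.2
  have h3 := hpow (m' - m) h2
  have h4 : (⟨d ^ (m' - m), h2⟩ : N) = n'⁻¹ * n := Subtype.ext h1
  rw [h4, map_mul, map_inv, zpow_sub] at h3
  rw [inv_mul_eq_iff_eq_mul] at h3
  rw [h3]; group

/-- **Extension lemma.** -/
theorem exists_ext (hd : ∀ g : G, ∃ n : N, ∃ m : ℤ, g = n * d ^ m)
    (hk : ∀ n : N, f (MulAut.conjNormal d n) = k * f n * k⁻¹)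
    (hpow : ∀ (m : ℤ) (h : d ^ m ∈ N), f ⟨d ^ m, h⟩ = k ^ m) :
    ∃ F : G →* K, (∀ n : N, F n = f n) ∧ F d = k := by
  choose a b hab using hd
  have hval : ∀ (n : N) (m : ℤ), f (a (n * d ^ m)) * k ^ (b (n * d ^ m)) = f n * k ^ m :=
    fun n m => well_defined N d f k hpow _ _ _ _ (hab _).symm
  refine ⟨{ toFun := fun g => f (a g) * k ^ (b g), map_one' := ?_, map_mul' := ?_ }, ?_, ?_⟩
  · have h := hval 1 0
    simpa using h
  · intro x y
    have hx := hab x
    have hy := hab y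
    have h1 : x * y = ((a x * MulAut.conjNormal (d ^ (b x)) (a y) : N) : G) * d ^ (b x + b y) := by
      conv_lhs => rw [hx, hy]
      rw [Subgroup.coe_mul, MulAut.conjNormal_apply, zpow_add]
      group
    conv_lhs => rw [h1]
    rw [hval, map_mul, conj_zpow N d f k hk, zpow_add]
    group
  · intro n
    have h := hval n 0
    simpa using h
  · have h := hval 1 1
    simpa using h

end

/-- **Extension lemma for an index two subgroup.** -/
theorem exists_ext_two (N : Subgroup G) [hN : N.Normal] (d : G) (f : N →* K) (k : K) (hdN : d ∉ N)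
    (hd : ∀ g : G, g ∈ N ∨ g * d⁻¹ ∈ N) (hk : ∀ n : N, f (MulAut.conjNormal d n) = k * f n * k⁻¹)
    (hd2 : d ^ 2 ∈ N) (hpow : f ⟨d ^ 2, hd2⟩ = k ^ 2) :
    ∃ F : G →* K, (∀ n : N, F n = f n) ∧ F d = k := by
  refine exists_ext N d f k ?_ hk ?_
  · intro g
    rcases hd g with h | h
    · exact ⟨⟨g, h⟩, 0, by simp⟩
    · exact ⟨⟨_, h⟩, 1, by simp⟩
  · intro m hm
    obtain ⟨j, rfl | rfl⟩ := Int.even_or_odd' m
    · have h1 : (⟨d ^ (2 * j), hm⟩ : N) = (⟨d ^ 2, hd2⟩ : N) ^ j := by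
        apply Subtype.ext
        rw [Subgroup.coe_zpow]
        change d ^ (2 * j) = (d ^ 2) ^ j
        rw [zpow_mul, zpow_ofNat]
      rw [h1, map_zpow, hpow, zpow_mul, zpow_ofNat]
    · exfalso
      apply hdN
      have h1 : d = ((d ^ 2) ^ j)⁻¹ * d ^ (2 * j + 1) := by
        rw [zpow_add, zpow_mul, zpow_one, zpow_ofNat]
        group
      rw [h1]
      exact mul_mem (inv_mem (zpow_mem hd2 j)) hm

end Cfsg.Agent.Classification.RTwo.ExtHom
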