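import Mathlib
import Cfsg.Agent.Classification.RTwo.Main
import Cfsg.Agent.Classification.RTwo.EndSD
import Cfsg.Agent.Classification.RTwo.Ends7920

/-!
# Simple groups with quasi-dihedral Sylow 2-subgroups and solvable centralizers of involutions

They are `PSL(3,3)` or simple of order `7920`; a minimal simple group of this type is `PSL(3,3)`.
-/

set_option autoImplicit false

open Cfsg

namespace Cfsg.Agent.Classification.RTwo.FinalSD

open Subgroup

theorem two_dvd {G : Type*} [Group G] [Finite G] (S : Sylow 2 G)
    (hS : Cfsg.IsQuasiDihedral (S : Subgroup G) ∨ Cfsg.IsWreathed (S : Subgroup G)) :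
    ∃ t : G, orderOf t = 2 := by
  have : Fact (Nat.Prime 2) := ⟨Nat.prime_two⟩
  have h1 : 2 ∣ Nat.card G := (by norm_num : 2 ∣ 16).trans
    ((Structure.card_sylow hS).trans (Subgroup.card_subgroup_dvd_card (S : Subgroup G)))
  exact exists_prime_orderOf_dvd_card' 2 h1

/-- Quasi-dihedral Sylow 2-subgroups, solvable centralizers of involutions. -/
theorem main {G : Type*} [Group G] [Finite G] [IsSimpleGroup G] (S : Sylow 2 G)
    (hS : Cfsg.IsQuasiDihedral (S : Subgroup G))
    (hsol : ∀ x : G, orderOf x = 2 → Group.IsSolvable (Subgroup.centralizer ({x} : Set G))) :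
    Nonempty (G ≃* Matrix.ProjectiveSpecialLinearGroup (Fin 3) (ZMod 3)) ∨ Cfsg.IsM11 G := by
  obtain ⟨t, ht⟩ := two_dvd S (Or.inl hS)
  have hG := Structure.index_ne_two S (Or.inl hS)
  have hone := Structure.isConj_of_index S (Or.inl hS) hG
  obtain ⟨e⟩ := Main.sd S hS hsol t ht
  exact EndSD.psl_three_or_m11 t ht (fun s hs => hone t s ht hs) e

/-- The centralizers of involutions of a minimal simple group are solvable. -/
theorem isSolvable_centralizer {G : Type*} [Group G] (hG : Cfsg.IsMinimalSimple G) (x : G)
    (hx : x ≠ 1) : Group.IsSolvable (Subgroup.centralizer ({x} : Set G)) := by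
  obtain ⟨hs, hnc, hsol⟩ := hG
  apply hsol
  intro h
  apply hnc
  have hxc : x ∈ Subgroup.center G := by
    rw [Subgroup.mem_center_iff]
    intro g
    have hg : g ∈ Subgroup.centralizer ({x} : Set G) := by rw [h]; exact mem_top g
    exact Subgroup.mem_centralizer_singleton_iff.mp hg
  rcases (inferInstance : (Subgroup.center G).Normal).eq_bot_or_eq_top with h1 | h1
  · rw [h1, Subgroup.mem_bot] at hxc
    exact absurd hxc hx
  · constructor
    constructor
    intro a b
    have ha : b ∈ Subgroup.center G := by rw [h1]; exact mem_top b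
    exact Subgroup.mem_center_iff.1 ha a

/-- A minimal simple group with quasi-dihedral Sylow 2-subgroups is `PSL(3,3)`. -/
theorem minimal_simple {G : Type*} [Group G] [Finite G] (hG : Cfsg.IsMinimalSimple G) (S : Sylow 2 G)
    (hS : Cfsg.IsQuasiDihedral (S : Subgroup G)) :
    ∃ (F : Type) (_ : Field F) (_ : Fintype F), Fintype.card F = 3 ∧
      Nonempty (G ≃* Matrix.ProjectiveSpecialLinearGroup (Fin 3) F) := by
  have hsimple : IsSimpleGroup G := hG.1
  have p3 : Fact (Nat.Prime 3) := ⟨Nat.prime_three⟩
  rcases main S hS (fun x hx => isSolvable_centralizer hG x (by rintro rfl; simp at hx)) with h | h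
  · exact ⟨ZMod 3, inferInstance, inferInstance, ZMod.card 3, h⟩
  · exact absurd hG (Ends7920.not_isMinimalSimple h)

end Cfsg.Agent.Classification.RTwo.FinalSD
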