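import Mathlib

/-!
# Wreathed case, small group: the arithmetic

Degrees `f, u, v` and values `a, b` of the signed characters in the wreathed case with
`C(t)/O(C(t)) ≅ GU(2,3)`.
-/

set_option autoImplicit false

namespace Cfsg.Agent.Classification.RTwo.WrArith

/-- If `d ∣ 72` and `41 ≤ d` or `d ≤ -23` then `|9 - e| < 32` for `d * e = 72`. -/
theorem abs_lt_of_mul_eq {m c d e : ℤ} (hm : 0 < m) (hm' : m ≤ 144) (hde : d * e = m)
    (hc : 0 ≤ c) (hc' : c ≤ 16) (hd : 41 ≤ d ∨ d ≤ -23) : |c - e| < 32 := by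
  have h1 : |e| ≤ 6 := by
    by_contra hlt
    have h2 : 7 ≤ |e| := by omega
    have h3 : 23 ≤ |d| := by
      rcases hd with h | h
      · rw [abs_of_pos (by omega)]; omega
      · rw [abs_of_neg (by omega)]; omega
    have h4 : |d| * |e| = m := by rw [← abs_mul, hde, abs_of_pos hm]
    nlinarith
  rw [abs_le] at h1
  rw [abs_lt]
  omega

theorem case_one_three (f u v : ℤ) (hu1 : u ≠ 1) (h1 : u + v = 1 + f)
    (h4 : (f + 9) * u * v = f * v + 9 * f * u) : (|f| < 32 ∧ f ≠ 1) ∨ |v| < 32 := by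
  have hv : v = 1 + f - u := by linarith
  have h5 : (u - 1) * ((f + 9) * u - f * (f + 1)) = 0 := by
    rw [hv] at h4
    nlinarith
  have h6 : (f + 9) * u = f * (f + 1) := by
    rcases mul_eq_zero.mp h5 with h | h
    · exact absurd (by linarith) hu1
    · linarith
  have h7 : (f + 9) * (9 - v) = 72 := by
    rw [hv]; nlinarith
  by_cases hf : |f| < 32
  · by_cases hf1 : f = 1
    · rw [hf1] at h7
      omega
    · exact Or.inl ⟨hf, hf1⟩
  · right
    have h8 : 41 ≤ f + 9 ∨ f + 9 ≤ -23 := by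
      rcases le_abs.mp (not_lt.mp hf) with h | h <;> omega
    have h9 := abs_lt_of_mul_eq (c := 9) (by norm_num) (by norm_num) h7 (by norm_num)
      (by norm_num) h8
    simpa using h9

theorem case_zero_four (f u v : ℤ) (hu : u ≠ 0)
    (h4 : (f + 9) * u * v = 16 * f * u) : (|f| < 32 ∧ f ≠ 1) ∨ |v| < 32 := by
  have h6 : (f + 9) * v = 16 * f := by
    apply mul_left_cancel₀ hu
    linarith
  have h7 : (f + 9) * (16 - v) = 144 := by
    nlinarith
  by_cases hf : |f| < 32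
  · by_cases hf1 : f = 1
    · rw [hf1] at h7
      omega
    · exact Or.inl ⟨hf, hf1⟩
  · right
    have h8 : 41 ≤ f + 9 ∨ f + 9 ≤ -23 := by
      rcases le_abs.mp (not_lt.mp hf) with h | h <;> omega
    have h9 := abs_lt_of_mul_eq (c := 16) (by norm_num) (by norm_num) h7 (by norm_num)
      (by norm_num) h8
    simpa using h9

theorem two_two_aux (f u v : ℤ) (h1 : u + v = 1 + f)
    (h4 : (f + 9) * u * v = 4 * f * v + 4 * f * u) :
    f = 3 ∨ f = -10 ∨ f = 0 ∨ f = -1 ∨ f = -9 := by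
  have h5 : (f + 9) * (u * v) = 4 * f * (1 + f) := by
    rw [← h1]; linarith
  have h6 : (f + 9) ^ 2 * (u - v) ^ 2 = ((1 + f) * (f + 9)) * (f - 3) ^ 2 := by
    have : (u - v) ^ 2 = (1 + f) ^ 2 - 4 * (u * v) := by rw [← h1]; ring
    rw [this]
    have h7 : (f + 9) ^ 2 * ((1 + f) ^ 2 - 4 * (u * v)) =
        (f + 9) ^ 2 * (1 + f) ^ 2 - 4 * (f + 9) * ((f + 9) * (u * v)) := by ring
    rw [h7, h5]; ring
  by_cases hf3 : f = 3
  · exact Or.inl hf3
  right
  -- `(1 + f) (f + 9)` is a square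
  have h8 : ((f - 3) * 1) ^ 2 ∣ ((f + 9) * (u - v)) ^ 2 :=
    ⟨(1 + f) * (f + 9), by rw [mul_pow, h6]; ring⟩
  have h9 : (f - 3) * 1 ∣ (f + 9) * (u - v) := (Int.pow_dvd_pow_iff two_ne_zero).mp h8
  obtain ⟨w, hw⟩ := h9
  have h10 : w ^ 2 = (1 + f) * (f + 9) := by
    have h11 : (f - 3) ^ 2 * w ^ 2 = (f - 3) ^ 2 * ((1 + f) * (f + 9)) := by
      have : ((f + 9) * (u - v)) ^ 2 = ((f - 3) * 1 * w) ^ 2 := by rw [hw]
      rw [mul_pow, h6] at this
      linarith
    exact mul_left_cancel₀ (pow_ne_zero 2 (sub_ne_zero.mpr hf3)) h11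
  have h12 : (f + 5 - w) * (f + 5 + w) = 16 := by
    have : (f + 5 - w) * (f + 5 + w) = (f + 5) ^ 2 - w ^ 2 := by ring
    rw [this, h10]; ring
  have h13 : (f + 5 - w) ∣ 16 := ⟨_, h12.symm⟩
  have h14 : (f + 5 + w) ∣ 16 := ⟨f + 5 - w, by rw [mul_comm]; exact h12.symm⟩
  have h15 := Int.le_of_dvd (by norm_num) h13
  have h16 := Int.le_of_dvd (by norm_num) h14
  have h17 : -16 ≤ f + 5 - w := by
    have := Int.le_of_dvd (by norm_num) ((neg_dvd).mpr h13)
    omega
  have h18 : -16 ≤ f + 5 + w := by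
    have := Int.le_of_dvd (by norm_num) ((neg_dvd).mpr h14)
    omega
  have h21 : f + 5 - w ≤ 16 := h15
  generalize hx : f + 5 - w = x at h12 h13 h15 h17
  generalize hy : f + 5 + w = y at h12 h14 h16 h18
  have h22 : x + y = 2 * (f + 5) := by linarith
  interval_cases x <;> omega

theorem case_two_two (f u v : ℤ) (hf : f ≠ 0) (hu : u ≠ 0) (hv : v ≠ 0) (h1 : u + v = 1 + f)
    (h4 : (f + 9) * u * v = 4 * f * v + 4 * f * u) : f = 3 ∨ f = -10 := by
  rcases two_two_aux f u v h1 h4 with h | h | h | h | h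
  · exact Or.inl h
  · exact Or.inr h
  · exact absurd h hf
  · exfalso
    subst h
    have h5 : v = -u := by linarith
    subst h5
    have : u * u = 0 := by linarith
    rcases mul_eq_zero.mp this with h | h <;> exact hu h
  · exfalso
    subst h
    have h5 : v = -8 - u := by linarith
    subst h5
    linarith

/-- The numerical end of the wreathed case. -/
theorem wr_arith (f u v a b : ℤ) (hf : f ≠ 0) (hu : u ≠ 0) (hv : v ≠ 0) (hu1 : u ≠ 1)
    (hv1 : v ≠ 1) (h1 : u + v = 1 + f) (h2 : a + b = 4) (h3 : a ^ 2 + b ^ 2 ≤ 18)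
    (h4 : (f + 9) * u * v = a ^ 2 * f * v + b ^ 2 * f * u) :
    (|f| < 32 ∧ f ≠ 1) ∨ |u| < 32 ∨ |v| < 32 := by
  have ha : a ≤ 4 := by nlinarith
  have ha' : 0 ≤ a := by nlinarith
  have hb : b = 4 - a := by linarith
  subst hb
  interval_cases a
  · rcases case_zero_four f u v hu (by linarith) with h | h
    · exact Or.inl h
    · exact Or.inr (Or.inr h)
  · rcases case_one_three f u v hu1 h1 (by linarith) with h | h
    · exact Or.inl h
    · exact Or.inr (Or.inr h)
  · rcases case_two_two f u v hf hu hv h1 (by linarith) with h | h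
    · subst h; exact Or.inl ⟨by norm_num, by norm_num⟩
    · subst h; exact Or.inl ⟨by norm_num, by norm_num⟩
  · rcases case_one_three f v u hv1 (by linarith) (by linarith) with h | h
    · exact Or.inl h
    · exact Or.inr (Or.inl h)
  · rcases case_zero_four f v u hv (by linarith) with h | h
    · exact Or.inl h
    · exact Or.inr (Or.inl h)

/-- The factorisation in the case `(a, b) = (1, 3)`. -/
theorem factor_one_three (f u v : ℤ) (hu1 : u ≠ 1) (h1 : u + v = 1 + f)
    (h4 : (f + 9) * u * v = f * v + 9 * f * u) : (f + 9) * (9 - v) = 72 := by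
  have hv : v = 1 + f - u := by linarith
  have h5 : (u - 1) * ((f + 9) * u - f * (f + 1)) = 0 := by
    rw [hv] at h4
    nlinarith
  have h6 : (f + 9) * u = f * (f + 1) := by
    rcases mul_eq_zero.mp h5 with h | h
    · exact absurd (by linarith) hu1
    · linarith
  rw [hv]; nlinarith

/-- The complete list of possibilities. -/
theorem wr_list (f u v a b : ℤ) (hf : f ≠ 0) (hu : u ≠ 0) (hv : v ≠ 0) (hu1 : u ≠ 1)
    (hv1 : v ≠ 1) (h1 : u + v = 1 + f) (h2 : a + b = 4) (h3 : a ^ 2 + b ^ 2 ≤ 18)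
    (h4 : (f + 9) * u * v = a ^ 2 * f * v + b ^ 2 * f * u) :
    (a = 2 ∧ (f = 3 ∨ f = -10)) ∨ (a = 1 ∧ (f + 9) * (9 - v) = 72) ∨
      (a = 3 ∧ (f + 9) * (9 - u) = 72) ∨ (a = 0 ∧ (f + 9) * (16 - v) = 144) ∨
      (a = 4 ∧ (f + 9) * (16 - u) = 144) := by
  have ha : a ≤ 4 := by nlinarith
  have ha' : 0 ≤ a := by nlinarith
  have hb : b = 4 - a := by linarith
  subst hb
  interval_cases a
  · right; right; right; left
    refine ⟨rfl, ?_⟩
    have h6 : (f + 9) * v = 16 * f := by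
      apply mul_left_cancel₀ hu
      linarith
    nlinarith
  · right; left
    exact ⟨rfl, factor_one_three f u v hu1 h1 (by linarith)⟩
  · left
    exact ⟨rfl, case_two_two f u v hf hu hv h1 (by linarith)⟩
  · right; right; left
    exact ⟨rfl, factor_one_three f v u hv1 (by linarith) (by linarith)⟩
  · right; right; right; right
    refine ⟨rfl, ?_⟩
    have h6 : (f + 9) * u = 16 * f := by
      apply mul_left_cancel₀ hv
      linarith
    nlinarith

/-- The values of `f` and of the odd index `n` for a divisor `f + 9` of `144`. -/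
theorem index_of_dvd (f n : ℤ) (hf : f ≠ 0) (hd : f + 9 ∣ 144) (hodd : n % 2 = 1)
    (hn : n * (f - 3) ^ 2 = 48 * (f * (f + 1))) :
    (f = 27 ∧ n = 63) ∨ (f = -5 ∧ n = 15) ∨ (f = -21 ∧ n = 35) := by
  have h1 := Int.le_of_dvd (by norm_num) hd
  have h2 : -144 ≤ f + 9 := by
    have := Int.le_of_dvd (by norm_num) ((neg_dvd).mpr hd)
    omega
  generalize hg : f + 9 = g at hd h1 h2
  have hfg : f = g - 9 := by linarith
  subst hfg
  interval_cases g <;> first | (exfalso; revert hd; decide) | omega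

/-- The index of `C(t)` in the wreathed case (trivial core). -/
theorem wr_index (f u v a b n : ℤ) (hf : f ≠ 0) (hu : u ≠ 0) (hv : v ≠ 0) (hu1 : u ≠ 1)
    (hv1 : v ≠ 1) (h1 : u + v = 1 + f) (h2 : a + b = 4) (h3 : a ^ 2 + b ^ 2 ≤ 18)
    (h4 : (f + 9) * u * v = a ^ 2 * f * v + b ^ 2 * f * u) (hodd : n % 2 = 1)
    (hn : n * (f - 3) ^ 2 = 48 * (f * (f + 1))) :
    (f = 27 ∧ n = 63) ∨ (f = -5 ∧ n = 15) ∨ (f = -21 ∧ n = 35) := by
  rcases wr_list f u v a b hf hu hv hu1 hv1 h1 h2 h3 h4 with h | h | h | h | h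
  · obtain ⟨-, h | h⟩ := h
    · subst h; omega
    · subst h; omega
  · exact index_of_dvd f n hf ⟨2 * (9 - v), by linarith [h.2]⟩ hodd hn
  · exact index_of_dvd f n hf ⟨2 * (9 - u), by linarith [h.2]⟩ hodd hn
  · exact index_of_dvd f n hf ⟨16 - v, by linarith [h.2]⟩ hodd hn
  · exact index_of_dvd f n hf ⟨16 - u, by linarith [h.2]⟩ hodd hn

/-- Same with `n ≡ 31 (mod 32)`: only `f = 27`, `n = 63`. -/
theorem wr_index_sixty_three (f u v a b n : ℤ) (hf : f ≠ 0) (hu : u ≠ 0) (hv : v ≠ 0)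
    (hu1 : u ≠ 1) (hv1 : v ≠ 1) (h1 : u + v = 1 + f) (h2 : a + b = 4)
    (h3 : a ^ 2 + b ^ 2 ≤ 18)
    (h4 : (f + 9) * u * v = a ^ 2 * f * v + b ^ 2 * f * u) (hmod : n % 32 = 31)
    (hn : n * (f - 3) ^ 2 = 48 * (f * (f + 1))) : f = 27 ∧ n = 63 := by
  rcases wr_index f u v a b n hf hu hv hu1 hv1 h1 h2 h3 h4 (by omega) hn with h | h | h
  · exact h
  · omega
  · omega

end Cfsg.Agent.Classification.RTwo.WrArith
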