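import Mathlib
import Cfsg.Prelude.Def_Characters

/-!
# The lattice of the wreathed case: data

`Q` is the group of order `96` (`GU(2,3)`), `z` its central involution. The nine generalized
characters `f i` generate the lattice of the generalized characters vanishing off
`{q : z ∈ ⟨q⟩}`. In the order `B, C, v₁, v₂, v₃, A, D, F₁, F₂` they are
`1 + St - e₀`, `1 + St - e₁`, `(1 - d) (1 + St)` for `d = d₁, d₂, d₃`, `1 + b₁ - c₃`,
`d₁ + b₀ - c₁`, `b₀ + b₁ - b₂ - b₄`, `b₀ + b₁ - b₃ - b₅`.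
-/

set_option autoImplicit false

namespace Cfsg.Agent.Classification.RTwo.WrTable

open Cfsg

/-- The Gram matrix. -/
def wrGram : Fin 9 → Fin 9 → ℤ :=
  ![![3, 2, 2, 2, 2, 1, 0, 0, 0],
    ![2, 3, 2, 2, 2, 1, 0, 0, 0],
    ![2, 2, 4, 2, 2, 1, -1, 0, 0],
    ![2, 2, 2, 4, 2, 2, 0, 0, 0],
    ![2, 2, 2, 2, 4, 1, 1, 0, 0],
    ![1, 1, 1, 2, 1, 3, 0, 1, 1],
    ![0, 0, -1, 0, 1, 0, 3, 1, 1],
    ![0, 0, 0, 0, 0, 1, 1, 4, 2],
    ![0, 0, 0, 0, 0, 1, 1, 2, 4]]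

/-- The multiplicities of the trivial character. -/
def wrOne : Fin 9 → ℤ := ![1, 1, 1, 1, 1, 1, 0, 0, 0]

/-- The coefficients of `96 * 1_z`. -/
def wrTau : Fin 9 → ℤ := ![4, 4, -3, -1, -1, -2, -2, 2, 2]

/-- The nine generalized characters of the wreathed case. -/
structure Data {Q : Type} [Group Q] [Fintype Q] (z : Q) (f : Fin 9 → Q → ℂ) : Prop where
  isGen : ∀ i, IsGeneralizedCharacter Q (f i)
  supp : ∀ i q, f i q ≠ 0 → z ∈ Subgroup.zpowers q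
  gram : ∀ i j, classInner (f i) (f j) = (wrGram i j : ℂ)
  one : ∀ i, classInner (f i) 1 = (wrOne i : ℂ)
  tau_z : ∑ i, (wrTau i : ℂ) * f i z = 96
  tau_ne : ∀ q, q ≠ z → ∑ i, (wrTau i : ℂ) * f i q = 0
  pair : ∀ i, i = 2 ∨ i = 3 ∨ i = 4 → ∀ p q : Q, p * p = 1 → q * q = 1 → f i (p * q) = 0

end Cfsg.Agent.Classification.RTwo.WrTable
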