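import Mathlib
import Cfsg.Agent.Classification.RTwo.WrTable

/-!
# The lattice of the wreathed case: combinatorics

`x : Fin 9 → ι → ℤ` has Gram matrix `wrGram`, prescribed coordinates at `o`, and all the `x a`
are orthogonal to the vector `deg` of degrees. We describe the vectors `v₁, v₂, v₃`.
-/

set_option autoImplicit false

namespace Cfsg.Agent.Classification.RTwo.WrLattice

open Cfsg.Agent.Classification.RTwo.WrTable Matrix

variable {ι : Type*} [Fintype ι]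

section Units

theorem dot_self_nonneg (x : ι → ℤ) : 0 ≤ x ⬝ᵥ x :=
  Finset.sum_nonneg fun i _ => mul_self_nonneg (x i)

theorem eq_zero_of_dot_self {x : ι → ℤ} (h : x ⬝ᵥ x = 0) : x = 0 := by
  funext i
  have h1 := (Finset.sum_eq_zero_iff_of_nonneg (fun i _ => mul_self_nonneg (x i))).1 h i
    (Finset.mem_univ i)
  exact mul_self_eq_zero.1 h1

theorem eq_of_dot_one {s t : ι → ℤ} (hs : s ⬝ᵥ s = 1) (ht : t ⬝ᵥ t = 1) (h : s ⬝ᵥ t = 1) :
    s = t := by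
  have h1 : (s - t) ⬝ᵥ (s - t) = 0 := by
    rw [sub_dotProduct, dotProduct_sub, dotProduct_sub, dotProduct_comm t s, hs, ht, h]
    norm_num
  exact sub_eq_zero.1 (eq_zero_of_dot_self h1)

theorem eq_neg_of_dot_neg_one {s t : ι → ℤ} (hs : s ⬝ᵥ s = 1) (ht : t ⬝ᵥ t = 1)
    (h : s ⬝ᵥ t = -1) : s = -t := by
  have h1 : (s + t) ⬝ᵥ (s + t) = 0 := by
    rw [add_dotProduct, dotProduct_add, dotProduct_add, dotProduct_comm t s, hs, ht, h]
    norm_num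
  exact eq_neg_of_add_eq_zero_left (eq_zero_of_dot_self h1)

/-- Bessel's inequality. -/
theorem bessel {κ : Type*} [Fintype κ] [DecidableEq κ] (s : κ → ι → ℤ)
    (h1 : ∀ k, s k ⬝ᵥ s k = 1) (h2 : ∀ k l, k ≠ l → s k ⬝ᵥ s l = 0) (x : ι → ℤ) :
    ∑ k, (x ⬝ᵥ s k) ^ 2 ≤ x ⬝ᵥ x := by
  set p : ι → ℤ := ∑ k, (x ⬝ᵥ s k) • s k with hp
  have h3 : x ⬝ᵥ p = ∑ k, (x ⬝ᵥ s k) ^ 2 := by
    rw [hp, dotProduct_sum]
    refine Finset.sum_congr rfl fun k _ => ?_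
    rw [dotProduct_smul, smul_eq_mul, sq]
  have h4 : p ⬝ᵥ p = ∑ k, (x ⬝ᵥ s k) ^ 2 := by
    conv_lhs => rw [hp, sum_dotProduct]
    refine Finset.sum_congr rfl fun k _ => ?_
    rw [smul_dotProduct, dotProduct_sum, Finset.sum_eq_single k]
    · rw [dotProduct_smul, h1, smul_eq_mul, smul_eq_mul, mul_one, sq]
    · intro l _ hl
      rw [dotProduct_smul, h2 k l (Ne.symm hl), smul_zero]
    · intro h
      exact absurd (Finset.mem_univ k) h
  have h5 := dot_self_nonneg (x - p)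
  rw [sub_dotProduct, dotProduct_sub, dotProduct_sub, dotProduct_comm p x, h3, h4] at h5
  linarith

theorem unit_cases {s t : ι → ℤ} (hs : s ⬝ᵥ s = 1) (ht : t ⬝ᵥ t = 1) :
    s ⬝ᵥ t = 0 ∨ s = t ∨ s = -t := by
  have h1 := dot_self_nonneg (s - t)
  have h2 := dot_self_nonneg (s + t)
  rw [sub_dotProduct, dotProduct_sub, dotProduct_sub, dotProduct_comm t s, hs, ht] at h1
  rw [add_dotProduct, dotProduct_add, dotProduct_add, dotProduct_comm t s, hs, ht] at h2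
  have h3 : s ⬝ᵥ t ≤ 1 := by linarith
  have h4 : -1 ≤ s ⬝ᵥ t := by linarith
  rcases (by omega : s ⬝ᵥ t = 0 ∨ s ⬝ᵥ t = 1 ∨ s ⬝ᵥ t = -1) with h | h | h
  · exact Or.inl h
  · exact Or.inr (Or.inl (eq_of_dot_one hs ht h))
  · exact Or.inr (Or.inr (eq_neg_of_dot_neg_one hs ht h))

/-- A vector of norm between `1` and `3` splits off a unit. -/
theorem peel [DecidableEq ι] {x : ι → ℤ} {N : ℤ} (hN : x ⬝ᵥ x = N) (h0 : 0 < N) (h4 : N < 4) :
    ∃ s : ι → ℤ, s ⬝ᵥ s = 1 ∧ x ⬝ᵥ s = 1 ∧ (x - s) ⬝ᵥ (x - s) = N - 1 := by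
  obtain ⟨i, hi⟩ : ∃ i, x i ≠ 0 := by
    by_contra hcon
    push Not at hcon
    have : x = 0 := funext hcon
    rw [this, zero_dotProduct] at hN
    omega
  have hle : (x i) * (x i) ≤ N := by
    rw [← hN]
    exact Finset.single_le_sum (f := fun i => x i * x i) (fun j _ => mul_self_nonneg (x j))
      (Finset.mem_univ i)
  have h1 : x i = 1 ∨ x i = -1 := by
    have h1 : x i < 2 := by nlinarith
    have h2 : -2 < x i := by nlinarith
    omega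
  have hxs : x ⬝ᵥ Pi.single i (x i) = x i * x i := dotProduct_single _ _ _
  have hss : (Pi.single i (x i) : ι → ℤ) ⬝ᵥ Pi.single i (x i) = x i * x i := by
    rw [dotProduct_single, Pi.single_eq_same]
  have h2 : x i * x i = 1 := by rcases h1 with h | h <;> rw [h] <;> norm_num
  refine ⟨Pi.single i (x i), by rw [hss, h2], by rw [hxs, h2], ?_⟩
  rw [sub_dotProduct, dotProduct_sub, dotProduct_sub, dotProduct_comm (Pi.single i (x i)) x, hxs,
    hss, h2, hN]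
  ring

/-- A vector of norm two is the sum of two orthogonal units. -/
theorem split_two [DecidableEq ι] {x : ι → ℤ} (hN : x ⬝ᵥ x = 2) :
    ∃ s t : ι → ℤ, s ⬝ᵥ s = 1 ∧ t ⬝ᵥ t = 1 ∧ s ⬝ᵥ t = 0 ∧ x = s + t := by
  obtain ⟨s, hs, hxs, h1⟩ := peel hN (by norm_num) (by norm_num)
  refine ⟨s, x - s, hs, by rw [h1]; norm_num, ?_, by abel⟩
  rw [dotProduct_sub, dotProduct_comm s x, hxs, hs, sub_self]

end Units

section Degree

variable {deg : ι → ℤ}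

/-- Two orthogonal vectors of norm two of the same degree have no unit in common. -/
theorem no_common {w w' s : ι → ℤ} (hd : ∀ s : ι → ℤ, s ⬝ᵥ s = 1 → s ⬝ᵥ deg ≠ 0)
    (hw : w ⬝ᵥ w = 2) (hw' : w' ⬝ᵥ w' = 2) (hww : w ⬝ᵥ w' = 0) (hdeg : w ⬝ᵥ deg = w' ⬝ᵥ deg)
    (hs : s ⬝ᵥ s = 1) (h1 : w ⬝ᵥ s = 1) (h2 : w' ⬝ᵥ s = 1) : False := by
  have e1 : (w - s) ⬝ᵥ (w - s) = 1 := by
    rw [sub_dotProduct, dotProduct_sub, dotProduct_sub, dotProduct_comm s w, hw, hs, h1]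
    norm_num
  have e2 : (w' - s) ⬝ᵥ (w' - s) = 1 := by
    rw [sub_dotProduct, dotProduct_sub, dotProduct_sub, dotProduct_comm s w', hw', hs, h2]
    norm_num
  have e3 : (w - s) ⬝ᵥ (w' - s) = -1 := by
    rw [sub_dotProduct, dotProduct_sub, dotProduct_sub, dotProduct_comm s w', hww, hs, h1, h2]
    norm_num
  have e4 := eq_neg_of_dot_neg_one e1 e2 e3
  have e5 := congrArg (fun v => v ⬝ᵥ deg) e4
  simp only [neg_dotProduct, sub_dotProduct] at e5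
  apply hd _ e1
  rw [sub_dotProduct]
  linarith

end Degree

section Main

/-- The hypotheses. -/
structure Lat (o deg : ι → ℤ) (x : Fin 9 → ι → ℤ) : Prop where
  oo : o ⬝ᵥ o = 1
  od : o ⬝ᵥ deg = 1
  gram : ∀ a b, x a ⬝ᵥ x b = wrGram a b
  one : ∀ a, x a ⬝ᵥ o = wrOne a
  dg : ∀ a, x a ⬝ᵥ deg = 0
  ne : ∀ s : ι → ℤ, s ⬝ᵥ s = 1 → s ⬝ᵥ deg ≠ 0

variable {o deg : ι → ℤ} {x : Fin 9 → ι → ℤ}

/-- The first two vectors. -/
theorem exists_base [DecidableEq ι] (h : Lat o deg x) :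
    ∃ y p q : ι → ℤ, y ⬝ᵥ y = 1 ∧ p ⬝ᵥ p = 1 ∧ q ⬝ᵥ q = 1 ∧ y ⬝ᵥ p = 0 ∧ y ⬝ᵥ q = 0 ∧
      p ⬝ᵥ q = 0 ∧ y ⬝ᵥ o = 0 ∧ p ⬝ᵥ o = 0 ∧ q ⬝ᵥ o = 0 ∧ x 0 = o + y + p ∧ x 1 = o + y + q := by
  have h00 : x 0 ⬝ᵥ x 0 = 3 := h.gram 0 0
  have h01 : x 0 ⬝ᵥ x 1 = 2 := h.gram 0 1
  have h11 : x 1 ⬝ᵥ x 1 = 3 := h.gram 1 1
  have h0 : x 0 ⬝ᵥ o = 1 := h.one 0
  have h1 : x 1 ⬝ᵥ o = 1 := h.one 1
  have hoo := h.oo
  have hN : (x 0 - x 1) ⬝ᵥ (x 0 - x 1) = 2 := by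
    rw [sub_dotProduct, dotProduct_sub, dotProduct_sub, dotProduct_comm (x 1) (x 0), h00, h01, h11]
    norm_num
  -- symmetric statement
  have key : ∀ s t : ι → ℤ, s ⬝ᵥ s = 1 → t ⬝ᵥ t = 1 → s ⬝ᵥ t = 0 → x 0 - x 1 = s + t →
      x 0 ⬝ᵥ s = 1 → x 0 ⬝ᵥ t = 0 → ∃ y p q : ι → ℤ, y ⬝ᵥ y = 1 ∧ p ⬝ᵥ p = 1 ∧ q ⬝ᵥ q = 1 ∧
      y ⬝ᵥ p = 0 ∧ y ⬝ᵥ q = 0 ∧
      p ⬝ᵥ q = 0 ∧ y ⬝ᵥ o = 0 ∧ p ⬝ᵥ o = 0 ∧ q ⬝ᵥ o = 0 ∧ x 0 = o + y + p ∧ x 1 = o + y + q := by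
    intro s t hs ht hst hx h0s h0t
    have h1t : x 1 ⬝ᵥ t = -1 := by
      have := congrArg (fun v => v ⬝ᵥ t) hx
      simp only [sub_dotProduct, add_dotProduct, h0t, hst, ht] at this
      linarith
    have h1s : x 1 ⬝ᵥ s = 0 := by
      have := congrArg (fun v => v ⬝ᵥ s) hx
      simp only [sub_dotProduct, add_dotProduct, h0s, hs, dotProduct_comm t s, hst] at this
      linarith
    have hso0 : s ⬝ᵥ o + t ⬝ᵥ o = 0 := by
      have := congrArg (fun v => v ⬝ᵥ o) hx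
      simp only [sub_dotProduct, add_dotProduct, h0, h1] at this
      linarith
    have hso : s ⬝ᵥ o = 0 := by
      rcases unit_cases hs hoo with h2 | h2 | h2
      · exact h2
      · exfalso
        have h3 : x 1 ⬝ᵥ s = 1 := by rw [h2, h1]
        omega
      · exfalso
        have h3 : x 1 ⬝ᵥ s = -1 := by rw [h2, dotProduct_neg, h1]
        omega
    have hto : t ⬝ᵥ o = 0 := by linarith
    refine ⟨x 0 - o - s, s, -t, ?_, hs, ?_, ?_, ?_, ?_, ?_, hso, ?_, by abel, ?_⟩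
    · simp only [sub_dotProduct, dotProduct_sub, dotProduct_comm o (x 0),
        dotProduct_comm s (x 0), dotProduct_comm o s, h00, h0, h0s, hoo, hs, hso]
      norm_num
    · rw [neg_dotProduct, dotProduct_neg, ht, neg_neg]
    · simp only [sub_dotProduct, dotProduct_comm o s, h0s, hs, hso]
      norm_num
    · simp only [sub_dotProduct, dotProduct_neg, dotProduct_comm o t, h0t, hst, hto]
      norm_num
    · rw [dotProduct_neg, hst, neg_zero]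
    · simp only [sub_dotProduct, h0, hoo, hso]
      norm_num
    · rw [neg_dotProduct, hto, neg_zero]
    · have : x 1 = x 0 - (s + t) := by rw [← hx]; abel
      rw [this]; abel
  obtain ⟨s, t, hs, ht, hst, hx⟩ := split_two hN
  have e1 : x 0 ⬝ᵥ s + x 0 ⬝ᵥ t = 1 := by
    have := congrArg (fun v => x 0 ⬝ᵥ v) hx
    simp only [dotProduct_sub, dotProduct_add, h00, h01] at this
    linarith
  -- coordinates of a vector of norm three
  have hb : ∀ v : ι → ℤ, v ⬝ᵥ v = 3 → ∀ s : ι → ℤ, s ⬝ᵥ s = 1 → -1 ≤ v ⬝ᵥ s ∧ v ⬝ᵥ s ≤ 1 := by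
    intro v hv s hs
    have h2 := bessel (fun _ : Unit => s) (fun _ => hs) (fun k l hkl => absurd rfl hkl) v
    simp only [Finset.univ_unique, Finset.sum_singleton, hv] at h2
    constructor <;> nlinarith
  have e2 : x 0 ⬝ᵥ s = x 1 ⬝ᵥ s + 1 := by
    have := congrArg (fun v => v ⬝ᵥ s) hx
    simp only [sub_dotProduct, add_dotProduct, hs, dotProduct_comm t s, hst] at this
    linarith
  have e3 : x 0 ⬝ᵥ t = x 1 ⬝ᵥ t + 1 := by
    have := congrArg (fun v => v ⬝ᵥ t) hx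
    simp only [sub_dotProduct, add_dotProduct, ht, hst] at this
    linarith
  have b1 := hb _ h11 s hs
  have b2 := hb _ h11 t ht
  rcases (by omega : x 0 ⬝ᵥ s = 1 ∧ x 0 ⬝ᵥ t = 0 ∨ x 0 ⬝ᵥ s = 0 ∧ x 0 ⬝ᵥ t = 1) with h2 | h2
  · exact key s t hs ht hst hx h2.1 h2.2
  · exact key t s ht hs (by rw [dotProduct_comm, hst]) (by rw [hx, add_comm]) h2.2 h2.1

/-- The vectors `o, y, p, q`. -/
structure Base (o : ι → ℤ) (x : Fin 9 → ι → ℤ) (y p q : ι → ℤ) : Prop where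
  oo : o ⬝ᵥ o = 1
  yy : y ⬝ᵥ y = 1
  pp : p ⬝ᵥ p = 1
  qq : q ⬝ᵥ q = 1
  yp : y ⬝ᵥ p = 0
  yq : y ⬝ᵥ q = 0
  pq : p ⬝ᵥ q = 0
  yo : y ⬝ᵥ o = 0
  po : p ⬝ᵥ o = 0
  qo : q ⬝ᵥ o = 0
  x0 : x 0 = o + y + p
  x1 : x 1 = o + y + q

variable {y p q : ι → ℤ}

theorem Base.unit (b : Base o x y p q) (k : Fin 4) : (![o, y, p, q] k) ⬝ᵥ (![o, y, p, q] k) = 1 := by
  fin_cases k
  · exact b.oo
  · exact b.yy
  · exact b.pp
  · exact b.qq

theorem Base.ortho (b : Base o x y p q) (k l : Fin 4) (hkl : k ≠ l) :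
    (![o, y, p, q] k) ⬝ᵥ (![o, y, p, q] l) = 0 := by
  fin_cases k <;> fin_cases l
  · exact absurd rfl hkl
  · exact (dotProduct_comm _ _).trans b.yo
  · exact (dotProduct_comm _ _).trans b.po
  · exact (dotProduct_comm _ _).trans b.qo
  · exact b.yo
  · exact absurd rfl hkl
  · exact b.yp
  · exact b.yq
  · exact b.po
  · exact (dotProduct_comm _ _).trans b.yp
  · exact absurd rfl hkl
  · exact b.pq
  · exact b.qo
  · exact (dotProduct_comm _ _).trans b.yq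
  · exact (dotProduct_comm _ _).trans b.pq
  · exact absurd rfl hkl

theorem Base.bessel (b : Base o x y p q) (v : ι → ℤ) :
    (v ⬝ᵥ o) ^ 2 + (v ⬝ᵥ y) ^ 2 + (v ⬝ᵥ p) ^ 2 + (v ⬝ᵥ q) ^ 2 ≤ v ⬝ᵥ v := by
  have h := WrLattice.bessel _ b.unit b.ortho v
  rw [Fin.sum_univ_four] at h
  exact h

/-- The coordinates of `v₁, v₂, v₃`. -/
theorem coords (h : Lat o deg x) (b : Base o x y p q) (a : Fin 9) (ha : a = 2 ∨ a = 3 ∨ a = 4) :
    (x a ⬝ᵥ y = 1 ∧ x a ⬝ᵥ p = 0 ∧ x a ⬝ᵥ q = 0) ∨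
      (x a ⬝ᵥ y = 0 ∧ x a ⬝ᵥ p = 1 ∧ x a ⬝ᵥ q = 1) := by
  have h1 : x a ⬝ᵥ x a = 4 := by
    rw [h.gram]; rcases ha with rfl | rfl | rfl <;> rfl
  have h2 : x a ⬝ᵥ x 0 = 2 := by
    rw [h.gram]; rcases ha with rfl | rfl | rfl <;> rfl
  have h3 : x a ⬝ᵥ x 1 = 2 := by
    rw [h.gram]; rcases ha with rfl | rfl | rfl <;> rfl
  have h4 : x a ⬝ᵥ o = 1 := by
    rw [h.one]; rcases ha with rfl | rfl | rfl <;> rfl
  have h5 := b.bessel (x a)
  rw [b.x0, dotProduct_add, dotProduct_add, h4] at h2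
  rw [b.x1, dotProduct_add, dotProduct_add, h4] at h3
  have h6 : x a ⬝ᵥ p = 1 - x a ⬝ᵥ y := by linarith
  have h7 : x a ⬝ᵥ q = 1 - x a ⬝ᵥ y := by linarith
  rw [h1, h4, h6, h7] at h5
  have h8 : x a ⬝ᵥ y ≤ 1 := by nlinarith
  have h9 : 0 ≤ x a ⬝ᵥ y := by nlinarith
  rcases (by omega : x a ⬝ᵥ y = 1 ∨ x a ⬝ᵥ y = 0) with h10 | h10
  · left; refine ⟨h10, ?_, ?_⟩ <;> omega
  · right; refine ⟨h10, ?_, ?_⟩ <;> omega

theorem gram_three (h : Lat o deg x) (a a' : Fin 9) (ha : a = 2 ∨ a = 3 ∨ a = 4)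
    (ha' : a' = 2 ∨ a' = 3 ∨ a' = 4) (hne : a ≠ a') : x a ⬝ᵥ x a' = 2 := by
  rw [h.gram]
  rcases ha with rfl | rfl | rfl <;> rcases ha' with rfl | rfl | rfl <;>
    first | exact absurd rfl hne | rfl

/-- The vector `x a - o - y` when `x a ⬝ᵥ y = 1`. -/
theorem good_norm (h : Lat o deg x) (b : Base o x y p q) (a : Fin 9) (ha : a = 2 ∨ a = 3 ∨ a = 4)
    (hy : x a ⬝ᵥ y = 1) : (x a - o - y) ⬝ᵥ (x a - o - y) = 2 := by
  have h1 : x a ⬝ᵥ x a = 4 := by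
    rw [h.gram]; rcases ha with rfl | rfl | rfl <;> rfl
  have h4 : x a ⬝ᵥ o = 1 := by
    rw [h.one]; rcases ha with rfl | rfl | rfl <;> rfl
  simp only [sub_dotProduct, dotProduct_sub, dotProduct_comm o (x a), dotProduct_comm y (x a),
    dotProduct_comm o y, h1, h4, hy, b.oo, b.yy, b.yo]
  norm_num

theorem good_ortho (h : Lat o deg x) (b : Base o x y p q) (a a' : Fin 9)
    (ha : a = 2 ∨ a = 3 ∨ a = 4) (ha' : a' = 2 ∨ a' = 3 ∨ a' = 4) (hne : a ≠ a')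
    (hy : x a ⬝ᵥ y = 1) (hy' : x a' ⬝ᵥ y = 1) : (x a - o - y) ⬝ᵥ (x a' - o - y) = 0 := by
  have h1 := gram_three h a a' ha ha' hne
  have h4 : x a ⬝ᵥ o = 1 := by
    rw [h.one]; rcases ha with rfl | rfl | rfl <;> rfl
  have h4' : x a' ⬝ᵥ o = 1 := by
    rw [h.one]; rcases ha' with rfl | rfl | rfl <;> rfl
  simp only [sub_dotProduct, dotProduct_sub, dotProduct_comm o (x a'), dotProduct_comm y (x a'),
    dotProduct_comm o y, h1, h4, h4', hy, hy', b.oo, b.yy, b.yo]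
  norm_num

theorem good_deg (h : Lat o deg x) (a a' : Fin 9) :
    (x a - o - y) ⬝ᵥ deg = (x a' - o - y) ⬝ᵥ deg := by
  simp only [sub_dotProduct, h.dg]

/-- `v₁, v₂, v₃` involve `y`. -/
theorem all_good (h : Lat o deg x) (b : Base o x y p q) (a : Fin 9)
    (ha : a = 2 ∨ a = 3 ∨ a = 4) : x a ⬝ᵥ y = 1 ∧ x a ⬝ᵥ p = 0 ∧ x a ⬝ᵥ q = 0 := by
  rcases coords h b a ha with h1 | ⟨h1, h2, h3⟩
  · exact h1
  exfalso
  have hone : ∀ a : Fin 9, a = 2 ∨ a = 3 ∨ a = 4 → x a ⬝ᵥ o = 1 := by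
    intro a ha
    rw [h.one]; rcases ha with rfl | rfl | rfl <;> rfl
  have hnorm : ∀ a : Fin 9, a = 2 ∨ a = 3 ∨ a = 4 → x a ⬝ᵥ x a = 4 := by
    intro a ha
    rw [h.gram]; rcases ha with rfl | rfl | rfl <;> rfl
  -- the unit `r`
  set r : ι → ℤ := x a - o - p - q with hr
  have hrr : r ⬝ᵥ r = 1 := by
    simp only [hr, sub_dotProduct, dotProduct_sub, dotProduct_comm o (x a),
      dotProduct_comm p (x a), dotProduct_comm q (x a), dotProduct_comm o p, dotProduct_comm o q,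
      dotProduct_comm q p, hnorm a ha, hone a ha, h2, h3, b.oo, b.pp, b.qq, b.po, b.qo, b.pq]
    norm_num
  have hrd : r ⬝ᵥ deg = - (o ⬝ᵥ deg) - p ⬝ᵥ deg - q ⬝ᵥ deg := by
    simp only [hr, sub_dotProduct, h.dg]; ring
  -- the others are good
  have hothers : ∀ a' : Fin 9, a' = 2 ∨ a' = 3 ∨ a' = 4 → a ≠ a' →
      x a' ⬝ᵥ y = 1 ∧ x a' ⬝ᵥ p = 0 ∧ x a' ⬝ᵥ q = 0 := by
    intro a' ha' hne
    rcases coords h b a' ha' with h1' | ⟨h1', h2', h3'⟩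
    · exact h1'
    exfalso
    have hrr' : (x a' - o - p - q) ⬝ᵥ (x a' - o - p - q) = 1 := by
      simp only [sub_dotProduct, dotProduct_sub, dotProduct_comm o (x a'),
        dotProduct_comm p (x a'), dotProduct_comm q (x a'), dotProduct_comm o p,
        dotProduct_comm o q,
        dotProduct_comm q p, hnorm a' ha', hone a' ha', h2', h3', b.oo, b.pp, b.qq, b.po, b.qo,
        b.pq]
      norm_num
    have hrr'' : r ⬝ᵥ (x a' - o - p - q) = -1 := by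
      simp only [hr, sub_dotProduct, dotProduct_sub, dotProduct_comm o (x a'),
        dotProduct_comm p (x a'), dotProduct_comm q (x a'), dotProduct_comm o p,
        dotProduct_comm o q,
        dotProduct_comm q p, gram_three h a a' ha ha' hne, hone a ha, hone a' ha', h2, h3, h2', h3',
        b.oo, b.pp, b.qq, b.po, b.qo, b.pq]
      norm_num
    have h5 := eq_neg_of_dot_neg_one hrr hrr' hrr''
    have h6 := congrArg (fun v => v ⬝ᵥ deg) h5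
    simp only [neg_dotProduct] at h6
    have h7 : (x a' - o - p - q) ⬝ᵥ deg = r ⬝ᵥ deg := by
      rw [hrd]; simp only [sub_dotProduct, h.dg]; ring
    rw [h7] at h6
    exact h.ne r hrr (by linarith)
  -- inner product of `r` with the others
  have hrw : ∀ a' : Fin 9, a' = 2 ∨ a' = 3 ∨ a' = 4 → a ≠ a' → (x a' - o - y) ⬝ᵥ r = 1 := by
    intro a' ha' hne
    obtain ⟨e1, e2, e3⟩ := hothers a' ha' hne
    simp only [hr, sub_dotProduct, dotProduct_sub, dotProduct_comm (x a') (x a),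
      dotProduct_comm o (x a), dotProduct_comm y (x a),
      dotProduct_comm o p, dotProduct_comm o q, gram_three h a a' ha ha' hne,
      hone a ha, hone a' ha', h1, e2, e3, b.oo, b.po, b.qo, b.yo, b.yp, b.yq]
    norm_num
  obtain ⟨c, d, hc, hd, hac, had, hcd⟩ : ∃ c d : Fin 9, (c = 2 ∨ c = 3 ∨ c = 4) ∧
      (d = 2 ∨ d = 3 ∨ d = 4) ∧ a ≠ c ∧ a ≠ d ∧ c ≠ d := by
    rcases ha with rfl | rfl | rfl
    · exact ⟨3, 4, by decide⟩
    · exact ⟨2, 4, by decide⟩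
    · exact ⟨2, 3, by decide⟩
  have gc := (hothers c hc hac).1
  have gd := (hothers d hd had).1
  exact no_common h.ne (good_norm h b c hc gc) (good_norm h b d hd gd)
    (good_ortho h b c d hc hd hcd gc gd) (good_deg h c d) hrr (hrw c hc hac) (hrw d hd had)

/-- The degree of `y`. -/
theorem three_deg (h : Lat o deg x) (b : Base o x y p q) :
    y ⬝ᵥ deg - p ⬝ᵥ deg - q ⬝ᵥ deg ≠ 0 := by
  have h1 := h.dg 0
  have h2 := h.dg 1
  rw [b.x0, add_dotProduct, add_dotProduct, h.od] at h1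
  rw [b.x1, add_dotProduct, add_dotProduct, h.od] at h2
  omega

/-- The other vectors are orthogonal to `y`, `p`, `q`. -/
theorem ortho_A (h : Lat o deg x) (b : Base o x y p q) :
    x 5 ⬝ᵥ y = 0 ∧ x 5 ⬝ᵥ p = 0 ∧ x 5 ⬝ᵥ q = 0 := by
  have h1 : x 5 ⬝ᵥ x 5 = 3 := h.gram 5 5
  have h2 : x 5 ⬝ᵥ x 0 = 1 := h.gram 5 0
  have h3 : x 5 ⬝ᵥ x 1 = 1 := h.gram 5 1
  have h4 : x 5 ⬝ᵥ o = 1 := h.one 5
  have h5 := b.bessel (x 5)
  rw [b.x0, dotProduct_add, dotProduct_add, h4] at h2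
  rw [b.x1, dotProduct_add, dotProduct_add, h4] at h3
  have h6 : x 5 ⬝ᵥ p = -(x 5 ⬝ᵥ y) := by linarith
  have h7 : x 5 ⬝ᵥ q = -(x 5 ⬝ᵥ y) := by linarith
  rw [h1, h4, h6, h7] at h5
  have h8 : x 5 ⬝ᵥ y < 1 := by nlinarith
  have h9 : -1 < x 5 ⬝ᵥ y := by nlinarith
  have h10 : x 5 ⬝ᵥ y = 0 := by omega
  exact ⟨h10, by omega, by omega⟩

theorem ortho_D (h : Lat o deg x) (b : Base o x y p q) :
    x 6 ⬝ᵥ y = 0 ∧ x 6 ⬝ᵥ p = 0 ∧ x 6 ⬝ᵥ q = 0 := by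
  have h1 : x 6 ⬝ᵥ x 6 = 3 := h.gram 6 6
  have h2 : x 6 ⬝ᵥ x 0 = 0 := h.gram 6 0
  have h3 : x 6 ⬝ᵥ x 1 = 0 := h.gram 6 1
  have h4 : x 6 ⬝ᵥ o = 0 := h.one 6
  have h5 := b.bessel (x 6)
  rw [b.x0, dotProduct_add, dotProduct_add, h4] at h2
  rw [b.x1, dotProduct_add, dotProduct_add, h4] at h3
  have h6 : x 6 ⬝ᵥ p = -(x 6 ⬝ᵥ y) := by linarith
  have h7 : x 6 ⬝ᵥ q = -(x 6 ⬝ᵥ y) := by linarith
  rw [h1, h4, h6, h7] at h5
  have h8 : x 6 ⬝ᵥ y ≤ 1 := by nlinarith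
  have h9 : -1 ≤ x 6 ⬝ᵥ y := by nlinarith
  have h10 : x 6 ⬝ᵥ y = 0 := by
    by_contra hcon
    set ε := x 6 ⬝ᵥ y with hε
    have hε2 : ε * ε = 1 := by
      rcases (by omega : ε = 1 ∨ ε = -1) with h | h <;> rw [h] <;> norm_num
    have h11 : (x 6 - ε • (y - p - q)) ⬝ᵥ (x 6 - ε • (y - p - q)) = 0 := by
      simp only [sub_dotProduct, dotProduct_sub, smul_dotProduct, dotProduct_smul,
        dotProduct_comm y (x 6), dotProduct_comm p (x 6), dotProduct_comm q (x 6),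
        dotProduct_comm p y, dotProduct_comm q y, dotProduct_comm q p, h1, h6, h7, ← hε,
        b.yy, b.pp, b.qq, b.yp, b.yq, b.pq, smul_eq_mul]
      linear_combination (-3) * hε2
    have h12 := sub_eq_zero.1 (eq_zero_of_dot_self h11)
    have h13 := h.dg 6
    rw [h12, smul_dotProduct, sub_dotProduct, sub_dotProduct, smul_eq_mul] at h13
    rcases mul_eq_zero.1 h13 with h14 | h14
    · exact hcon h14
    · exact three_deg h b h14
  exact ⟨h10, by omega, by omega⟩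

theorem ortho_F (h : Lat o deg x) (b : Base o x y p q) (a : Fin 9) (ha : a = 7 ∨ a = 8) :
    x a ⬝ᵥ y = 0 ∧ x a ⬝ᵥ p = 0 ∧ x a ⬝ᵥ q = 0 := by
  have h1 : x a ⬝ᵥ x a = 4 := by rw [h.gram]; rcases ha with rfl | rfl <;> rfl
  have h2 : x a ⬝ᵥ x 0 = 0 := by rw [h.gram]; rcases ha with rfl | rfl <;> rfl
  have h3 : x a ⬝ᵥ x 1 = 0 := by rw [h.gram]; rcases ha with rfl | rfl <;> rfl
  have h4 : x a ⬝ᵥ o = 0 := by rw [h.one]; rcases ha with rfl | rfl <;> rfl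
  have e2 : x 2 ⬝ᵥ x a = 0 := by rw [h.gram]; rcases ha with rfl | rfl <;> rfl
  have e3 : x 3 ⬝ᵥ x a = 0 := by rw [h.gram]; rcases ha with rfl | rfl <;> rfl
  have h5 := b.bessel (x a)
  rw [b.x0, dotProduct_add, dotProduct_add, h4] at h2
  rw [b.x1, dotProduct_add, dotProduct_add, h4] at h3
  have h6 : x a ⬝ᵥ p = -(x a ⬝ᵥ y) := by linarith
  have h7 : x a ⬝ᵥ q = -(x a ⬝ᵥ y) := by linarith
  rw [h1, h4, h6, h7] at h5
  have h8 : x a ⬝ᵥ y ≤ 1 := by nlinarith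
  have h9 : -1 ≤ x a ⬝ᵥ y := by nlinarith
  have h10 : x a ⬝ᵥ y = 0 := by
    by_contra hcon
    set ε := x a ⬝ᵥ y with hε
    have hε2 : ε * ε = 1 := by
      rcases (by omega : ε = 1 ∨ ε = -1) with h | h <;> rw [h] <;> norm_num
    obtain ⟨g2, g2', g2''⟩ := all_good h b 2 (Or.inl rfl)
    obtain ⟨g3, g3', g3''⟩ := all_good h b 3 (Or.inr (Or.inl rfl))
    -- the unit
    set w : ι → ℤ := (-ε) • (x a - ε • (y - p - q)) with hw
    have hww : w ⬝ᵥ w = 1 := by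
      simp only [hw, sub_dotProduct, dotProduct_sub, smul_dotProduct, dotProduct_smul,
        dotProduct_comm y (x a), dotProduct_comm p (x a), dotProduct_comm q (x a),
        dotProduct_comm p y, dotProduct_comm q y, dotProduct_comm q p, h1, h6, h7, ← hε,
        b.yy, b.pp, b.qq, b.yp, b.yq, b.pq, smul_eq_mul]
      linear_combination (1 - 3 * ε * ε) * hε2
    have hwa : ∀ c : Fin 9, x c ⬝ᵥ x a = 0 → x c ⬝ᵥ y = 1 → x c ⬝ᵥ p = 0 → x c ⬝ᵥ q = 0 →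
        (x c - o - y) ⬝ᵥ w = 1 := by
      intro c e1 e2 e3 e4
      simp only [hw, sub_dotProduct, dotProduct_sub, dotProduct_smul,
        dotProduct_comm y (x a), dotProduct_comm o (x a), dotProduct_comm o y,
        dotProduct_comm o p, dotProduct_comm o q, e1, e2, e3, e4, h4, ← hε,
        b.yy, b.yp, b.yq, b.yo, b.po, b.qo, smul_eq_mul]
      linear_combination hε2
    exact no_common h.ne (good_norm h b 2 (Or.inl rfl) g2)
      (good_norm h b 3 (Or.inr (Or.inl rfl)) g3)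
      (good_ortho h b 2 3 (Or.inl rfl) (Or.inr (Or.inl rfl)) (by decide) g2 g3)
      (good_deg h 2 3) hww (hwa 2 e2 g2 g2' g2'') (hwa 3 e3 g3 g3' g3'')
  exact ⟨h10, by omega, by omega⟩

/-- The vector `τ`. -/
def tau (x : Fin 9 → ι → ℤ) : ι → ℤ := ∑ a, wrTau a • x a

theorem tau_dot (x : Fin 9 → ι → ℤ) (v : ι → ℤ) :
    tau x ⬝ᵥ v = 4 * (x 0 ⬝ᵥ v) + 4 * (x 1 ⬝ᵥ v) - 3 * (x 2 ⬝ᵥ v) - x 3 ⬝ᵥ v - x 4 ⬝ᵥ v -
      2 * (x 5 ⬝ᵥ v) - 2 * (x 6 ⬝ᵥ v) + 2 * (x 7 ⬝ᵥ v) + 2 * (x 8 ⬝ᵥ v) := by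
  have h : tau x ⬝ᵥ v = ∑ a, wrTau a * (x a ⬝ᵥ v) := by
    rw [tau, sum_dotProduct]
    refine Finset.sum_congr rfl fun a _ => ?_
    rw [smul_dotProduct, smul_eq_mul]
  rw [h]
  simp only [Fin.sum_univ_succ, Fin.sum_univ_zero, wrTau]
  simp
  ring_nf

theorem main [DecidableEq ι] (h : Lat o deg x) :
    ∃ (a : Fin 9) (y p s t : ι → ℤ), (a = 2 ∨ a = 3 ∨ a = 4) ∧
      y ⬝ᵥ y = 1 ∧ p ⬝ᵥ p = 1 ∧ s ⬝ᵥ s = 1 ∧ t ⬝ᵥ t = 1 ∧
      y ⬝ᵥ o = 0 ∧ p ⬝ᵥ o = 0 ∧ s ⬝ᵥ o = 0 ∧ t ⬝ᵥ o = 0 ∧ y ⬝ᵥ p = 0 ∧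
      y ⬝ᵥ s = 0 ∧ y ⬝ᵥ t = 0 ∧ s ⬝ᵥ t = 0 ∧
      x 0 = o + y + p ∧ x a = o + y + s + t ∧
      tau x ⬝ᵥ y = 3 ∧ tau x ⬝ᵥ p = 4 ∧ tau x ⬝ᵥ s + tau x ⬝ᵥ t = -4 ∧
      (tau x ⬝ᵥ s) ^ 2 + (tau x ⬝ᵥ t) ^ 2 ≤ 18 := by
  obtain ⟨y, p, q, h1, h2, h3, h4, h5, h6, h7, h8, h9, h10, h11⟩ := exists_base h
  have b : Base o x y p q := ⟨h.oo, h1, h2, h3, h4, h5, h6, h7, h8, h9, h10, h11⟩
  have g := fun a ha => all_good h b a ha
  have gA := ortho_A h b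
  have gD := ortho_D h b
  have gF := ortho_F h b 7 (Or.inl rfl)
  have gF' := ortho_F h b 8 (Or.inr rfl)
  have g2 := g 2 (Or.inl rfl)
  have g3 := g 3 (Or.inr (Or.inl rfl))
  have g4 := g 4 (Or.inr (Or.inr rfl))
  have x0y : x 0 ⬝ᵥ y = 1 := by
    rw [h10, add_dotProduct, add_dotProduct, dotProduct_comm o y, dotProduct_comm p y, h1, h4, h7]
    norm_num
  have x1y : x 1 ⬝ᵥ y = 1 := by
    rw [h11, add_dotProduct, add_dotProduct, dotProduct_comm o y, dotProduct_comm q y, h1, h5, h7]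
    norm_num
  have x0p : x 0 ⬝ᵥ p = 1 := by
    rw [h10, add_dotProduct, add_dotProduct, dotProduct_comm o p, h2, h4, h8]
    norm_num
  have x1p : x 1 ⬝ᵥ p = 0 := by
    rw [h11, add_dotProduct, add_dotProduct, dotProduct_comm o p, dotProduct_comm q p, h4, h6, h8]
    norm_num
  have x0q : x 0 ⬝ᵥ q = 0 := by
    rw [h10, add_dotProduct, add_dotProduct, dotProduct_comm o q, h5, h6, h9]
    norm_num
  have x1q : x 1 ⬝ᵥ q = 1 := by
    rw [h11, add_dotProduct, add_dotProduct, dotProduct_comm o q, h3, h5, h9]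
    norm_num
  have ty : tau x ⬝ᵥ y = 3 := by
    rw [tau_dot, x0y, x1y, g2.1, g3.1, g4.1, gA.1, gD.1, gF.1, gF'.1]; norm_num
  have tp : tau x ⬝ᵥ p = 4 := by
    rw [tau_dot, x0p, x1p, g2.2.1, g3.2.1, g4.2.1, gA.2.1, gD.2.1, gF.2.1, gF'.2.1]; norm_num
  have tq : tau x ⬝ᵥ q = 4 := by
    rw [tau_dot, x0q, x1q, g2.2.2, g3.2.2, g4.2.2, gA.2.2, gD.2.2, gF.2.2, gF'.2.2]; norm_num
  have to' : tau x ⬝ᵥ o = 1 := by
    rw [tau_dot]
    simp only [h.one]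
    rfl
  have tx : ∀ a : Fin 9, x a ⬝ᵥ tau x = tau x ⬝ᵥ x a := fun a => dotProduct_comm _ _
  have ttx : ∀ a : Fin 9, a = 2 ∨ a = 3 ∨ a = 4 → tau x ⬝ᵥ x a = 0 := by
    intro a ha
    rw [tau_dot]
    simp only [h.gram]
    rcases ha with rfl | rfl | rfl <;> rfl
  have tt : tau x ⬝ᵥ tau x = 96 := by
    rw [tau_dot]
    simp only [tx, tau_dot x (x _), h.gram]
    rfl
  -- the pairs
  have hS : ∀ k : Fin 3, ∃ s : Fin 2 → ι → ℤ, (∀ j, s j ⬝ᵥ s j = 1) ∧ s 0 ⬝ᵥ s 1 = 0 ∧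
      x (![2, 3, 4] k) - o - y = s 0 + s 1 := by
    intro k
    have hk : (![2, 3, 4] k : Fin 9) = 2 ∨ (![2, 3, 4] k : Fin 9) = 3 ∨
        (![2, 3, 4] k : Fin 9) = 4 := by revert k; decide
    obtain ⟨s, t, hs, ht, hst, hx⟩ := split_two (good_norm h b _ hk (g _ hk).1)
    refine ⟨![s, t], ?_, hst, hx⟩
    intro j
    fin_cases j
    · exact hs
    · exact ht
  choose S hS1 hS2 hS3 using hS
  have hk : ∀ k : Fin 3, (![2, 3, 4] k : Fin 9) = 2 ∨ (![2, 3, 4] k : Fin 9) = 3 ∨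
        (![2, 3, 4] k : Fin 9) = 4 := by decide
  have hS4 : ∀ k (j : Fin 2), (x (![2, 3, 4] k) - o - y) ⬝ᵥ S k j = 1 := by
    intro k j
    rw [hS3]
    fin_cases j
    · change (S k 0 + S k 1) ⬝ᵥ S k 0 = 1
      rw [add_dotProduct, hS1, dotProduct_comm (S k 1) (S k 0), hS2, add_zero]
    · change (S k 0 + S k 1) ⬝ᵥ S k 1 = 1
      rw [add_dotProduct, hS1, hS2, zero_add]
  -- orthogonality of a component of `W` to a unit orthogonal to `W`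
  have hcomp : ∀ (k : Fin 3) (v : ι → ℤ), v ⬝ᵥ v = 1 →
      (x (![2, 3, 4] k) - o - y) ⬝ᵥ v = 0 → ∀ j, S k j ⬝ᵥ v = 0 := by
    intro k v hv hWv j
    rcases unit_cases (hS1 k j) hv with h12 | h12 | h12
    · exact h12
    · exfalso
      have := hS4 k j
      rw [h12, hWv] at this
      norm_num at this
    · exfalso
      have := hS4 k j
      rw [h12, dotProduct_neg, hWv] at this
      norm_num at this
  have hWo : ∀ k : Fin 3, (x (![2, 3, 4] k) - o - y) ⬝ᵥ o = 0 := by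
    intro k
    have h12 : x (![2, 3, 4] k) ⬝ᵥ o = 1 := by
      rw [h.one]; rcases hk k with h | h | h <;> rw [h] <;> rfl
    rw [sub_dotProduct, sub_dotProduct, h12, h.oo, h7]; norm_num
  have hWy : ∀ k : Fin 3, (x (![2, 3, 4] k) - o - y) ⬝ᵥ y = 0 := by
    intro k
    rw [sub_dotProduct, sub_dotProduct, (g _ (hk k)).1, dotProduct_comm o y, h1, h7]; norm_num
  have hWp : ∀ k : Fin 3, (x (![2, 3, 4] k) - o - y) ⬝ᵥ p = 0 := by
    intro k
    rw [sub_dotProduct, sub_dotProduct, (g _ (hk k)).2.1, dotProduct_comm o p, h4, h8]; norm_num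
  have hWq : ∀ k : Fin 3, (x (![2, 3, 4] k) - o - y) ⬝ᵥ q = 0 := by
    intro k
    rw [sub_dotProduct, sub_dotProduct, (g _ (hk k)).2.2, dotProduct_comm o q, h5, h9]; norm_num
  have hne : ∀ k l : Fin 3, k ≠ l → (![2, 3, 4] k : Fin 9) ≠ ![2, 3, 4] l := by decide
  -- components of different pairs
  have hSS : ∀ k l : Fin 3, k ≠ l → ∀ i j, S k i ⬝ᵥ S l j = 0 := by
    intro k l hkl i j
    have hww := good_ortho h b _ _ (hk k) (hk l) (hne k l hkl) (g _ (hk k)).1 (g _ (hk l)).1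
    have hd := good_deg (y := y) h (![2, 3, 4] k) (![2, 3, 4] l)
    rcases unit_cases (hS1 k i) (hS1 l j) with h12 | h12 | h12
    · exact h12
    · exfalso
      refine no_common h.ne (good_norm h b _ (hk k) (g _ (hk k)).1)
        (good_norm h b _ (hk l) (g _ (hk l)).1) hww hd (hS1 k i) (hS4 k i) ?_
      rw [h12]; exact hS4 l j
    · exfalso
      -- the complementary components agree
      obtain ⟨i', hi'⟩ : ∃ i' : Fin 2, x (![2, 3, 4] k) - o - y = S k i + S k i' := by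
        rw [hS3]
        fin_cases i
        · exact ⟨1, rfl⟩
        · exact ⟨0, add_comm _ _⟩
      obtain ⟨j', hj'⟩ : ∃ j' : Fin 2, x (![2, 3, 4] l) - o - y = S l j + S l j' := by
        rw [hS3]
        fin_cases j
        · exact ⟨1, rfl⟩
        · exact ⟨0, add_comm _ _⟩
      have e1 : (x (![2, 3, 4] k) - o - y) ⬝ᵥ S l j = -1 := by
        have := hS4 k i
        rw [h12, dotProduct_neg] at this
        linarith
      have e2 : (x (![2, 3, 4] k) - o - y) ⬝ᵥ S l j' = 1 := by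
        rw [hj', dotProduct_add, e1] at hww
        linarith
      have e3 : S k i ⬝ᵥ S l j' = 0 := by
        rw [h12, neg_dotProduct]
        have := hS4 l j'
        rw [hj', add_dotProduct, hS1] at this
        linarith
      have e4 : S k i' ⬝ᵥ S l j' = 1 := by
        rw [hi', add_dotProduct, e3] at e2
        linarith
      have e5 := eq_of_dot_one (hS1 k i') (hS1 l j') e4
      rw [hi', hj', h12, e5, add_dotProduct, add_dotProduct, neg_dotProduct] at hd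
      exact h.ne _ (hS1 l j) (by linarith)
  -- the orthonormal family
  have hfam := bessel (κ := Fin 4 ⊕ (Fin 3 × Fin 2))
    (Sum.elim ![o, y, p, q] fun kj => S kj.1 kj.2) ?_ ?_ (tau x)
  · rw [Fintype.sum_sum_type, Fin.sum_univ_four, Fintype.sum_prod_type] at hfam
    simp only [Sum.elim_inl, Sum.elim_inr, Fin.sum_univ_two, Fin.sum_univ_three, tt] at hfam
    have hfam' : (tau x ⬝ᵥ o) ^ 2 + (tau x ⬝ᵥ y) ^ 2 + (tau x ⬝ᵥ p) ^ 2 + (tau x ⬝ᵥ q) ^ 2 +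
      ((tau x ⬝ᵥ S 0 0) ^ 2 + (tau x ⬝ᵥ S 0 1) ^ 2 +
        ((tau x ⬝ᵥ S 1 0) ^ 2 + (tau x ⬝ᵥ S 1 1) ^ 2) +
        ((tau x ⬝ᵥ S 2 0) ^ 2 + (tau x ⬝ᵥ S 2 1) ^ 2)) ≤ 96 := hfam
    rw [to', ty, tp, tq] at hfam'
    obtain ⟨k, hk18⟩ : ∃ k : Fin 3, (tau x ⬝ᵥ S k 0) ^ 2 + (tau x ⬝ᵥ S k 1) ^ 2 ≤ 18 := by
      by_contra hcon
      push Not at hcon
      have c0 := hcon 0
      have c1 := hcon 1
      have c2 := hcon 2
      omega
    have hxk : x (![2, 3, 4] k) = o + y + S k 0 + S k 1 := by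
      have := hS3 k
      have h13 : x (![2, 3, 4] k) = (x (![2, 3, 4] k) - o - y) + (o + y) := by abel
      rw [h13, this]; abel
    refine ⟨![2, 3, 4] k, y, p, S k 0, S k 1, hk k, h1, h2, hS1 k 0, hS1 k 1, h7, h8,
      hcomp k o h.oo (hWo k) 0, hcomp k o h.oo (hWo k) 1, h4, ?_, ?_, hS2 k, h10, hxk, ty, tp, ?_,
      hk18⟩
    · rw [dotProduct_comm]; exact hcomp k y h1 (hWy k) 0
    · rw [dotProduct_comm]; exact hcomp k y h1 (hWy k) 1
    · have h14 := ttx _ (hk k)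
      rw [hxk, dotProduct_add, dotProduct_add, dotProduct_add, to', ty] at h14
      linarith
  · rintro (k | ⟨k, j⟩)
    · exact b.unit k
    · exact hS1 k j
  · have hmix : ∀ (m : Fin 4) (k : Fin 3) (j : Fin 2), S k j ⬝ᵥ ![o, y, p, q] m = 0 := by
      intro m k j
      fin_cases m
      · exact hcomp k o h.oo (hWo k) j
      · exact hcomp k y h1 (hWy k) j
      · exact hcomp k p h2 (hWp k) j
      · exact hcomp k q h3 (hWq k) j
    rintro (m | ⟨k, j⟩) (m' | ⟨k', j'⟩) hne'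
    · exact b.ortho m m' (fun h => hne' (by rw [h]))
    · exact (dotProduct_comm _ _).trans (hmix m k' j')
    · exact hmix m' k j
    · by_cases hkk : k = k'
      · subst hkk
        have hjj : j ≠ j' := fun h => hne' (by rw [h])
        change S k j ⬝ᵥ S k j' = 0
        fin_cases j <;> fin_cases j'
        · exact absurd rfl hjj
        · exact hS2 k
        · exact (dotProduct_comm _ _).trans (hS2 k)
        · exact absurd rfl hjj
      · exact hSS k k' hkk j j'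

end Main

end Cfsg.Agent.Classification.RTwo.WrLattice
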