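import Mathlib
import Cfsg.Agent.Classification.RTwo.WrLattice
import Cfsg.Agent.Classification.RTwo.BlockMem
import Cfsg.Agent.SmallSimple.SelfCentSum
import Cfsg.Agent.OddOrderCharacters.IndRes

/-!
# The principal 2-block in the wreathed case

`t` an involution of `G`, one class of involutions, `C(t)` maps onto the group `Q` of order `96`
with kernel of odd order. Then the principal 2-block contains a nontrivial character of degree
less than `32`.
-/

set_option autoImplicit false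
set_option linter.unusedSectionVars false

namespace Cfsg.Agent.Classification.RTwo.WrChar

open Cfsg Cfsg.Agent.Characters Cfsg.Agent.Classification.RTwo.WrTable
  Cfsg.Agent.Classification.RTwo.WrLattice Cfsg.Agent.Classification.RTwo.General
  Cfsg.Agent.Classification.RTwo.BlockMem Matrix
open Cfsg.Agent.Classification.BGOrder Cfsg.Agent.Classification.BGBlockB0
open scoped ComplexConjugate

universe u

section Ch

variable {G : Type u} [Group G]

/-- The class function with the multiplicities `v`. -/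
noncomputable def ch [Fintype (IrrCharacter G)] (v : IrrCharacter G → ℤ) : G → ℂ :=
  ∑ χ : IrrCharacter G, v χ • (χ : G → ℂ)

theorem classInner_ch [Fintype G] [Fintype (IrrCharacter G)] (v w : IrrCharacter G → ℤ) :
    classInner (ch v) (ch w) = ((v ⬝ᵥ w : ℤ) : ℂ) := by
  have h := Core.classInner_sum_smul_sum_smul (G := G) (fun χ => (v χ : ℂ)) (fun χ => (w χ : ℂ))
  simp only [Int.cast_smul_eq_zsmul] at h
  rw [ch, ch, h, dotProduct]
  push_cast
  refine Finset.sum_congr rfl fun χ _ => ?_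
  rw [map_intCast]

theorem ch_add [Fintype (IrrCharacter G)] (v w : IrrCharacter G → ℤ) :
    ch (v + w) = ch v + ch w := by
  simp only [ch, Pi.add_apply, add_smul, Finset.sum_add_distrib]

theorem ch_sum_smul [Fintype (IrrCharacter G)] {κ : Type*} [Fintype κ] (c : κ → ℤ)
    (x : κ → IrrCharacter G → ℤ) : ch (∑ a, c a • x a) = ∑ a, c a • ch (x a) := by
  simp only [ch, Finset.sum_apply, Pi.smul_apply, Finset.sum_smul, Finset.smul_sum, smul_assoc]
  rw [Finset.sum_comm]

theorem ch_single [Fintype (IrrCharacter G)] [DecidableEq (IrrCharacter G)] (χ : IrrCharacter G)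
    (ε : ℤ) : ch (Pi.single χ ε) = ε • (χ : G → ℂ) := by
  rw [ch, Finset.sum_eq_single χ]
  · rw [Pi.single_eq_same]
  · intro ψ _ hψ
    rw [Pi.single_eq_of_ne hψ, zero_smul]
  · exact fun h => absurd (Finset.mem_univ _) h

/-- A unit is plus or minus a basis vector. -/
theorem unit_eq_single {ι : Type*} [Fintype ι] [DecidableEq ι] {s : ι → ℤ} (hs : s ⬝ᵥ s = 1) :
    ∃ (i : ι) (ε : ℤ), (ε = 1 ∨ ε = -1) ∧ s = Pi.single i ε := by
  obtain ⟨i, hi⟩ : ∃ i, s i ≠ 0 := by
    by_contra hcon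
    push Not at hcon
    have : s = 0 := funext hcon
    rw [this, zero_dotProduct] at hs
    exact zero_ne_one hs
  have hle : s i * s i ≤ 1 := by
    rw [← hs]
    exact Finset.single_le_sum (f := fun i => s i * s i) (fun j _ => mul_self_nonneg (s j))
      (Finset.mem_univ i)
  have h1 : s i = 1 ∨ s i = -1 := by
    have h1 : s i < 2 := by nlinarith
    have h2 : -2 < s i := by nlinarith
    omega
  refine ⟨i, s i, h1, ?_⟩
  have h2 : s i * s i = 1 := by rcases h1 with h | h <;> rw [h] <;> norm_num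
  refine eq_of_dot_one hs ?_ ?_
  · rw [dotProduct_single, Pi.single_eq_same, h2]
  · rw [dotProduct_single, h2]

end Ch

section Main

variable {G : Type u} [Group G] [Fintype G] {Q : Type} [Group Q] [Fintype Q] {t : G} {z : Q}
  {π : (Subgroup.centralizer ({t} : Set G)) →* Q} {f : Fin 9 → Q → ℂ}

/-- The induced functions. -/
noncomputable def phi (π : (Subgroup.centralizer ({t} : Set G)) →* Q) (f : Fin 9 → Q → ℂ)
    (a : Fin 9) : G → ℂ :=
  indFun (Subgroup.centralizer ({t} : Set G)) (fun x => f a (π x))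

/-- The degrees and the lattice. -/
theorem exists_lattice (h : Hyp t z π) (T : WrTable.Data z f) [Fintype (IrrCharacter G)]
    [DecidableEq (IrrCharacter G)] :
    ∃ (o deg : IrrCharacter G → ℤ) (x : Fin 9 → IrrCharacter G → ℤ),
      Lat o deg x ∧ (∀ χ : IrrCharacter G, 0 < deg χ ∧ (χ : G → ℂ) 1 = deg χ) ∧
      o = Pi.single ⟨1, Core.isIrr_one⟩ 1 ∧ ∀ a, phi π f a = ch (x a) := by
  have hdeg : ∀ χ : IrrCharacter G, ∃ n : ℤ, 0 < n ∧ (χ : G → ℂ) 1 = n := by
    intro χ
    obtain ⟨n, hn, h1⟩ := Core.isIrr_apply_one χ.2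
    exact ⟨n, by exact_mod_cast hn, by rw [h1]; norm_cast⟩
  choose deg hdeg0 hdeg1 using hdeg
  have hx : ∀ a, ∃ m : IrrCharacter G → ℤ, phi π f a = ch m := fun a =>
    Core.isGeneralizedCharacter_iff.1 (isGeneralized_ind_comp (T.isGen a))
  choose x hx using hx
  set o : IrrCharacter G → ℤ := Pi.single ⟨1, Core.isIrr_one⟩ 1 with ho
  have hcho : ch o = (1 : G → ℂ) := by rw [ho, ch_single, one_smul]
  have hch1 : ∀ v : IrrCharacter G → ℤ, ch v 1 = ((v ⬝ᵥ deg : ℤ) : ℂ) := by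
    intro v
    rw [ch, Finset.sum_apply, dotProduct]
    push_cast
    refine Finset.sum_congr rfl fun χ _ => ?_
    rw [Pi.smul_apply, hdeg1, zsmul_eq_mul]
  refine ⟨o, deg, x, ⟨?_, ?_, ?_, ?_, ?_, ?_⟩, fun χ => ⟨hdeg0 χ, hdeg1 χ⟩, rfl, hx⟩
  · rw [ho, dotProduct_single, Pi.single_eq_same, mul_one]
  · rw [ho, single_dotProduct, one_mul]
    have := hdeg1 ⟨1, Core.isIrr_one⟩
    have h2 : ((deg ⟨1, Core.isIrr_one⟩ : ℤ) : ℂ) = ((1 : ℤ) : ℂ) := by
      rw [← this]; simp
    exact_mod_cast h2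
  · intro a b
    have h1 : classInner (phi π f a) (phi π f b) = classInner (f a) (f b) :=
      classInner_ind_comp h (BGSplit.isClass_of_generalized (T.isGen a))
        (BGSplit.isClass_of_generalized (T.isGen b)) (T.supp a) (T.supp b)
    rw [hx, hx, classInner_ch, T.gram] at h1
    exact_mod_cast h1
  · intro a
    have h1 : classInner (phi π f a) 1 = classInner (f a) 1 := classInner_ind_one h
    rw [T.one, hx, ← hcho, classInner_ch] at h1
    exact_mod_cast h1
  · intro a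
    have h1 : phi π f a 1 = 0 := ind_one h (T.supp a)
    rw [hx, hch1] at h1
    exact_mod_cast h1
  · intro s hs h0
    obtain ⟨i, ε, hε, rfl⟩ := unit_eq_single hs
    rw [single_dotProduct] at h0
    have := hdeg0 i
    rcases hε with rfl | rfl <;> omega

/-- The function `96 * 1_z`. -/
theorem phi_tau [Fintype (IrrCharacter G)]
    {x : Fin 9 → IrrCharacter G → ℤ} (hx : ∀ a, phi π f a = ch (x a)) :
    indFun (Subgroup.centralizer ({t} : Set G)) (fun y => ∑ a, (wrTau a : ℂ) * f a (π y)) =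
      ch (tau x) := by
  have h1 : (fun y : Subgroup.centralizer ({t} : Set G) => ∑ a, (wrTau a : ℂ) * f a (π y)) =
      ∑ a, (wrTau a : ℂ) • fun y : Subgroup.centralizer ({t} : Set G) => f a (π y) := by
    funext y
    rw [Finset.sum_apply]
    rfl
  rw [h1, OddOrderCharacters.IndRes.indFun_sum, tau, ch_sum_smul]
  refine Finset.sum_congr rfl fun a _ => ?_
  rw [OddOrderCharacters.IndRes.indFun_smul, ← hx a, Int.cast_smul_eq_zsmul]
  rfl

/-- **The signed irreducible characters**: `φ₀ = 1 + Y + P`, `φ_a = 1 + Y + S + R`, their degrees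
and values at `t`. -/
theorem exists_data [IsSimpleGroup G] (h : Hyp t z π) (T : WrTable.Data z f)
    (hQ : Nat.card Q = 96) (M : Ideal AlgInt) (hM : IsPModular 2 M) :
    ∃ (a : Fin 9) (Y P S R : G → ℂ) (k u v α β : ℤ), (a = 2 ∨ a = 3 ∨ a = 4) ∧
      InB (principalBlock M G) Y ∧ InB (principalBlock M G) P ∧
      InB (principalBlock M G) S ∧ InB (principalBlock M G) R ∧
      classInner Y 1 = 0 ∧ classInner P 1 = 0 ∧ classInner S 1 = 0 ∧ classInner R 1 = 0 ∧
      classInner Y P = 0 ∧ classInner Y S = 0 ∧ classInner Y R = 0 ∧ classInner S R = 0 ∧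
      phi π f 0 = 1 + Y + P ∧ phi π f a = 1 + Y + S + R ∧
      Y 1 = k ∧ Y t = 3 ∧ P 1 = -(1 + k) ∧ P t = 4 ∧ S 1 = -u ∧ S t = -α ∧ R 1 = -v ∧ R t = -β ∧
      k ≠ 0 ∧ 1 + k ≠ 0 ∧ u ≠ 0 ∧ v ≠ 0 ∧ u ≠ 1 ∧ v ≠ 1 ∧ u + v = 1 + k ∧ α + β = 4 ∧
      α ^ 2 + β ^ 2 ≤ 18 ∧ (k + 9) * u * v = α ^ 2 * k * v + β ^ 2 * k * u := by
  classical
  have : Finite (IrrCharacter G) := Core.finite_irr
  let _ : Fintype (IrrCharacter G) := Fintype.ofFinite _
  obtain ⟨o, deg, x, L, hdeg, ho, hx⟩ := exists_lattice h T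
  obtain ⟨a, y, p, s, r, ha, yy, pp, ss, rr, yo, po, so, ro, yp, ys, yr, sr, x0, xa, ty, tp, tsr,
    t18⟩ := WrLattice.main L
  have hprime : ¬ (Nat.card G).Prime := by
    intro hp
    have h1 : Nat.card Q ∣ Nat.card G :=
      (Subgroup.card_dvd_of_surjective π h.surj).trans (Subgroup.card_subgroup_dvd_card _)
    rw [hQ] at h1
    rcases (Nat.dvd_prime hp).1 h1 with h2 | h2
    · omega
    · rw [← h2] at hp
      exact absurd hp (by norm_num)
  have hcho : ch o = (1 : G → ℂ) := by rw [ho, ch_single, one_smul]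
  have hch1 : ∀ v : IrrCharacter G → ℤ, ch v 1 = ((v ⬝ᵥ deg : ℤ) : ℂ) := by
    intro v
    rw [ch, Finset.sum_apply, dotProduct]
    push_cast
    refine Finset.sum_congr rfl fun χ _ => ?_
    rw [Pi.smul_apply, (hdeg χ).2, zsmul_eq_mul]
  have hvo : ∀ v : IrrCharacter G → ℤ, v ⬝ᵥ o = v ⟨1, Core.isIrr_one⟩ := by
    intro v
    rw [ho, dotProduct_single, mul_one]
  have hodd : ∀ a (g : G), Odd (orderOf g) → phi π f a g = 0 := fun a g hg =>
    ind_odd h (T.supp a) hg
  -- degrees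
  have hd0 := L.dg 0
  have hda := L.dg a
  rw [x0, add_dotProduct, add_dotProduct, L.od] at hd0
  rw [xa, add_dotProduct, add_dotProduct, add_dotProduct, L.od] at hda
  have hky := L.ne y yy
  have hkp := L.ne p pp
  have hks := L.ne s ss
  have hkr := L.ne r rr
  -- the units
  obtain ⟨χy, εy, hεy, hy⟩ := unit_eq_single yy
  obtain ⟨χp, εp, hεp, hp⟩ := unit_eq_single pp
  obtain ⟨χs, εs, hεs, hs⟩ := unit_eq_single ss
  obtain ⟨χr, εr, hεr, hr⟩ := unit_eq_single rr
  have hsq : ∀ {ε : ℤ}, ε = 1 ∨ ε = -1 → ε ≠ 0 := by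
    rintro ε (rfl | rfl) <;> norm_num
  -- coordinates
  have hco : ∀ (v w : IrrCharacter G → ℤ) (χ : IrrCharacter G) (ε : ℤ), w = Pi.single χ ε →
      v ⬝ᵥ w ≠ 0 → v χ ≠ 0 := by
    rintro v w χ ε rfl hne h0
    apply hne
    rw [dotProduct_single, h0, zero_mul]
  have x0y : x 0 ⬝ᵥ y = 1 := by
    rw [x0, add_dotProduct, add_dotProduct, dotProduct_comm o y, dotProduct_comm p y, yo, yy, yp]
    norm_num
  have x0p : x 0 ⬝ᵥ p = 1 := by
    rw [x0, add_dotProduct, add_dotProduct, dotProduct_comm o p, po, pp, yp]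
    norm_num
  have xay : x a ⬝ᵥ y = 1 := by
    rw [xa, add_dotProduct, add_dotProduct, add_dotProduct, dotProduct_comm o y,
      dotProduct_comm s y, dotProduct_comm r y, yo, yy, ys, yr]
    norm_num
  have xas : x a ⬝ᵥ s = 1 := by
    rw [xa, add_dotProduct, add_dotProduct, add_dotProduct, dotProduct_comm o s,
      dotProduct_comm r s, so, ss, ys, sr]
    norm_num
  have xar : x a ⬝ᵥ r = 1 := by
    rw [xa, add_dotProduct, add_dotProduct, add_dotProduct, dotProduct_comm o r,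
      ro, rr, yr, sr]
    norm_num
  have xao : x a ⬝ᵥ o = 1 := by
    rw [L.one]; rcases ha with rfl | rfl | rfl <;> rfl
  have x0o : x 0 ⬝ᵥ o = 1 := L.one 0
  -- membership in the principal block
  have hB0 := mem_principal_of_norm_le_three hM (hodd 0) (x 0) (hx 0)
    (by
      have h1 : x 0 ⬝ᵥ x 0 = 3 := L.gram 0 0
      rw [← h1, dotProduct]
      exact le_of_eq (Finset.sum_congr rfl fun χ _ => sq _))
    (χ₀ := ⟨1, Core.isIrr_one⟩) (by rw [← hvo (x 0), x0o]; norm_num) (one_mem' hM)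
  have hyB : χy ∈ principalBlock M G := hB0 χy (hco _ _ _ _ hy (by rw [x0y]; norm_num))
  have hpB : χp ∈ principalBlock M G := hB0 χp (hco _ _ _ _ hp (by rw [x0p]; norm_num))
  have hxay : x a χy = εy := by
    have h1 : x a χy * εy = 1 := by rw [← dotProduct_single, ← hy, xay]
    rcases hεy with h2 | h2 <;> rw [h2] at h1 ⊢ <;> linarith
  have hydeg : y ⬝ᵥ deg = εy * deg χy := by rw [hy, single_dotProduct]
  have hy1 : (⟨1, Core.isIrr_one⟩ : IrrCharacter G) ≠ χy := by
    intro h1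
    rw [hvo, h1, hy, Pi.single_eq_same] at yo
    exact hsq hεy yo
  have hBa := mem_principal_of_norm_le_four hM (hodd a) (x a) (hx a)
    (by
      have h1 : x a ⬝ᵥ x a = 4 := by
        rw [L.gram]; rcases ha with rfl | rfl | rfl <;> rfl
      rw [← h1, dotProduct]
      exact le_of_eq (Finset.sum_congr rfl fun χ _ => sq _))
    (χ₀ := ⟨1, Core.isIrr_one⟩) (χ₁ := χy) hy1 (by rw [← hvo (x a), xao]; norm_num)
    (one_mem' hM)
    (by rw [hxay]; exact hsq hεy) hyB
    (by
      rw [← hvo (x a), xao, hxay, (hdeg χy).2]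
      intro h1
      have h2 : ((1 + εy * deg χy : ℤ) : ℂ) = ((0 : ℤ) : ℂ) := by
        push_cast
        rw [← h1]
        simp
      have h3 : 1 + εy * deg χy = 0 := by exact_mod_cast h2
      rw [← hydeg] at h3
      apply hkp
      linarith)
  have hsB : χs ∈ principalBlock M G := hBa χs (hco _ _ _ _ hs (by rw [xas]; norm_num))
  have hrB : χr ∈ principalBlock M G := hBa χr (hco _ _ _ _ hr (by rw [xar]; norm_num))
  have hInB : ∀ (v : IrrCharacter G → ℤ) (χ : IrrCharacter G) (ε : ℤ), v = Pi.single χ ε →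
      (ε = 1 ∨ ε = -1) → χ ∈ principalBlock M G → InB (principalBlock M G) (ch v) := by
    rintro v χ ε rfl hε hχ
    refine ⟨χ, hχ, ?_⟩
    rw [ch_single]
    rcases hε with rfl | rfl
    · left; rw [one_smul]
    · right; rw [neg_smul, one_smul]
  -- values at `t`
  have hval : ∀ v : IrrCharacter G → ℤ, InB (principalBlock M G) (ch v) →
      ch v t = ((tau x ⬝ᵥ v : ℤ) : ℂ) := by
    intro v hv
    have h1 := classInner_tau h M hM hv (fun q => ∑ a, (wrTau a : ℂ) * f a q) (by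
      intro q
      by_cases hq : q = z
      · rw [if_pos hq, hq, hQ, T.tau_z]; norm_num
      · rw [if_neg hq]; exact T.tau_ne q hq)
    rw [phi_tau hx, classInner_ch] at h1
    have h2 := congrArg conj h1
    rw [Complex.conj_conj, map_intCast] at h2
    exact h2.symm
  -- nontriviality
  have hlin : ∀ (v : IrrCharacter G → ℤ) (χ : IrrCharacter G) (ε : ℤ), v = Pi.single χ ε →
      (ε = 1 ∨ ε = -1) → v ⬝ᵥ o = 0 → -(v ⬝ᵥ deg) ≠ 1 := by
    rintro v χ ε rfl hε h0 h1
    rw [single_dotProduct] at h1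
    have h2 : deg χ = 1 := by
      have := (hdeg χ).1
      rcases hε with rfl | rfl <;> omega
    have h3 : (χ : G → ℂ) = 1 := SmallSimple.SelfCentSum.eq_one_of_apply_one hprime χ.2 (by
      rw [(hdeg χ).2, h2]; norm_num)
    have h4 : χ = ⟨1, Core.isIrr_one⟩ := Subtype.ext h3
    rw [hvo, h4, Pi.single_eq_same] at h0
    exact hsq hε h0
  have iy := hInB y χy εy hy hεy hyB
  have ip := hInB p χp εp hp hεp hpB
  have is' := hInB s χs εs hs hεs hsB
  have ir := hInB r χr εr hr hεr hrB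
  have c1 : ∀ v w : IrrCharacter G → ℤ, v ⬝ᵥ w = 0 → classInner (ch v) (ch w) = 0 := by
    intro v w h1
    rw [classInner_ch, h1, Int.cast_zero]
  have c2 : ∀ v : IrrCharacter G → ℤ, v ⬝ᵥ o = 0 → classInner (ch v) 1 = 0 := by
    intro v h1
    rw [← hcho]; exact c1 v o h1
  have hphi0 : phi π f 0 = 1 + ch y + ch p := by
    rw [hx, x0, ch_add, ch_add, hcho]
  have hphia : phi π f a = 1 + ch y + ch s + ch r := by
    rw [hx, xa, ch_add, ch_add, ch_add, hcho]
  -- the relation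
  have hrel : (1 : ℂ) + 9 / ((y ⬝ᵥ deg : ℤ) : ℂ) +
      ((tau x ⬝ᵥ s : ℤ) : ℂ) ^ 2 / ((s ⬝ᵥ deg : ℤ) : ℂ) +
      ((tau x ⬝ᵥ r : ℤ) : ℂ) ^ 2 / ((r ⬝ᵥ deg : ℤ) : ℂ) = 0 := by
    have h1 := relation h (T.supp a) (T.pair a ha) (Finset.univ : Finset (Fin 4)) (fun _ => 1)
      ![1, ch y, ch s, ch r] (by
        intro j _
        fin_cases j
        · exact signedIrr_one
        · exact iy.signedIrr
        · exact is'.signedIrr
        · exact ir.signedIrr) (by
        have h2 : indFun (Subgroup.centralizer ({t} : Set G)) (fun x => f a (π x)) =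
          1 + ch y + ch s + ch r := hphia
        rw [h2]
        funext g
        simp [Fin.sum_univ_four])
    simp only [Fin.sum_univ_four] at h1
    simp only [Matrix.cons_val_zero, Matrix.cons_val_one, Matrix.cons_val, Pi.one_apply, one_mul,
      hch1, hval y iy, hval s is', hval r ir, ty] at h1
    rw [← h1]
    norm_num
  refine ⟨a, ch y, ch p, ch s, ch r, y ⬝ᵥ deg, -(s ⬝ᵥ deg), -(r ⬝ᵥ deg), -(tau x ⬝ᵥ s),
    -(tau x ⬝ᵥ r), ha, iy, ip, is', ir, c2 y yo, c2 p po, c2 s so, c2 r ro, c1 _ _ yp, c1 _ _ ys,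
    c1 _ _ yr, c1 _ _ sr, hphi0, hphia, hch1 y, ?_, ?_, ?_, ?_, ?_, ?_, ?_, hky, ?_, ?_, ?_,
    hlin s χs εs hs hεs so, hlin r χr εr hr hεr ro, by linarith, by linarith, ?_, ?_⟩
  · rw [hval y iy, ty]; norm_num
  · rw [hch1]
    have h1 : p ⬝ᵥ deg = -(1 + y ⬝ᵥ deg) := by linarith
    rw [h1]; push_cast; ring
  · rw [hval p ip, tp]; norm_num
  · rw [hch1]; push_cast; ring
  · rw [hval s is']; push_cast; ring
  · rw [hch1]; push_cast; ring
  · rw [hval r ir]; push_cast; ring
  · intro h1; apply hkp; linarith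
  · exact neg_ne_zero.2 hks
  · exact neg_ne_zero.2 hkr
  · rw [neg_sq, neg_sq]; exact t18
  · have n1 : ((y ⬝ᵥ deg : ℤ) : ℂ) ≠ 0 := by exact_mod_cast hky
    have n2 : ((s ⬝ᵥ deg : ℤ) : ℂ) ≠ 0 := by exact_mod_cast hks
    have n3 : ((r ⬝ᵥ deg : ℤ) : ℂ) ≠ 0 := by exact_mod_cast hkr
    field_simp at hrel
    have h1 : ((((y ⬝ᵥ deg) + 9) * (-(s ⬝ᵥ deg)) * (-(r ⬝ᵥ deg)) : ℤ) : ℂ) =
        (((-(tau x ⬝ᵥ s)) ^ 2 * (y ⬝ᵥ deg) * (-(r ⬝ᵥ deg)) +
          (-(tau x ⬝ᵥ r)) ^ 2 * (y ⬝ᵥ deg) * (-(s ⬝ᵥ deg)) : ℤ) : ℂ) := by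
      push_cast
      linear_combination hrel
    exact_mod_cast h1

end Main

end Cfsg.Agent.Classification.RTwo.WrChar
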