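import Mathlib
import Cfsg.Agent.Classification.RTwo.WrChar
import Cfsg.Agent.Classification.RTwo.WrArith

/-!
# The principal 2-block in the wreathed case: a character of small degree
-/

set_option autoImplicit false

namespace Cfsg.Agent.Classification.RTwo.WrSmall

open Cfsg Cfsg.Agent.Characters Cfsg.Agent.Classification.RTwo.General
open Cfsg.Agent.Classification.BGOrder Cfsg.Agent.Classification.BGBlockB0

universe u

/-- A signed irreducible character in the block, orthogonal to `1`, of small degree. -/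
theorem of_inB {G : Type u} [Group G] [Fintype G] {B : Set (IrrCharacter G)} {X : G → ℂ}
    (hX : InB B X) (h1 : classInner X 1 = 0) {k : ℤ} (hk : X 1 = k) {n : ℕ}
    (hn : |k| < (n : ℤ)) :
    ∃ χ : IrrCharacter G, χ ∈ B ∧ (χ : G → ℂ) ≠ 1 ∧ ∃ d : ℕ, (χ : G → ℂ) 1 = d ∧ d < n := by
  obtain ⟨χ, hχ, hχX⟩ := hX
  obtain ⟨d, hd, hd1⟩ := Core.isIrr_apply_one χ.2
  refine ⟨χ, hχ, ?_, d, hd1, ?_⟩
  · intro hone
    have h2 : classInner (1 : G → ℂ) 1 = 1 := Core.classInner_irr_self Core.isIrr_one
    rcases hχX with h | h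
    · rw [h, hone, h2] at h1
      exact one_ne_zero h1
    · rw [h, hone, Core.classInner_neg_left, h2] at h1
      norm_num at h1
  · have h3 : k = d ∨ k = -d := by
      rcases hχX with h | h
      · left
        rw [h, hd1] at hk
        exact_mod_cast hk.symm
      · right
        rw [h, Pi.neg_apply, hd1] at hk
        exact_mod_cast hk.symm
    rcases h3 with rfl | rfl
    · rw [abs_of_nonneg (by positivity)] at hn
      exact_mod_cast hn
    · rw [abs_neg, abs_of_nonneg (by positivity)] at hn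
      exact_mod_cast hn

/-- **Wreathed case**: the principal 2-block contains a nontrivial character of degree less
than `32`. -/
theorem main {G : Type u} [Group G] [Finite G] [IsSimpleGroup G] {Q : Type} [Group Q] [Fintype Q]
    {t : G} {z : Q} {π : (Subgroup.centralizer ({t} : Set G)) →* Q} {f : Fin 9 → Q → ℂ}
    (h : Hyp t z π) (T : WrTable.Data z f) (hQ : Nat.card Q = 96) (M : Ideal AlgInt)
    (hM : IsPModular 2 M) :
    ∃ χ : IrrCharacter G, χ ∈ principalBlock M G ∧ (χ : G → ℂ) ≠ 1 ∧
      ∃ d : ℕ, (χ : G → ℂ) 1 = d ∧ d < 32 := by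
  let _ : Fintype G := Fintype.ofFinite G
  obtain ⟨a, Y, P, S, R, k, u, v, α, β, -, iY, -, iS, iR, oY, -, oS, oR, -, -, -, -, -, -, dY, -, -,
    -, dS, -, dR, -, hk, -, hu, hv, hu1, hv1, huv, hαβ, h18, hrel⟩ :=
    WrChar.exists_data h T hQ M hM
  rcases WrArith.wr_arith k u v α β hk hu hv hu1 hv1 huv hαβ h18 hrel with h1 | h1 | h1
  · exact of_inB iY oY dY (by exact_mod_cast h1.1)
  · exact of_inB (k := -u) iS oS (by rw [dS]; push_cast; ring) (by rw [abs_neg]; exact_mod_cast h1)
  · exact of_inB (k := -v) iR oR (by rw [dR]; push_cast; ring) (by rw [abs_neg]; exact_mod_cast h1)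

end Cfsg.Agent.Classification.RTwo.WrSmall
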