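import Mathlib
import Cfsg.Agent.SporadicA.M11Sylow
import Cfsg.Agent.Classification.RTwo.EndWR

/-!
# The number of involutions is `31` modulo `32` when `C(t)` is like in `PSU₃(3)`
-/

set_option autoImplicit false
set_option linter.unusedSimpArgs false
set_option linter.unusedSectionVars false

namespace Cfsg.Agent.Classification.RTwo.EndWRIndex

open Cfsg.Agent.Classification.RTwo.EndWR Cfsg.Agent.Classification.RTwo.EndWRGraph

variable {G : Type*} [Group G]

theorem dvd_card [Finite G] {t : G} (L : LocBase G) (ht : orderOf t = 2) :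
    ∃ k, {x : G | orderOf x = 2}.ncard = 31 + 32 * k := by
  classical
  have : Fintype G := Fintype.ofFinite G
  have p2 : Fact (Nat.Prime 2) := ⟨Nat.prime_two⟩
  set I : Finset G := Finset.univ.filter fun x : G => orderOf x = 2 with hI
  set S : Set G := {x | orderOf x = 2 ∧ x ∉ D t} with hS
  have hDI : D t ⊆ I := by
    intro x hx
    rw [hI, Finset.mem_filter]
    exact ⟨Finset.mem_univ _, orderOf_of_mem_D hx⟩
  have hIc : {x : G | orderOf x = 2}.ncard = I.card := by
    rw [← Set.ncard_coe_finset]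
    congr 1
    ext x
    simp [hI]
  have hSc : Nat.card S = (I \ D t).card := by
    change S.ncard = _
    rw [← Set.ncard_coe_finset]
    congr 1
    ext x
    simp [hI, hS]
  have hsum : {x : G | orderOf x = 2}.ncard = 31 + Nat.card S := by
    rw [hIc, hSc, Finset.card_sdiff_of_subset hDI, card_D L ht]
    have := Finset.card_le_card hDI
    rw [card_D L ht] at this
    omega
  -- the Sylow 2-subgroup of `C(t)`
  obtain ⟨P⟩ : Nonempty (Sylow 2 (Subgroup.centralizer ({t} : Set G))) := inferInstance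
  have hP : Nat.card P = 32 := by
    rw [Sylow.card_eq_multiplicity, L.card t ht]
    have h1 : (96 : ℕ) = 2 ^ 5 * 3 := by norm_num
    have h2 : (96 : ℕ).factorization 2 = 5 := by
      rw [h1, Nat.factorization_mul (by norm_num) (by norm_num), Nat.factorization_pow]
      simp [Nat.Prime.factorization_self Nat.prime_two, Nat.factorization_eq_zero_of_not_dvd]
    rw [h2]; norm_num
  have ho : ∀ z w : G, orderOf (z * w * z⁻¹) = orderOf w := fun z w => (MulAut.conj z).orderOf_eq w
  have hinv : ∀ x : Subgroup.centralizer ({t} : Set G), ∀ y ∈ S, (x : G) * y * (x : G)⁻¹ ∈ S := by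
    rintro ⟨x, hx⟩ y ⟨hy, hyD⟩
    refine ⟨by rw [ho, hy], fun h => hyD ?_⟩
    have hxt : x * t = t * x := Subgroup.mem_centralizer_singleton_iff.1 hx
    obtain ⟨a, ha, hya⟩ := mem_D.1 h
    obtain ⟨ha1, ha2⟩ := mem_N.1 ha
    obtain ⟨_, ha3⟩ := mem_N.1 hya
    refine mem_D.2 ⟨x⁻¹ * a * x, mem_N.2 ⟨?_, ?_⟩, mem_N.2 ⟨hy, ?_⟩⟩
    · have := ho x⁻¹ a
      rw [inv_inv] at this
      rw [this, ha1]
    · have := conj_comm (x := x⁻¹) ha2
      have e : x⁻¹ * t * x⁻¹⁻¹ = t := by rw [inv_inv, mul_assoc, ← hxt, inv_mul_cancel_left]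
      rwa [e, inv_inv] at this
    · have := conj_comm (x := x⁻¹) ha3
      have e : x⁻¹ * (x * y * x⁻¹) * x⁻¹⁻¹ = y := by group
      change Commute (x⁻¹ * (x * y * x⁻¹) * x⁻¹⁻¹) (x⁻¹ * a * x⁻¹⁻¹) at this
      rwa [e, inv_inv] at this
  let act : MulAction P S :=
    { smul := fun g x => ⟨((g : Subgroup.centralizer ({t} : Set G)) : G) * x.1 *
        ((g : Subgroup.centralizer ({t} : Set G)) : G)⁻¹, hinv g x.1 x.2⟩
      one_smul := fun x => Subtype.ext (by
        change ((1 : G)) * x.1 * (1 : G)⁻¹ = x.1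
        simp)
      mul_smul := fun a b x => Subtype.ext (by
        change ((a : Subgroup.centralizer ({t} : Set G)) : G) * ((b : Subgroup.centralizer ({t} : Set G)) : G) * x.1 *
          (((a : Subgroup.centralizer ({t} : Set G)) : G) * ((b : Subgroup.centralizer ({t} : Set G)) : G))⁻¹ =
          ((a : Subgroup.centralizer ({t} : Set G)) : G) * (((b : Subgroup.centralizer ({t} : Set G)) : G) * x.1 *
          ((b : Subgroup.centralizer ({t} : Set G)) : G)⁻¹) * ((a : Subgroup.centralizer ({t} : Set G)) : G)⁻¹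
        group) }
  have hdvd : 32 ∣ Nat.card S := by
    rw [← hP]
    refine Cfsg.Agent.SporadicA.M11Sylow.card_dvd_of_free (P := P) (T := S) ?_
    intro g x hgx
    by_contra hg
    -- some power of `g` is an involution
    obtain ⟨k, hk⟩ := (IsPGroup.iff_orderOf.1 P.isPGroup') g
    have hk0 : k ≠ 0 := by
      rintro rfl
      rw [pow_zero, orderOf_eq_one_iff] at hk
      exact hg hk
    obtain ⟨j, rfl⟩ := Nat.exists_eq_succ_of_ne_zero hk0
    set c : G := ((g : Subgroup.centralizer ({t} : Set G)) : G) with hc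
    have hoc : orderOf c = 2 ^ (j + 1) := by
      rw [hc, Subgroup.orderOf_coe, Subgroup.orderOf_coe, hk]
    have hcx : c * x.1 = x.1 * c := by
      have h1 : c * x.1 * c⁻¹ = x.1 := congrArg Subtype.val hgx
      rwa [mul_inv_eq_iff_eq_mul] at h1
    have hct : c * t = t * c := Subgroup.mem_centralizer_singleton_iff.1
      (g : Subgroup.centralizer ({t} : Set G)).2
    have hoi : orderOf (c ^ 2 ^ j) = 2 := by
      rw [orderOf_pow' _ (by positivity), hoc]
      have : Nat.gcd (2 ^ (j + 1)) (2 ^ j) = 2 ^ j := Nat.gcd_eq_right (pow_dvd_pow 2 (Nat.le_succ j))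
      rw [this, pow_succ, Nat.mul_div_cancel_left _ (by positivity)]
    apply x.2.2
    have hcx' : Commute c x.1 := hcx
    have hct' : Commute c t := hct
    exact mem_D.2 ⟨c ^ 2 ^ j, mem_N.2 ⟨hoi, hct'.pow_left _⟩, mem_N.2 ⟨x.2.1, (hcx'.pow_left _).symm⟩⟩
  obtain ⟨k, hk⟩ := hdvd
  exact ⟨k, by rw [hsum, hk]⟩

/-- The index of `C(t)` is `31` modulo `32`. -/
theorem index_mod [Finite G] {t : G} (ht : orderOf t = 2) (hone : ∀ s : G, orderOf s = 2 → IsConj t s)
    (L : LocAt t) : (Subgroup.centralizer ({t} : Set G)).index % 32 = 31 := by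
  have hL : ∀ s : G, orderOf s = 2 → LocAt s := by
    intro s hs
    obtain ⟨x, hx⟩ := isConj_iff.1 (hone s hs)
    rw [← hx]
    exact L.conj x
  obtain ⟨k, hk⟩ := dvd_card (t := t) ⟨fun s hs => (hL s hs).card, fun s hs => (hL s hs).seven,
    fun s a b hs => (hL s hs).nc a b, fun s a b hs => (hL s hs).cm a b, fun s a g hs => (hL s hs).three a g⟩ ht
  have htot : {x : G | orderOf x = 2}.ncard = (Subgroup.centralizer ({t} : Set G)).index := by
    rw [← ncard_conj]
    congr 1
    ext x
    refine ⟨hone x, ?_⟩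
    intro h
    obtain ⟨y, rfl⟩ := isConj_iff.1 h
    change orderOf (y * t * y⁻¹) = 2
    rw [orderOf_conj, ht]
  rw [← htot, hk]
  omega

end Cfsg.Agent.Classification.RTwo.EndWRIndex
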