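import Mathlib
import Cfsg.Agent.Classification.RTwo.General
import Cfsg.Agent.Classification.RTwo.WrChar
import Cfsg.Agent.Classification.RTwo.WrArith

/-!
# The index of `C(t)` in the wreathed case with trivial core

`relation'` is the class algebra relation with its right hand side; `index_eq` computes the index 63.
-/

set_option autoImplicit false
set_option linter.unusedSectionVars false

namespace Cfsg.Agent.Classification.RTwo.WrOrder

open Cfsg Cfsg.Agent.Characters Cfsg.Agent.Classification.BGIsometry
  Cfsg.Agent.Classification.BGOrder Cfsg.Agent.Classification.BGSplit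
  Cfsg.Agent.Classification.BGBlockB0 Cfsg.Agent.Classification.RTwo.General
  Cfsg.Agent.Classification.RTwo.WrChar

universe u v

section Relation

variable {G : Type u} [Group G] [Fintype G] {Q : Type v} [Group Q] {t : G} {z : Q}
  {π : (Subgroup.centralizer ({t} : Set G)) →* Q}

/-- The class algebra relation for a decomposition of the induced function. -/
theorem relation' (h : Hyp t z π) [Fintype (Subgroup.centralizer ({t} : Set G))]
    [DecidablePred fun x : G => orderOf x = 2]
    [DecidablePred fun x : Subgroup.centralizer ({t} : Set G) => orderOf x = 2]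
    {b : Q → ℂ} (hb : ∀ q, b q ≠ 0 → z ∈ Subgroup.zpowers q)
    {ι : Type*} (J : Finset ι) (c : ι → ℂ) (X : ι → G → ℂ) (hX : ∀ j ∈ J, SignedIrr (X j))
    (hind : indFun (Subgroup.centralizer ({t} : Set G)) (fun x => b (π x)) =
      fun g => ∑ j ∈ J, c j * X j g) :
    ((Subgroup.centralizer ({t} : Set G)).index : ℂ) * ∑ j ∈ J, c j * (X j t ^ 2 / X j 1) =
    ∑ x ∈ Finset.univ.filter (fun x : Subgroup.centralizer ({t} : Set G) => orderOf x = 2),
      ∑ y ∈ Finset.univ.filter (fun x : Subgroup.centralizer ({t} : Set G) => orderOf x = 2),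
        b (π (x * y)) := by
  classical
  -- make the characters honest
  let s : ι → ℂ := fun j => if IsIrrCharacter G (X j) then 1 else -1
  have hs : ∀ j ∈ J, (s j = 1 ∧ IsIrrCharacter G (X j)) ∨ (s j = -1 ∧ IsIrrCharacter G (-X j)) := by
    intro j hj
    by_cases hj2 : IsIrrCharacter G (X j)
    · exact Or.inl ⟨if_pos hj2, hj2⟩
    · exact Or.inr ⟨if_neg hj2, (hX j hj).resolve_left hj2⟩
  have hind' : indFun (Subgroup.centralizer ({t} : Set G)) (fun x => b (π x)) =
      fun g => ∑ j ∈ J, (c j * s j) * ((fun j g => s j * X j g) j g) := by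
    rw [hind]
    funext g
    refine Finset.sum_congr rfl fun j hj => ?_
    rcases hs j hj with ⟨h1, -⟩ | ⟨h1, -⟩ <;> · simp only [h1]; ring
  have hirr : ∀ j ∈ J, IsIrrCharacter G ((fun j g => s j * X j g) j) := by
    intro j hj
    rcases hs j hj with ⟨h1, h2⟩ | ⟨h1, h2⟩
    · have : (fun g => s j * X j g) = X j := by funext g; rw [h1, one_mul]
      simpa only [this] using h2
    · have : (fun g => s j * X j g) = -X j := by
        funext g; rw [h1, neg_one_mul]; rfl
      simpa only [this] using h2
  have key := sum_pairs_eq t h.orderOf_t h.one_class _ rfl (fun x => b (π x)) J _ _ hirr hind'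
  have hsum : ∑ j ∈ J, (c j * s j) * (((fun j g => s j * X j g) j t) ^ 2 /
      ((fun j g => s j * X j g) j 1)) = ∑ j ∈ J, c j * (X j t ^ 2 / X j 1) := by
    refine Finset.sum_congr rfl fun j hj => ?_
    rcases hs j hj with ⟨h1, -⟩ | ⟨h1, -⟩ <;> · simp only [h1]; ring
  rw [hsum, sum_pairs_restrict t h.orderOf_t _ rfl (fun x => b (π x)) (supp_comp h hb)] at key
  exact key.symm

end Relation

section Main

variable {G : Type u} [Group G] [Fintype G] {Q : Type} [Group Q] [Fintype Q] {t : G} {z : Q}
  {π : (Subgroup.centralizer ({t} : Set G)) →* Q} {f : Fin 9 → Q → ℂ}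

/-- The sum over the pairs of involutions: only the six pairs with product `t` contribute. -/
theorem pair_sum (h : Hyp t z π) (hinj : Function.Injective π)
    [Fintype (Subgroup.centralizer ({t} : Set G))]
    [DecidablePred fun x : Subgroup.centralizer ({t} : Set G) => orderOf x = 2]
    {b : Q → ℂ} (hp : ∀ p q : Q, p * p = 1 → q * q = 1 → p * q ≠ z → b (p * q) = 0)
    (h7 : {x : G | orderOf x = 2 ∧ Commute x t}.ncard = 7) :
    ∑ x ∈ Finset.univ.filter (fun x : Subgroup.centralizer ({t} : Set G) => orderOf x = 2),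
      ∑ y ∈ Finset.univ.filter (fun x : Subgroup.centralizer ({t} : Set G) => orderOf x = 2),
        b (π (x * y)) = 6 * b z := by
  classical
  set I : Finset (Subgroup.centralizer ({t} : Set G)) := Finset.univ.filter (fun x : (Subgroup.centralizer ({t} : Set G)) => orderOf x = 2) with hI
  have hsq : ∀ x : (Subgroup.centralizer ({t} : Set G)), orderOf x = 2 → x * x = 1 := by
    intro x hx
    have h1 := pow_orderOf_eq_one x
    rwa [hx, sq] at h1
  have hmI : ∀ x : (Subgroup.centralizer ({t} : Set G)), x ∈ I ↔ orderOf x = 2 := by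
    intro x
    simp [hI]
  have htI : tt t ∈ I := by
    rw [hmI, ← Subgroup.orderOf_coe]
    exact h.orderOf_t
  have hIc : I.card = 7 := by
    rw [← h7]
    have : {x : G | orderOf x = 2 ∧ Commute x t} = (fun x : (Subgroup.centralizer ({t} : Set G)) => (x : G)) '' (I : Set (Subgroup.centralizer ({t} : Set G))) := by
      ext x
      simp only [Set.mem_ofPred_eq, Set.mem_image, Finset.mem_coe, hmI]
      constructor
      · rintro ⟨h1, h2⟩
        refine ⟨⟨x, Subgroup.mem_centralizer_singleton_iff.2 h2.eq⟩, ?_, rfl⟩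
        rw [← Subgroup.orderOf_coe]; exact h1
      · rintro ⟨y, hy, rfl⟩
        rw [← Subgroup.orderOf_coe] at hy
        exact ⟨hy, Subgroup.mem_centralizer_singleton_iff.1 y.2⟩
    rw [this, Set.ncard_image_of_injective _ Subtype.val_injective, Set.ncard_coe_finset]
  have hinner : ∀ x ∈ I, ∑ y ∈ I, b (π (x * y)) = if x = tt t then 0 else b z := by
    intro x hx
    have hx2 := (hmI x).1 hx
    have hxx := hsq x hx2
    -- only `y = x t` contributes
    have h1 : ∀ y ∈ I, y ≠ x * tt t → b (π (x * y)) = 0 := by
      intro y hy hne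
      rw [map_mul]
      refine hp _ _ ?_ ?_ ?_
      · rw [← map_mul, hxx, map_one]
      · rw [← map_mul, hsq y ((hmI y).1 hy), map_one]
      · intro hz
        apply hne
        have h2 : π (x * y) = π (tt t) := by rw [map_mul, hz, map_tt h]
        have h3 := hinj h2
        rw [← h3, ← mul_assoc, hxx, one_mul]
    by_cases hxt : x = tt t
    · rw [if_pos hxt]
      refine Finset.sum_eq_zero fun y hy => h1 y hy ?_
      intro hyx
      rw [hxt, tt_mul_tt h] at hyx
      have := (hmI y).1 hy
      rw [hyx, orderOf_one] at this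
      omega
    · rw [if_neg hxt]
      have hmem : x * tt t ∈ I := by
        rw [hmI]
        refine orderOf_eq_prime ?_ ?_
        · rw [sq]
          have hc : tt t * x = x * tt t := tt_comm x
          calc x * tt t * (x * tt t) = x * (tt t * x) * tt t := by group
            _ = (x * x) * (tt t * tt t) := by rw [hc]; group
            _ = 1 := by rw [hxx, tt_mul_tt h, one_mul]
        · intro h2
          apply hxt
          have h3 := tt_mul_tt h
          exact mul_right_cancel (h2.trans h3.symm)
      rw [Finset.sum_eq_single_of_mem _ hmem (fun y hy hne => h1 y hy hne), ← mul_assoc, hxx, one_mul,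
        map_tt h]
  rw [Finset.sum_congr rfl hinner, ← Finset.sum_erase_add _ _ htI, if_pos rfl, add_zero]
  rw [Finset.sum_congr rfl (g := fun _ => b z) (fun x hx => if_neg (Finset.ne_of_mem_erase hx)), Finset.sum_const,
    Finset.card_erase_of_mem htI, hIc]
  simp

/-- **The index**: `n (k-3)² = 48 k (k+1)` together with the list of solutions. -/
theorem index_eq [IsSimpleGroup G] (h : Hyp t z π) (T : WrTable.Data z f)
    (hQ : Nat.card Q = 96) {M : Ideal AlgInt} (hM : IsPModular 2 M) (hinj : Function.Injective π)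
    (hp : ∀ p q : Q, p * p = 1 → q * q = 1 → p * q ≠ z → f 0 (p * q) = 0)
    (h7 : {x : G | orderOf x = 2 ∧ Commute x t}.ncard = 7)
    (hmod : (Subgroup.centralizer ({t} : Set G)).index % 32 = 31) :
    (Subgroup.centralizer ({t} : Set G)).index = 63 := by
  classical
  let _ : Fintype (Subgroup.centralizer ({t} : Set G)) := Fintype.ofFinite _
  obtain ⟨a, Y, P, S, R, k, u, v, α, β, -, hY, hP, -, -, -, -, -, -, -, -, -, -, e0, -, Y1, Yt, P1, Pt, -, -, -, -,
    hk, hk1, hu, hv, hu1, hv1, huv, hαβ, h18, hrel⟩ := exists_data h T hQ M hM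
  set n := (Subgroup.centralizer ({t} : Set G)).index with hn
  have hind : indFun (Subgroup.centralizer ({t} : Set G)) (fun x => f 0 (π x)) =
      fun g => ∑ j ∈ (Finset.univ : Finset (Fin 3)), (1 : ℂ) * (![(1 : G → ℂ), Y, P] j) g := by
    have : phi π f 0 = indFun (Subgroup.centralizer ({t} : Set G)) (fun x => f 0 (π x)) := rfl
    rw [← this, e0]
    funext g
    simp [Fin.sum_univ_three]
  have key := relation' h (b := f 0) (T.supp 0) (Finset.univ : Finset (Fin 3)) (fun _ => 1)
    ![(1 : G → ℂ), Y, P] (by
      intro j _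
      fin_cases j
      · exact signedIrr_one
      · exact hY.signedIrr
      · exact hP.signedIrr) hind
  rw [pair_sum h hinj hp h7, Fin.sum_univ_three] at key
  -- the value at `z`
  have hz : f 0 z = 8 := by
    have h1 : phi π f 0 t = f 0 z := by
      have h2 := indFun_eq h.orderOf_t (β := fun x => f 0 (π x))
        (isClassFunction_comp π (BGSplit.isClass_of_generalized (T.isGen 0))) (supp_comp h (T.supp 0))
        (h := tt t) (Subgroup.mem_zpowers t)
      simp only [map_tt h] at h2
      exact h2
    rw [← h1, e0]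
    simp only [Pi.add_apply, Pi.one_apply, Yt, Pt]
    norm_num
  rw [hz] at key
  simp only [Matrix.cons_val_zero, Matrix.cons_val_one, Matrix.cons_val, Pi.one_apply, Y1, Yt, P1, Pt,
    one_mul] at key
  have hkC : (k : ℂ) ≠ 0 := by exact_mod_cast hk
  have hk1C : (1 + k : ℂ) ≠ 0 := by exact_mod_cast hk1
  have key2 : (n : ℂ) * ((k : ℂ) - 3) ^ 2 = 48 * ((k : ℂ) * (k + 1)) := by
    have e : (1 : ℂ) ^ 2 / 1 + 3 ^ 2 / (k : ℂ) + 4 ^ 2 / -(1 + (k : ℂ)) =
        ((k : ℂ) - 3) ^ 2 / ((k : ℂ) * (1 + k)) := by
      field_simp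
      ring
    rw [e] at key
    field_simp at key
    linear_combination key
  have key3 : (n : ℤ) * (k - 3) ^ 2 = 48 * (k * (k + 1)) := by exact_mod_cast key2
  have := (WrArith.wr_index_sixty_three k u v α β n hk hu hv hu1 hv1 huv hαβ h18 hrel (by omega) key3).2
  exact_mod_cast this

end Main

end Cfsg.Agent.Classification.RTwo.WrOrder
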