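import Mathlib
import Cfsg.Agent.Classification.RTwo.WrOrder
import Cfsg.Agent.Classification.RTwo.EndWRIndex

/-!
# The end of the wreathed case for minimal simple groups
-/

set_option autoImplicit false
set_option linter.unusedSectionVars false

namespace Cfsg.Agent.Classification.RTwo.WrEnd

open Cfsg Cfsg.Agent.Classification.RTwo.General Cfsg.Agent.Classification.RTwo.EndWR

universe u

variable {G : Type u} [Group G] [Finite G] {Q : Type} [Group Q] [Fintype Q] {t : G} {z : Q}
  {π : (Subgroup.centralizer ({t} : Set G)) →* Q} {f : Fin 9 → Q → ℂ}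

/-- `|G : C(t)| = 63`. -/
theorem index_eq [IsSimpleGroup G] (h : Hyp t z π) (T : WrTable.Data z f) (hQ : Nat.card Q = 96)
    (hinj : Function.Injective π) (hp : ∀ p q : Q, p * p = 1 → q * q = 1 → p * q ≠ z → f 0 (p * q) = 0)
    (L : LocAt t) : (Subgroup.centralizer ({t} : Set G)).index = 63 := by
  have : Fintype G := Fintype.ofFinite G
  have p2 : Fact (Nat.Prime 2) := ⟨Nat.prime_two⟩
  obtain ⟨M, hM⟩ := Cfsg.Agent.Blocks.ExistsModular.exists_isPModular Nat.prime_two
  exact WrOrder.index_eq h T hQ hM hinj hp L.seven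
    (EndWRIndex.index_mod h.orderOf_t h.one_class L)

/-- No minimal simple group has an involution centralizer `GU₂(3)`. -/
theorem false_of_minimalSimple (hG : IsMinimalSimple G) (h : Hyp t z π) (T : WrTable.Data z f)
    (hQ : Nat.card Q = 96) (hinj : Function.Injective π)
    (hp : ∀ p q : Q, p * p = 1 → q * q = 1 → p * q ≠ z → f 0 (p * q) = 0) (L : LocAt t) : False := by
  have : IsSimpleGroup G := hG.1
  exact EndWR.false_of_centralizer hG t h.orderOf_t h.one_class (index_eq h T hQ hinj hp L) L

end Cfsg.Agent.Classification.RTwo.WrEnd
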