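import Mathlib

/-!
# A model of the group `GU(2,3)` of order `96`

It is the complex reflection group `G₈`, generated by two reflections of order four satisfying
the braid relation; its elements are `96` explicit matrices over the Gaussian integers.
-/

set_option autoImplicit false

namespace Cfsg.Agent.Classification.RTwo.WrModel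

/-- A `2 × 2` matrix over the Gaussian integers. -/
@[ext]
structure M2 where
  a : GaussianInt
  b : GaussianInt
  c : GaussianInt
  d : GaussianInt
deriving DecidableEq

namespace M2

instance : Mul M2 := ⟨fun x y => ⟨x.a * y.a + x.b * y.c, x.a * y.b + x.b * y.d,
  x.c * y.a + x.d * y.c, x.c * y.b + x.d * y.d⟩⟩

instance : One M2 := ⟨⟨1, 0, 0, 1⟩⟩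

theorem mul_def (x y : M2) : x * y = ⟨x.a * y.a + x.b * y.c, x.a * y.b + x.b * y.d,
  x.c * y.a + x.d * y.c, x.c * y.b + x.d * y.d⟩ := rfl

theorem one_def : (1 : M2) = ⟨1, 0, 0, 1⟩ := rfl

instance : Monoid M2 where
  mul_assoc x y z := by
    simp only [mul_def]
    congr 1 <;> ring
  one_mul x := by
    simp only [mul_def, one_def]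
    ext <;> simp
  mul_one x := by
    simp only [mul_def, one_def]
    ext <;> simp

/-- The determinant. -/
def det (x : M2) : GaussianInt := x.a * x.d - x.b * x.c

/-- The trace. -/
def tr (x : M2) : GaussianInt := x.a + x.d

/-- The inverse, when the determinant is a unit. -/
def inv' (x : M2) : M2 :=
  ⟨star x.det * x.d, -(star x.det * x.b), -(star x.det * x.c), star x.det * x.a⟩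

theorem det_mul (x y : M2) : (x * y).det = x.det * y.det := by
  simp only [mul_def, det]
  ring

theorem det_one : (1 : M2).det = 1 := by
  simp [one_def, det]

end M2

/-- The elements. -/
def elts : List M2 :=
  [⟨⟨1, 0⟩, ⟨0, 0⟩, ⟨0, 0⟩, ⟨1, 0⟩⟩, ⟨⟨0, 1⟩, ⟨1, 0⟩, ⟨0, 0⟩, ⟨1, 0⟩⟩,
    ⟨⟨-1, 0⟩, ⟨1, 1⟩, ⟨0, 0⟩, ⟨1, 0⟩⟩, ⟨⟨0, -1⟩, ⟨0, 1⟩, ⟨0, 0⟩, ⟨1, 0⟩⟩,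
    ⟨⟨-1, 0⟩, ⟨1, 0⟩, ⟨-1, 0⟩, ⟨0, 0⟩⟩, ⟨⟨0, -1⟩, ⟨0, 0⟩, ⟨0, -1⟩, ⟨-1, 0⟩⟩,
    ⟨⟨1, 0⟩, ⟨0, -1⟩, ⟨1, 0⟩, ⟨-1, -1⟩⟩, ⟨⟨0, 1⟩, ⟨1, -1⟩, ⟨0, 1⟩, ⟨0, -1⟩⟩,
    ⟨⟨0, 0⟩, ⟨-1, 0⟩, ⟨1, 0⟩, ⟨-1, 0⟩⟩, ⟨⟨0, 0⟩, ⟨-1, 0⟩, ⟨0, 1⟩, ⟨0, 0⟩⟩,
    ⟨⟨0, 0⟩, ⟨-1, 0⟩, ⟨-1, 0⟩, ⟨0, 1⟩⟩, ⟨⟨0, 0⟩, ⟨-1, 0⟩, ⟨0, -1⟩, ⟨-1, 1⟩⟩,
    ⟨⟨1, 0⟩, ⟨-1, -1⟩, ⟨1, -1⟩, ⟨-1, 0⟩⟩, ⟨⟨0, 1⟩, ⟨0, -1⟩, ⟨1, 1⟩, ⟨0, -1⟩⟩,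
    ⟨⟨-1, 0⟩, ⟨0, 0⟩, ⟨-1, 1⟩, ⟨1, 0⟩⟩, ⟨⟨0, -1⟩, ⟨-1, 0⟩, ⟨-1, -1⟩, ⟨0, 1⟩⟩,
    ⟨⟨0, 1⟩, ⟨1, 0⟩, ⟨0, 1⟩, ⟨1, -1⟩⟩, ⟨⟨-1, 0⟩, ⟨1, 1⟩, ⟨-1, 0⟩, ⟨1, 0⟩⟩,
    ⟨⟨0, -1⟩, ⟨0, 1⟩, ⟨0, -1⟩, ⟨0, 0⟩⟩, ⟨⟨1, 0⟩, ⟨0, 0⟩, ⟨1, 0⟩, ⟨0, -1⟩⟩,
    ⟨⟨-1, -1⟩, ⟨0, 1⟩, ⟨-1, 0⟩, ⟨0, 1⟩⟩, ⟨⟨1, -1⟩, ⟨-1, 0⟩, ⟨0, -1⟩, ⟨-1, 1⟩⟩,
    ⟨⟨1, 1⟩, ⟨0, -1⟩, ⟨1, 0⟩, ⟨-1, 0⟩⟩, ⟨⟨-1, 1⟩, ⟨1, 0⟩, ⟨0, 1⟩, ⟨0, 0⟩⟩,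
    ⟨⟨-1, 0⟩, ⟨0, 0⟩, ⟨0, 0⟩, ⟨-1, 0⟩⟩, ⟨⟨0, -1⟩, ⟨-1, 0⟩, ⟨0, 0⟩, ⟨-1, 0⟩⟩,
    ⟨⟨1, 0⟩, ⟨-1, -1⟩, ⟨0, 0⟩, ⟨-1, 0⟩⟩, ⟨⟨0, 1⟩, ⟨0, -1⟩, ⟨0, 0⟩, ⟨-1, 0⟩⟩,
    ⟨⟨1, 0⟩, ⟨-1, 0⟩, ⟨1, 0⟩, ⟨0, 0⟩⟩, ⟨⟨0, 1⟩, ⟨0, 0⟩, ⟨0, 1⟩, ⟨1, 0⟩⟩,
    ⟨⟨-1, 0⟩, ⟨0, 1⟩, ⟨-1, 0⟩, ⟨1, 1⟩⟩, ⟨⟨0, -1⟩, ⟨-1, 1⟩, ⟨0, -1⟩, ⟨0, 1⟩⟩,
    ⟨⟨0, 0⟩, ⟨1, 0⟩, ⟨-1, 0⟩, ⟨1, 0⟩⟩, ⟨⟨0, 0⟩, ⟨1, 0⟩, ⟨0, -1⟩, ⟨0, 0⟩⟩,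
    ⟨⟨0, 0⟩, ⟨1, 0⟩, ⟨1, 0⟩, ⟨0, -1⟩⟩, ⟨⟨0, 0⟩, ⟨1, 0⟩, ⟨0, 1⟩, ⟨1, -1⟩⟩,
    ⟨⟨-1, 0⟩, ⟨1, 1⟩, ⟨-1, 1⟩, ⟨1, 0⟩⟩, ⟨⟨0, -1⟩, ⟨0, 1⟩, ⟨-1, -1⟩, ⟨0, 1⟩⟩,
    ⟨⟨1, 0⟩, ⟨0, 0⟩, ⟨1, -1⟩, ⟨-1, 0⟩⟩, ⟨⟨0, 1⟩, ⟨1, 0⟩, ⟨1, 1⟩, ⟨0, -1⟩⟩,
    ⟨⟨0, -1⟩, ⟨-1, 0⟩, ⟨0, -1⟩, ⟨-1, 1⟩⟩, ⟨⟨1, 0⟩, ⟨-1, -1⟩, ⟨1, 0⟩, ⟨-1, 0⟩⟩,
    ⟨⟨0, 1⟩, ⟨0, -1⟩, ⟨0, 1⟩, ⟨0, 0⟩⟩, ⟨⟨-1, 0⟩, ⟨0, 0⟩, ⟨-1, 0⟩, ⟨0, 1⟩⟩,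
    ⟨⟨1, 1⟩, ⟨0, -1⟩, ⟨1, 0⟩, ⟨0, -1⟩⟩, ⟨⟨-1, 1⟩, ⟨1, 0⟩, ⟨0, 1⟩, ⟨1, -1⟩⟩,
    ⟨⟨-1, -1⟩, ⟨0, 1⟩, ⟨-1, 0⟩, ⟨1, 0⟩⟩, ⟨⟨1, -1⟩, ⟨-1, 0⟩, ⟨0, -1⟩, ⟨0, 0⟩⟩,
    ⟨⟨0, 1⟩, ⟨0, 0⟩, ⟨1, 1⟩, ⟨0, -1⟩⟩, ⟨⟨-1, 0⟩, ⟨0, 1⟩, ⟨-1, 1⟩, ⟨1, 0⟩⟩,
    ⟨⟨0, -1⟩, ⟨-1, 1⟩, ⟨-1, -1⟩, ⟨0, 1⟩⟩, ⟨⟨1, 0⟩, ⟨-1, 0⟩, ⟨1, -1⟩, ⟨-1, 0⟩⟩,
    ⟨⟨0, -1⟩, ⟨0, 1⟩, ⟨-1, 0⟩, ⟨1, 1⟩⟩, ⟨⟨1, 0⟩, ⟨0, 0⟩, ⟨0, -1⟩, ⟨0, 1⟩⟩,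
    ⟨⟨0, 1⟩, ⟨1, 0⟩, ⟨1, 0⟩, ⟨0, 0⟩⟩, ⟨⟨-1, 0⟩, ⟨1, 1⟩, ⟨0, 1⟩, ⟨1, 0⟩⟩,
    ⟨⟨0, 0⟩, ⟨0, -1⟩, ⟨0, -1⟩, ⟨-1, 0⟩⟩, ⟨⟨0, 0⟩, ⟨0, -1⟩, ⟨1, 0⟩, ⟨-1, -1⟩⟩,
    ⟨⟨0, 0⟩, ⟨0, -1⟩, ⟨0, 1⟩, ⟨0, -1⟩⟩, ⟨⟨0, 0⟩, ⟨0, -1⟩, ⟨-1, 0⟩, ⟨0, 0⟩⟩,
    ⟨⟨0, -1⟩, ⟨-1, 1⟩, ⟨0, 0⟩, ⟨0, 1⟩⟩, ⟨⟨1, 0⟩, ⟨-1, 0⟩, ⟨0, 0⟩, ⟨0, 1⟩⟩,
    ⟨⟨0, 1⟩, ⟨0, 0⟩, ⟨0, 0⟩, ⟨0, 1⟩⟩, ⟨⟨-1, 0⟩, ⟨0, 1⟩, ⟨0, 0⟩, ⟨0, 1⟩⟩,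
    ⟨⟨1, 0⟩, ⟨0, -1⟩, ⟨0, -1⟩, ⟨0, 0⟩⟩, ⟨⟨0, 1⟩, ⟨1, -1⟩, ⟨1, 0⟩, ⟨0, -1⟩⟩,
    ⟨⟨-1, 0⟩, ⟨1, 0⟩, ⟨0, 1⟩, ⟨1, -1⟩⟩, ⟨⟨0, -1⟩, ⟨0, 0⟩, ⟨-1, 0⟩, ⟨1, 0⟩⟩,
    ⟨⟨-1, 1⟩, ⟨1, 0⟩, ⟨0, 1⟩, ⟨0, -1⟩⟩, ⟨⟨-1, -1⟩, ⟨0, 1⟩, ⟨-1, 0⟩, ⟨0, 0⟩⟩,
    ⟨⟨1, -1⟩, ⟨-1, 0⟩, ⟨0, -1⟩, ⟨-1, 0⟩⟩, ⟨⟨1, 1⟩, ⟨0, -1⟩, ⟨1, 0⟩, ⟨-1, -1⟩⟩,
    ⟨⟨0, -1⟩, ⟨0, 0⟩, ⟨-1, -1⟩, ⟨0, 1⟩⟩, ⟨⟨1, 0⟩, ⟨0, -1⟩, ⟨1, -1⟩, ⟨-1, 0⟩⟩,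
    ⟨⟨0, 1⟩, ⟨1, -1⟩, ⟨1, 1⟩, ⟨0, -1⟩⟩, ⟨⟨-1, 0⟩, ⟨1, 0⟩, ⟨-1, 1⟩, ⟨1, 0⟩⟩,
    ⟨⟨0, 1⟩, ⟨0, -1⟩, ⟨1, 0⟩, ⟨-1, -1⟩⟩, ⟨⟨-1, 0⟩, ⟨0, 0⟩, ⟨0, 1⟩, ⟨0, -1⟩⟩,
    ⟨⟨0, -1⟩, ⟨-1, 0⟩, ⟨-1, 0⟩, ⟨0, 0⟩⟩, ⟨⟨1, 0⟩, ⟨-1, -1⟩, ⟨0, -1⟩, ⟨-1, 0⟩⟩,
    ⟨⟨0, 0⟩, ⟨0, 1⟩, ⟨0, 1⟩, ⟨1, 0⟩⟩, ⟨⟨0, 0⟩, ⟨0, 1⟩, ⟨-1, 0⟩, ⟨1, 1⟩⟩,
    ⟨⟨0, 0⟩, ⟨0, 1⟩, ⟨0, -1⟩, ⟨0, 1⟩⟩, ⟨⟨0, 0⟩, ⟨0, 1⟩, ⟨1, 0⟩, ⟨0, 0⟩⟩,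
    ⟨⟨0, 1⟩, ⟨1, -1⟩, ⟨0, 0⟩, ⟨0, -1⟩⟩, ⟨⟨-1, 0⟩, ⟨1, 0⟩, ⟨0, 0⟩, ⟨0, -1⟩⟩,
    ⟨⟨0, -1⟩, ⟨0, 0⟩, ⟨0, 0⟩, ⟨0, -1⟩⟩, ⟨⟨1, 0⟩, ⟨0, -1⟩, ⟨0, 0⟩, ⟨0, -1⟩⟩,
    ⟨⟨-1, 0⟩, ⟨0, 1⟩, ⟨0, 1⟩, ⟨0, 0⟩⟩, ⟨⟨0, -1⟩, ⟨-1, 1⟩, ⟨-1, 0⟩, ⟨0, 1⟩⟩,
    ⟨⟨1, 0⟩, ⟨-1, 0⟩, ⟨0, -1⟩, ⟨-1, 1⟩⟩, ⟨⟨0, 1⟩, ⟨0, 0⟩, ⟨1, 0⟩, ⟨-1, 0⟩⟩,
    ⟨⟨1, -1⟩, ⟨-1, 0⟩, ⟨0, -1⟩, ⟨0, 1⟩⟩, ⟨⟨1, 1⟩, ⟨0, -1⟩, ⟨1, 0⟩, ⟨0, 0⟩⟩,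
    ⟨⟨-1, 1⟩, ⟨1, 0⟩, ⟨0, 1⟩, ⟨1, 0⟩⟩, ⟨⟨-1, -1⟩, ⟨0, 1⟩, ⟨-1, 0⟩, ⟨1, 1⟩⟩]

/-- The elements of the quaternion group. -/
def gI : M2 := ⟨⟨1, 0⟩, ⟨-1, -1⟩, ⟨1, -1⟩, ⟨-1, 0⟩⟩
/-- The elements of the quaternion group. -/
def gJ : M2 := ⟨⟨0, 1⟩, ⟨0, 0⟩, ⟨1, 1⟩, ⟨0, -1⟩⟩
/-- The element of order three. -/
def gT : M2 := ⟨⟨-1, 0⟩, ⟨1, 0⟩, ⟨-1, 0⟩, ⟨0, 0⟩⟩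
/-- The reflection of order four. -/
def gS : M2 := ⟨⟨0, 1⟩, ⟨1, 0⟩, ⟨0, 0⟩, ⟨1, 0⟩⟩
/-- The element of order eight. -/
def gD : M2 := ⟨⟨-1, 1⟩, ⟨1, 0⟩, ⟨0, 1⟩, ⟨1, -1⟩⟩

/-- The elements as products. -/
def prods : List M2 :=
  [1, gI, gI * gI, gI * gI * gI, gJ, gI * gJ, gI * gI * gJ, gI * gI * gI * gJ].flatMap fun q =>
    [1, gT, gT * gT].flatMap fun a => [1, gS, gS * gS, gS * gS * gS].map fun b => q * a * b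

set_option maxRecDepth 100000 in
theorem elts_eq : elts = prods := by decide +kernel

set_option maxRecDepth 100000 in
theorem mul_gen : ∀ x ∈ elts, x * gI ∈ elts ∧ x * gJ ∈ elts ∧ x * gT ∈ elts ∧ x * gS ∈ elts := by
  decide +kernel

set_option maxRecDepth 100000 in
theorem inv_mem : ∀ x ∈ elts, x.inv' ∈ elts ∧ x.inv' * x = 1 := by decide +kernel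

set_option maxRecDepth 100000 in
theorem one_mem : (1 : M2) ∈ elts := by decide +kernel

set_option maxRecDepth 100000 in
theorem nodup : elts.Nodup := by decide +kernel

/-- Right multiplication by `y` preserves the set of the elements. -/
def Pres (y : M2) : Prop := ∀ x ∈ elts, x * y ∈ elts

theorem pres_one : Pres 1 := fun x hx => by rwa [mul_one]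

theorem pres_mul {y z : M2} (hy : Pres y) (hz : Pres z) : Pres (y * z) := fun x hx => by
  rw [← mul_assoc]; exact hz _ (hy _ hx)

theorem pres_of_mem {y : M2} (hy : y ∈ elts) : Pres y := by
  have hI : Pres gI := fun x hx => (mul_gen x hx).1
  have hJ : Pres gJ := fun x hx => (mul_gen x hx).2.1
  have hT : Pres gT := fun x hx => (mul_gen x hx).2.2.1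
  have hS : Pres gS := fun x hx => (mul_gen x hx).2.2.2
  rw [elts_eq, prods] at hy
  simp only [List.mem_flatMap, List.mem_map] at hy
  obtain ⟨q, hq, a, ha, b, hb, rfl⟩ := hy
  refine pres_mul (pres_mul ?_ ?_) ?_
  · simp only [List.mem_cons, List.not_mem_nil, or_false] at hq
    rcases hq with rfl | rfl | rfl | rfl | rfl | rfl | rfl | rfl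
    · exact pres_one
    · exact hI
    · exact pres_mul hI hI
    · exact pres_mul (pres_mul hI hI) hI
    · exact hJ
    · exact pres_mul hI hJ
    · exact pres_mul (pres_mul hI hI) hJ
    · exact pres_mul (pres_mul (pres_mul hI hI) hI) hJ
  · simp only [List.mem_cons, List.not_mem_nil, or_false] at ha
    rcases ha with rfl | rfl | rfl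
    · exact pres_one
    · exact hT
    · exact pres_mul hT hT
  · simp only [List.mem_cons, List.not_mem_nil, or_false] at hb
    rcases hb with rfl | rfl | rfl | rfl
    · exact pres_one
    · exact hS
    · exact pres_mul hS hS
    · exact pres_mul (pres_mul hS hS) hS

theorem mul_mem {x y : M2} (hx : x ∈ elts) (hy : y ∈ elts) : x * y ∈ elts := pres_of_mem hy x hx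

/-- The finite set of the elements. -/
def F : Finset M2 := ⟨elts, nodup⟩

theorem mem_F {x : M2} : x ∈ F ↔ x ∈ elts := Iff.rfl

/-- The group of order `96`. -/
abbrev G8 : Type := F

instance : Mul G8 := ⟨fun x y => ⟨x.1 * y.1, mul_mem x.2 y.2⟩⟩
instance : One G8 := ⟨⟨1, one_mem⟩⟩
instance : Inv G8 := ⟨fun x => ⟨x.1.inv', (inv_mem _ x.2).1⟩⟩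

@[simp] theorem coe_mul (x y : G8) : ((x * y : G8) : M2) = x * y := rfl
@[simp] theorem coe_one : ((1 : G8) : M2) = 1 := rfl
@[simp] theorem coe_inv (x : G8) : ((x⁻¹ : G8) : M2) = (x : M2).inv' := rfl

instance : Group G8 where
  mul_assoc x y z := Subtype.ext (mul_assoc (x : M2) y z)
  one_mul x := Subtype.ext (one_mul (x : M2))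
  mul_one x := Subtype.ext (mul_one (x : M2))
  inv_mul_cancel x := Subtype.ext (inv_mem _ x.2).2

theorem coe_pow (x : G8) (n : ℕ) : ((x ^ n : G8) : M2) = (x : M2) ^ n := by
  induction n with
  | zero => rfl
  | succ n ih => rw [pow_succ, pow_succ, coe_mul, ih]

theorem fintype_card : Fintype.card G8 = 96 := by
  rw [Fintype.card_coe]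
  rfl

theorem card : Nat.card G8 = 96 := by rw [Nat.card_eq_fintype_card, fintype_card]

/-- Sums over the group. -/
theorem sum_eq {A : Type*} [AddCommMonoid A] (φ : M2 → A) :
    ∑ q : G8, φ q = (elts.map φ).sum := by
  rw [Finset.sum_coe_sort F φ]
  rfl

/-- The central involution. -/
def zM : M2 := ⟨-1, 0, 0, -1⟩

theorem zM_mem : zM ∈ elts := by decide +kernel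

/-- The central involution. -/
def z : G8 := ⟨zM, zM_mem⟩

end Cfsg.Agent.Classification.RTwo.WrModel
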