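import Mathlib
import Cfsg.Agent.Classification.RTwo.WrModel
import Cfsg.Agent.Classification.RTwo.WrTable
import Cfsg.Agent.Classification.RTwo.Recog
import Cfsg.Agent.Characters.Core
import Cfsg.Agent.Characters.Brauer
import Cfsg.Agent.Characters.GL23

/-!
# The nine generalized characters of the group of order `96`

Everything is a polynomial in the trace and the determinant of the two-dimensional
representation over the Gaussian integers.
-/

set_option autoImplicit false

namespace Cfsg.Agent.Classification.RTwo.WrInst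

open Cfsg Cfsg.Agent.Characters Cfsg.Agent.Characters.Brauer
open Cfsg.Agent.Classification.RTwo.WrModel Cfsg.Agent.Classification.RTwo.WrTable
open scoped ComplexConjugate

/-- The embedding. -/
noncomputable abbrev emb : GaussianInt →+* ℂ := GaussianInt.toComplex

theorem emb_star (x : GaussianInt) : emb (star x) = conj (emb x) := GaussianInt.toComplex_star x

/-- A function with values in the Gaussian integers is a generalized character. -/
def Gen (φ : G8 → GaussianInt) : Prop := IsGeneralizedCharacter G8 fun q => emb (φ q)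

theorem Gen.add {φ ψ : G8 → GaussianInt} (h : Gen φ) (h' : Gen ψ) : Gen fun q => φ q + ψ q := by
  have : (fun q : G8 => emb (φ q + ψ q)) = (fun q => emb (φ q)) + fun q => emb (ψ q) := by
    funext q; rw [map_add]; rfl
  rw [Gen, this]
  exact isGeneralizedCharacter_add h h'

theorem Gen.sub {φ ψ : G8 → GaussianInt} (h : Gen φ) (h' : Gen ψ) : Gen fun q => φ q - ψ q := by
  have : (fun q : G8 => emb (φ q - ψ q)) = (fun q => emb (φ q)) - fun q => emb (ψ q) := by
    funext q; rw [map_sub]; rfl
  rw [Gen, this]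
  exact isGeneralizedCharacter_sub h h'

theorem Gen.mul {φ ψ : G8 → GaussianInt} (h : Gen φ) (h' : Gen ψ) : Gen fun q => φ q * ψ q := by
  have : (fun q : G8 => emb (φ q * ψ q)) = (fun q => emb (φ q)) * fun q => emb (ψ q) := by
    funext q; rw [map_mul]; rfl
  rw [Gen, this]
  exact isGeneralizedCharacter_mul h h'

theorem Gen.one : Gen fun _ => 1 := by
  have : (fun _ : G8 => emb 1) = (1 : G8 → ℂ) := by funext q; rw [map_one]; rfl
  rw [Gen, this]
  exact isGeneralizedCharacter_of_isCharacter Core.isCharacter_one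

/-- The two-dimensional representation. -/
noncomputable def rho : G8 →* Matrix (Fin 2) (Fin 2) ℂ where
  toFun q := !![emb (q : M2).a, emb (q : M2).b; emb (q : M2).c, emb (q : M2).d]
  map_one' := by
    rw [coe_one, M2.one_def]
    simp [Matrix.one_fin_two]
  map_mul' x y := by
    rw [coe_mul, M2.mul_def]
    simp

theorem gen_tr : Gen fun q => (q : M2).tr := by
  have h := GL23.isCharacter_trace rho
  refine isGeneralizedCharacter_of_isCharacter ?_
  convert h using 2 with q
  change _ = Matrix.trace !![emb (q : M2).a, emb (q : M2).b; emb (q : M2).c, emb (q : M2).d]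
  simp [Matrix.trace, M2.tr]

theorem gen_tr_star : Gen fun q => star (q : M2).tr := by
  have h := Core.isCharacter_conj (GL23.isCharacter_trace rho)
  refine isGeneralizedCharacter_of_isCharacter ?_
  convert h using 2 with q
  rw [emb_star]
  congr 1
  change _ = Matrix.trace !![emb (q : M2).a, emb (q : M2).b; emb (q : M2).c, emb (q : M2).d]
  simp [Matrix.trace, M2.tr]

/-- The determinant as a homomorphism. -/
noncomputable def detHom : G8 →* ℂ where
  toFun q := emb (q : M2).det
  map_one' := by rw [coe_one, M2.det_one, map_one]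
  map_mul' x y := by rw [coe_mul, M2.det_mul, map_mul]

theorem gen_det : Gen fun q => (q : M2).det :=
  isGeneralizedCharacter_of_isCharacter (isCharacter_of_monoidHom detHom)

theorem gen_det_star : Gen fun q => star (q : M2).det := by
  have h := Core.isCharacter_conj (isCharacter_of_monoidHom detHom)
  refine isGeneralizedCharacter_of_isCharacter ?_
  convert h using 2 with q
  rw [emb_star]
  rfl

/-- `d₂` -/
def d2 (D : GaussianInt) : GaussianInt := star D * star D
/-- `c₃` -/
def ad (R : GaussianInt) : GaussianInt := R * star R - 1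
/-- the Steinberg character -/
def St (R D : GaussianInt) : GaussianInt := ad R * d2 D
/-- `b₀` -/
def b0 (R D : GaussianInt) : GaussianInt := ad R * ad R - 1 - ad R * (1 + d2 D)

/-- The nine functions. -/
def FF (R D : GaussianInt) : Fin 9 → GaussianInt :=
  ![1 + St R D - b0 R D * R, 1 + St R D - b0 R D * star R,
    (1 - star D) * (1 + St R D), (1 - d2 D) * (1 + St R D), (1 - D) * (1 + St R D),
    1 + b0 R D * star D - ad R, star D + b0 R D - ad R * star D,
    b0 R D + b0 R D * star D - R - R * d2 D,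
    b0 R D + b0 R D * star D - star R - star R * d2 D]

/-- The nine functions on matrices. -/
def Fm (i : Fin 9) (x : M2) : GaussianInt := FF x.tr x.det i

/-- The nine generalized characters. -/
noncomputable def f (i : Fin 9) (q : G8) : ℂ := emb (Fm i q)

theorem gen_f (i : Fin 9) : IsGeneralizedCharacter G8 (f i) := by
  change Gen fun q => Fm i q
  have g2 : Gen fun q => d2 (q : M2).det := gen_det_star.mul gen_det_star
  have ga : Gen fun q => ad (q : M2).tr := (gen_tr.mul gen_tr_star).sub Gen.one
  have gS : Gen fun q => St (q : M2).tr (q : M2).det := ga.mul g2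
  have gb : Gen fun q => b0 (q : M2).tr (q : M2).det :=
    ((ga.mul ga).sub Gen.one).sub (ga.mul (Gen.one.add g2))
  fin_cases i
  · exact (Gen.one.add gS).sub (gb.mul gen_tr)
  · exact (Gen.one.add gS).sub (gb.mul gen_tr_star)
  · exact (Gen.one.sub gen_det_star).mul (Gen.one.add gS)
  · exact (Gen.one.sub g2).mul (Gen.one.add gS)
  · exact (Gen.one.sub gen_det).mul (Gen.one.add gS)
  · exact (Gen.one.add (gb.mul gen_det_star)).sub ga
  · exact (gen_det_star.add gb).sub (ga.mul gen_det_star)
  · exact ((gb.add (gb.mul gen_det_star)).sub gen_tr).sub (gen_tr.mul g2)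
  · exact ((gb.add (gb.mul gen_det_star)).sub gen_tr_star).sub (gen_tr_star.mul g2)

/-! ### Computations -/

set_option maxRecDepth 100000 in
theorem supp_dec : ∀ x ∈ elts, (∀ i, Fm i x = 0) ∨ x = zM ∨ x * x = zM ∨ x * x * x = zM ∨
    x * x * (x * x) = zM ∨ x * x * x * (x * x * x) = zM := by
  decide +kernel

set_option maxRecDepth 100000 in
theorem gram_dec : ∀ i j, (elts.map fun x => Fm i x * star (Fm j x)).sum = 96 * wrGram i j := by
  decide +kernel

set_option maxRecDepth 100000 in
theorem one_dec : ∀ i, (elts.map fun x => Fm i x).sum = 96 * wrOne i := by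
  decide +kernel

set_option maxRecDepth 100000 in
theorem tau_dec : ∀ x ∈ elts, x ≠ zM → ∑ i, (wrTau i : GaussianInt) * Fm i x = 0 := by
  decide +kernel

set_option maxRecDepth 100000 in
theorem tau_z_dec : ∑ i, (wrTau i : GaussianInt) * Fm i zM = 96 := by
  decide +kernel

set_option maxRecDepth 100000 in
theorem det_dec : ∀ x ∈ elts, x * x = 1 → x = 1 ∨ x = zM ∨ x.det = -1 := by
  decide +kernel

set_option maxRecDepth 100000 in
theorem v_dec : ∀ x ∈ elts, (x.det = 1 → Fm 2 x = 0 ∧ Fm 3 x = 0 ∧ Fm 4 x = 0) ∧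
    (x * x = 1 → Fm 2 x = 0 ∧ Fm 3 x = 0 ∧ Fm 4 x = 0 ∧ Fm 2 (zM * x) = 0 ∧ Fm 3 (zM * x) = 0 ∧
      Fm 4 (zM * x) = 0 ∧ Fm 2 (x * zM) = 0 ∧ Fm 3 (x * zM) = 0 ∧ Fm 4 (x * zM) = 0) := by
  decide +kernel

theorem zpow_mem_of {q : G8} (k : ℕ) (h : q ^ k = z) : z ∈ Subgroup.zpowers q := by
  rw [← h]
  exact Subgroup.pow_mem _ (Subgroup.mem_zpowers q) k

theorem supp_f (i : Fin 9) (q : G8) (h : f i q ≠ 0) : z ∈ Subgroup.zpowers q := by
  rcases supp_dec q q.2 with h1 | h1 | h1 | h1 | h1 | h1
  · exfalso
    apply h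
    rw [f, h1, map_zero]
  · exact zpow_mem_of 1 (Subtype.ext (by rw [pow_one, h1]; rfl))
  · exact zpow_mem_of 2 (Subtype.ext (by rw [pow_two, coe_mul, h1]; rfl))
  · exact zpow_mem_of 3 (Subtype.ext (by rw [pow_three, ← mul_assoc, coe_mul, coe_mul, h1]; rfl))
  · refine zpow_mem_of 4 (Subtype.ext ?_)
    have : q ^ 4 = q * q * (q * q) := by simp only [pow_succ, pow_zero, one_mul, mul_assoc]
    rw [this, coe_mul, coe_mul, h1]; rfl
  · refine zpow_mem_of 6 (Subtype.ext ?_)
    have : q ^ 6 = q * q * q * (q * q * q) := by simp only [pow_succ, pow_zero, one_mul, mul_assoc]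
    rw [this, coe_mul, coe_mul, coe_mul, h1]; rfl

theorem sum_emb (φ : M2 → GaussianInt) :
    ∑ q : G8, emb (φ q) = emb (elts.map φ).sum := by
  rw [← map_sum, sum_eq]

theorem gram_f (i j : Fin 9) : classInner (f i) (f j) = (wrGram i j : ℂ) := by
  rw [Core.classInner_def, WrModel.card]
  have h : ∑ q : G8, f i q * conj (f j q) = emb (96 * wrGram i j) := by
    rw [← gram_dec i j, ← sum_emb]
    refine Finset.sum_congr rfl fun q _ => ?_
    rw [map_mul, emb_star]
    rfl
  rw [h, map_mul, map_intCast]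
  have h96 : emb 96 = 96 := map_ofNat _ 96
  rw [h96]
  push_cast
  ring

theorem one_f (i : Fin 9) : classInner (f i) 1 = (wrOne i : ℂ) := by
  rw [Core.classInner_def, WrModel.card]
  have h : ∑ q : G8, f i q * conj ((1 : G8 → ℂ) q) = emb (96 * wrOne i) := by
    rw [← one_dec i, ← sum_emb]
    refine Finset.sum_congr rfl fun q _ => ?_
    rw [Pi.one_apply, map_one, mul_one]
    rfl
  rw [h, map_mul, map_intCast]
  have h96 : emb 96 = 96 := map_ofNat _ 96
  rw [h96]
  push_cast
  ring

theorem sum_tau (q : G8) :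
    ∑ i, (wrTau i : ℂ) * f i q = emb (∑ i, (wrTau i : GaussianInt) * Fm i q) := by
  rw [map_sum]
  refine Finset.sum_congr rfl fun i _ => ?_
  rw [map_mul, map_intCast]
  rfl

theorem pair_f (i : Fin 9) (hi : i = 2 ∨ i = 3 ∨ i = 4) (p q : G8) (hp : p * p = 1)
    (hq : q * q = 1) : f i (p * q) = 0 := by
  have hp' : (p : M2) * p = 1 := congrArg Subtype.val hp
  have hq' : (q : M2) * q = 1 := congrArg Subtype.val hq
  have key : ∀ x : M2, (Fm 2 x = 0 ∧ Fm 3 x = 0 ∧ Fm 4 x = 0) → Fm i x = 0 := by
    rintro x ⟨h2, h3, h4⟩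
    rcases hi with rfl | rfl | rfl
    · exact h2
    · exact h3
    · exact h4
  have hz : f i (p * q) = emb (Fm i ((p : M2) * q)) := rfl
  have h0 : Fm i ((p : M2) * q) = 0 := by
    have vp := (v_dec p p.2).2 hp'
    have vq := (v_dec q q.2).2 hq'
    rcases det_dec p p.2 hp' with h1 | h1 | h1
    · rw [h1, one_mul]; exact key _ ⟨vq.1, vq.2.1, vq.2.2.1⟩
    · rw [h1]; exact key _ ⟨vq.2.2.2.1, vq.2.2.2.2.1, vq.2.2.2.2.2.1⟩
    · rcases det_dec q q.2 hq' with h2 | h2 | h2
      · rw [h2, mul_one]; exact key _ ⟨vp.1, vp.2.1, vp.2.2.1⟩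
      · rw [h2]
        exact key _ ⟨vp.2.2.2.2.2.2.1, vp.2.2.2.2.2.2.2.1, vp.2.2.2.2.2.2.2.2⟩
      · have hd : ((p : M2) * q).det = 1 := by rw [M2.det_mul, h1, h2]; norm_num
        exact key _ ((v_dec _ (p * q).2).1 hd)
  rw [hz, h0, map_zero]

/-- The nine generalized characters of the group of order `96`. -/
theorem data : WrTable.Data z f where
  isGen := gen_f
  supp := supp_f
  gram := gram_f
  one := one_f
  tau_z := by
    rw [sum_tau]
    have : ∑ i, (wrTau i : GaussianInt) * Fm i ((z : G8) : M2) = 96 := tau_z_dec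
    rw [this]
    exact map_ofNat _ 96
  tau_ne q hq := by
    rw [sum_tau, tau_dec q q.2 (fun h => hq (Subtype.ext h)), map_zero]
  pair := pair_f

set_option maxRecDepth 100000 in
theorem pair0_dec : ∀ p ∈ elts, p * p = 1 → ∀ q ∈ elts, q * q = 1 → p * q ≠ zM →
    Fm 0 (p * q) = 0 := by
  decide +kernel

/-- The function `f 0` at the products of two elements of order at most two. -/
theorem pair0 (p q : G8) (hp : p * p = 1) (hq : q * q = 1) (hpq : p * q ≠ z) :
    f 0 (p * q) = 0 := by
  have h := pair0_dec p p.2 (congrArg Subtype.val hp) q q.2 (congrArg Subtype.val hq)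
    (fun h => hpq (Subtype.ext h))
  change emb (Fm 0 ((p : M2) * q)) = 0
  rw [h, map_zero]

end Cfsg.Agent.Classification.RTwo.WrInst
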