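import Mathlib
import Cfsg.Agent.Classification.RTwo.WrModel
import Cfsg.Agent.Classification.RTwo.Recog

/-!
# Recognition of the model of order `96`
-/

set_option autoImplicit false

namespace Cfsg.Agent.Classification.RTwo.WrRecog

open Cfsg.Agent.Classification.RTwo.WrModel Cfsg.Agent.Classification.RTwo.Recog
  Cfsg.Agent.Transfer.SL23Recog

/-- the element `i` -/
def eI : G8 := ⟨gI, by change gI ∈ elts; decide +kernel⟩
/-- the element `j` -/
def eJ : G8 := ⟨gJ, by change gJ ∈ elts; decide +kernel⟩
/-- the element `t` -/
def eT : G8 := ⟨gT, by change gT ∈ elts; decide +kernel⟩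
/-- the element `d` -/
def eD : G8 := ⟨gD, by change gD ∈ elts; decide +kernel⟩

theorem rel : ERel 4 2 eI eJ eT eD where
  hi := Subtype.ext (by rw [coe_pow]; decide +kernel)
  hj := Subtype.ext (by rw [coe_pow, coe_pow]; decide +kernel)
  hji := by rw [mul_inv_eq_iff_eq_mul]; exact Subtype.ext (by decide +kernel)
  hti := by rw [mul_inv_eq_iff_eq_mul]; exact Subtype.ext (by decide +kernel)
  htj := by rw [mul_inv_eq_iff_eq_mul]; exact Subtype.ext (by decide +kernel)
  ht := Subtype.ext (by rw [coe_pow]; decide +kernel)
  hdn := Subtype.ext (by rw [coe_pow, coe_pow]; decide +kernel)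
  hdt := by rw [mul_inv_eq_iff_eq_mul]; exact Subtype.ext (by decide +kernel)
  hdi := by rw [mul_inv_eq_iff_eq_mul]; exact Subtype.ext (by decide +kernel)

theorem det_closure (g : G8) (hg : g ∈ Subgroup.closure ({eI, eJ, eT} : Set G8)) :
    (g : M2).det = 1 := by
  let D : G8 →* GaussianInt :=
    { toFun := fun q => (q : M2).det
      map_one' := M2.det_one
      map_mul' := fun x y => M2.det_mul _ _ }
  have hle : Subgroup.closure ({eI, eJ, eT} : Set G8) ≤ D.ker := by
    rw [Subgroup.closure_le]
    rintro x (rfl | rfl | hx)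
    · exact show gI.det = 1 by decide +kernel
    · exact show gJ.det = 1 by decide +kernel
    · rw [Set.mem_singleton_iff] at hx
      subst hx
      exact show gT.det = 1 by decide +kernel
  exact hle hg

theorem closure_eq : Subgroup.closure ({eI, eJ, eT, eD} : Set G8) = ⊤ := by
  refine rel.closure_eq_top (by norm_num) ?_ ?_ (by rw [card])
  · intro h
    have h1 := congrArg Subtype.val h
    rw [coe_pow] at h1
    revert h1
    decide +kernel
  · intro k hk0 hk4 hmem
    have h1 := det_closure _ hmem
    rw [coe_pow] at h1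
    interval_cases k <;> · revert h1; decide +kernel

/-- Recognition of the group of order `96` by generators and relations. -/
theorem recog {H : Type*} [Group H] {i j t d : H} (h : ERel 4 2 i j t d)
    (hgen : Subgroup.closure ({i, j, t, d} : Set H) = ⊤) (hcard : Nat.card H = 96) :
    Nonempty (H ≃* G8) :=
  nonempty_mulEquiv (by norm_num) h hgen (by rw [hcard]) rel closure_eq (by rw [card])

/-- The group of order `96` is `GU(2,3)`. -/
theorem gu {F : Type*} [Field F] [Fintype F] (hF : Fintype.card F = 3 ^ 2) :
    Nonempty (Cfsg.GU 2 F 3 ≃* G8) := by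
  obtain ⟨e⟩ := gu23 rel closure_eq card hF
  exact ⟨e.symm⟩

/-- The central involution is the only element of order two in the centre. -/
theorem eq_z {q : G8} (hq : q * q = 1) (hne : q ≠ 1) (hc : ∀ x : G8, q * x = x * q) : q = z := by
  have key : ∀ x ∈ elts, x * x = 1 → x ≠ 1 → x * gI = gI * x → x * gS = gS * x → x = zM := by
    decide +kernel
  refine Subtype.ext (key q q.2 (congrArg Subtype.val hq) (fun h => hne (Subtype.ext h)) ?_ ?_)
  · exact congrArg Subtype.val (hc eI)
  · exact congrArg Subtype.val (hc ⟨gS, by change gS ∈ elts; decide +kernel⟩)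

end Cfsg.Agent.Classification.RTwo.WrRecog
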