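import Mathlib
import Cfsg.Agent.Classification.RTwo.MainWR
import Cfsg.Agent.Classification.RTwo.FinalSD
import Cfsg.Agent.Classification.RTwo.WrInst
import Cfsg.Agent.Classification.RTwo.WrRecog
import Cfsg.Agent.Classification.RTwo.WrEnd
import Cfsg.Agent.Classification.RTwo.EndWRGU

/-!
# Simple groups with wreathed Sylow 2-subgroups and solvable centralizers of involutions

They have order `6048`, involution centralizer `GU(2,3)`, and they are not minimal simple.
-/

set_option autoImplicit false

open Cfsg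

namespace Cfsg.Agent.Classification.RTwo.FinalWR

open Subgroup Cfsg.Agent.Classification.RTwo.WrModel Cfsg.Agent.Classification.RTwo.WrInst
  Cfsg.Agent.Classification.RTwo.WrRecog

set_option maxRecDepth 100000 in
theorem pair0_dec : ∀ x ∈ elts, x * x = 1 → ∀ y ∈ elts, y * y = 1 → x * y ≠ zM →
    Fm 0 (x * y) = 0 := by decide +kernel

theorem pair0 (p q : G8) (hp : p * p = 1) (hq : q * q = 1) (hpq : p * q ≠ z) :
    f 0 (p * q) = 0 := by
  have h := pair0_dec p p.2 (congrArg Subtype.val hp) q q.2 (congrArg Subtype.val hq)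
    (fun h => hpq (Subtype.ext h))
  show emb (Fm 0 (((p * q : G8)) : M2)) = 0
  have h1 : ((p * q : G8) : M2) = (p : M2) * (q : M2) := rfl
  rw [h1, h, map_zero]

theorem model : MainWR.Model G8 z f eI eJ eT eD where
  table := data
  card := card
  erel := rel
  gen := closure_eq
  center := fun x hx hc => by
    by_cases h : x = 1
    · exact Or.inl h
    · exact Or.inr (eq_z hx h hc)

/-- A field with nine elements. -/
theorem exists_field : ∃ (F : Type) (_ : Field F) (_ : Fintype F), Fintype.card F = 3 ^ 2 := by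
  have p3 : Fact (Nat.Prime 3) := ⟨Nat.prime_three⟩
  have hfin : Finite (GaloisField 3 2) := inferInstance
  let inst : Fintype (GaloisField 3 2) := Fintype.ofFinite _
  refine ⟨GaloisField 3 2, inferInstance, inst, ?_⟩
  rw [← Nat.card_eq_fintype_card]; exact GaloisField.card 3 2 (by norm_num)

section wr

variable {G : Type*} [Group G] [Finite G] [IsSimpleGroup G] (S : Sylow 2 G)
  (hS : Cfsg.IsWreathed (S : Subgroup G))
  (hsol : ∀ x : G, orderOf x = 2 → Group.IsSolvable (Subgroup.centralizer ({x} : Set G)))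

include hS hsol

/-- **The wreathed case.** The centralizer of an involution is `GU(2,3)`. -/
theorem centralizer_equiv {F : Type*} [Field F] [Fintype F] (hF : Fintype.card F = 3 ^ 2) (t : G)
    (ht : orderOf t = 2) : Nonempty (Subgroup.centralizer ({t} : Set G) ≃* Cfsg.GU 2 F 3) :=
  MainWR.wr S hS hsol model hF t ht

theorem exists_hyp (t : G) (ht : orderOf t = 2) :
    ∃ π : Subgroup.centralizer ({t} : Set G) →* G8, General.Hyp t z π ∧ Function.Injective π := by
  obtain ⟨F, _, _, hF⟩ := exists_field
  obtain ⟨e⟩ := centralizer_equiv S hS hsol hF t ht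
  obtain ⟨e'⟩ := gu hF
  have hG := Structure.index_ne_two S (Or.inr hS)
  have hone := Structure.isConj_of_index S (Or.inr hS) hG
  have hinj : Function.Injective (e.trans e').toMonoidHom := (e.trans e').injective
  have hodd : Odd (Nat.card (e.trans e').toMonoidHom.ker) := by
    rw [(MonoidHom.ker_eq_bot_iff _).2 hinj, Subgroup.card_bot]
    exact odd_one
  refine ⟨(e.trans e').toMonoidHom, ⟨ht, fun x hx => hone t x ht hx, (e.trans e').surjective, hodd, ?_⟩,
    hinj⟩
  intro h
  obtain ⟨h4, h5⟩ := Main.map_t ht (e.trans e').toMonoidHom (e.trans e').surjective hodd h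
  refine eq_z ?_ ?_ h5
  · have := pow_orderOf_eq_one ((e.trans e').toMonoidHom ⟨t, h⟩)
    rwa [h4, sq] at this
  · intro h6
    rw [h6, orderOf_one] at h4
    exact absurd h4 (by norm_num)

theorem index_eq (t : G) (ht : orderOf t = 2) :
    (Subgroup.centralizer ({t} : Set G)).index = 63 := by
  obtain ⟨F, _, _, hF⟩ := exists_field
  obtain ⟨e⟩ := centralizer_equiv S hS hsol hF t ht
  obtain ⟨π, hyp, hinj⟩ := exists_hyp S hS hsol t ht
  exact WrEnd.index_eq hyp data card hinj pair0 (EndWRGU.locAt (by rw [hF]; norm_num) ht e)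

/-- The order of the group. -/
theorem card_eq : Nat.card G = 6048 := by
  obtain ⟨t, ht⟩ := FinalSD.two_dvd S (Or.inr hS)
  obtain ⟨π, hyp, hinj⟩ := exists_hyp S hS hsol t ht
  have h1 : Nat.card (Subgroup.centralizer ({t} : Set G)) = 96 := by
    rw [← card]
    exact Nat.card_congr (Equiv.ofBijective π ⟨hinj, hyp.surj⟩)
  rw [← (Subgroup.centralizer ({t} : Set G)).card_mul_index, h1, index_eq S hS hsol t ht]

end wr

/-- A minimal simple group has no wreathed Sylow 2-subgroup. -/
theorem false_of_minimal {G : Type*} [Group G] [Finite G] (hG : Cfsg.IsMinimalSimple G) (S : Sylow 2 G)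
    (hS : Cfsg.IsWreathed (S : Subgroup G)) : False := by
  have hsimple : IsSimpleGroup G := hG.1
  have hsol : ∀ x : G, orderOf x = 2 → Group.IsSolvable (Subgroup.centralizer ({x} : Set G)) :=
    fun x hx => FinalSD.isSolvable_centralizer hG x (by rintro rfl; simp at hx)
  obtain ⟨t, ht⟩ := FinalSD.two_dvd S (Or.inr hS)
  obtain ⟨F, _, _, hF⟩ := exists_field
  obtain ⟨e⟩ := centralizer_equiv S hS hsol hF t ht
  obtain ⟨π, hyp, hinj⟩ := exists_hyp S hS hsol t ht
  exact WrEnd.false_of_minimalSimple hG hyp data card hinj pair0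
    (EndWRGU.locAt (by rw [hF]; norm_num) ht e)

/-- **R2 for minimal simple groups.** -/
theorem minimal_simple {G : Type*} [Group G] [Finite G] (hG : Cfsg.IsMinimalSimple G) (S : Sylow 2 G)
    (hS : Cfsg.IsQuasiDihedral (S : Subgroup G) ∨ Cfsg.IsWreathed (S : Subgroup G)) :
    ∃ (F : Type) (_ : Field F) (_ : Fintype F), Fintype.card F = 3 ∧
      Nonempty (G ≃* Matrix.ProjectiveSpecialLinearGroup (Fin 3) F) := by
  rcases hS with h | h
  · exact FinalSD.minimal_simple hG S h
  · exact (false_of_minimal hG S h).elim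

end Cfsg.Agent.Classification.RTwo.FinalWR
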