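import Mathlib
import Cfsg.Agent.SporadicRecognition.CosetCertHyp

/-!
# Local structure for the identification of `PSU₃(3)`

`Frame t e w x`: the centralizer of `t` is `GU₂(3)` with standard elements `e = diag(i, 1)`, `w` = coordinate swap,
`x` of order 3. If `t` is conjugate to another involution of its centralizer, there is `d` of order 3 acting on
`A = ⟨e, f⟩`, `f = w e w`, with `e ^ d = e⁻¹ f`, `f ^ d = e⁻¹`, `w d w = d⁻¹`.
-/

set_option autoImplicit false

namespace Cfsg.Agent.Classification.RTwo.USixFrame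

open Cfsg.Agent.SporadicRecognition.CosetCert

variable {G : Type*} [Group G]

/-- Letters `0 = e`, `1 = e⁻¹`, `2 = w`, `3 = x`, `4 = x⁻¹`, `5 = d`, `6 = d⁻¹`, other letters are `1`. -/
def lt (e w x d : G) : ℕ → G
  | 0 => e
  | 1 => e⁻¹
  | 2 => w
  | 3 => x
  | 4 => x⁻¹
  | 5 => d
  | 6 => d⁻¹
  | _ => 1

/-- words for the seven involutions -/
def invWords : List (List ℕ) :=
  [[2], [0, 0], [0, 2, 1], [1, 2, 0], [3, 2, 4], [4, 0, 0, 3], [0, 0, 3, 2, 4]]

/-- words for the four subgroups of order three -/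
def threeWords : List (List ℕ) := [[3], [1, 3, 0], [0, 3, 1], [1, 1, 3, 0, 0]]

/-- relators of `GU₂(3)` -/
def guRels : List (List ℕ) :=
  [[3, 3, 3], [0, 0, 0, 0], [4, 0, 3, 3, 2, 0], [0, 2, 0, 2, 1, 2, 1, 2], [2, 3, 2, 3, 3, 2, 1, 1]]

/-- `C(t) = GU₂(3)` with standard elements. -/
structure Frame (t e w x : G) : Prop where
  hw : w * w = 1
  rels : ∀ r ∈ guRels, ev (lt e w x 1) r = 1
  ht : t = e ^ 2 * (w * e * w) ^ 2
  t_ne : t ≠ 1
  e_mem : e ∈ Subgroup.centralizer ({t} : Set G)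
  w_mem : w ∈ Subgroup.centralizer ({t} : Set G)
  x_mem : x ∈ Subgroup.centralizer ({t} : Set G)
  indep : ∀ k l : ℕ, e ^ k * (w * e * w) ^ l = 1 → 4 ∣ k ∧ 4 ∣ l
  diag : ∀ y ∈ Subgroup.centralizer ({t} : Set G), Commute y ((w * e * w) ^ 2) →
    ∃ k < 4, ∃ l < 4, y = e ^ k * (w * e * w) ^ l
  invol : ∀ s ∈ Subgroup.centralizer ({t} : Set G), s * s = 1 → s ≠ 1 → s ≠ t →
    ∃ c ∈ Subgroup.centralizer ({t} : Set G), c⁻¹ * s * c = (w * e * w) ^ 2
  prime : ∀ y ∈ Subgroup.centralizer ({t} : Set G), y ≠ 1 → (y * y = 1 ∨ y * y * y = 1) →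
    (∃ r ∈ invWords, y = ev (lt e w x 1) r) ∨
      (∃ r ∈ threeWords, y = ev (lt e w x 1) r ∨ y = (ev (lt e w x 1) r)⁻¹)

section basic

variable {t e w x : G}

theorem Frame.e4 (F : Frame t e w x) : e ^ 4 = 1 := by
  have h := F.rels [0, 0, 0, 0] (by simp [guRels])
  simp only [ev, List.map_cons, List.map_nil, List.prod_cons, List.prod_nil, lt, mul_one] at h
  rw [pow_succ, pow_succ, pow_succ, pow_one, mul_assoc, mul_assoc]
  exact h

theorem Frame.ef (F : Frame t e w x) : e * (w * e * w) = (w * e * w) * e := by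
  have h := F.rels [0, 2, 0, 2, 1, 2, 1, 2] (by simp [guRels])
  simp only [ev, List.map_cons, List.map_nil, List.prod_cons, List.prod_nil, lt, mul_one] at h
  have hwi : w⁻¹ = w := inv_eq_of_mul_eq_one_right F.hw
  have h1 : (e * (w * e * w)) * ((w * e * w) * e)⁻¹ = 1 := by
    rw [← h]
    simp only [mul_inv_rev, hwi, mul_assoc]
    -- e w e w e⁻¹ w e⁻¹ w
  exact mul_inv_eq_one.mp h1

theorem Frame.wi (F : Frame t e w x) : w⁻¹ = w := inv_eq_of_mul_eq_one_right F.hw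

theorem Frame.fw (F : Frame t e w x) (n : ℕ) : w * e ^ n * w = (w * e * w) ^ n := by
  have h := F.wi
  calc w * e ^ n * w = w * e ^ n * w⁻¹ := by rw [h]
    _ = (w * e * w⁻¹) ^ n := by rw [conj_pow]
    _ = _ := by rw [h]

theorem Frame.f4 (F : Frame t e w x) : (w * e * w) ^ 4 = 1 := by
  rw [← F.fw, F.e4, mul_one, F.hw]

theorem Frame.wf (F : Frame t e w x) (n : ℕ) : w * (w * e * w) ^ n * w = e ^ n := by
  rw [← F.fw]
  calc w * (w * e ^ n * w) * w = (w * w) * e ^ n * (w * w) := by group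
    _ = e ^ n := by rw [F.hw, one_mul, mul_one]

theorem pow_mul_pow {e f : G} (h : e * f = f * e) (a b c d : ℕ) :
    (e ^ a * f ^ b) * (e ^ c * f ^ d) = e ^ (a + c) * f ^ (b + d) := by
  have h1 : Commute e f := h
  rw [pow_add, pow_add]
  calc e ^ a * f ^ b * (e ^ c * f ^ d) = e ^ a * (f ^ b * e ^ c) * f ^ d := by group
    _ = e ^ a * (e ^ c * f ^ b) * f ^ d := by rw [((h1.pow_pow c b).eq)]
    _ = _ := by group

theorem pow_pow_pow {e f : G} (h : e * f = f * e) (a b n : ℕ) :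
    (e ^ a * f ^ b) ^ n = e ^ (a * n) * f ^ (b * n) := by
  have h1 : Commute e f := h
  rw [(h1.pow_pow a b).mul_pow, ← pow_mul, ← pow_mul]

theorem Frame.eq_iff (F : Frame t e w x) {a b c d : ℕ}
    (h : e ^ a * (w * e * w) ^ b = e ^ c * (w * e * w) ^ d) : a % 4 = c % 4 ∧ b % 4 = d % 4 := by
  have h1 : e ^ (a + 3 * c) * (w * e * w) ^ (b + 3 * d) = 1 := by
    rw [← pow_mul_pow F.ef, h, pow_mul_pow F.ef]
    have e1 : c + 3 * c = 4 * c := by ring
    have e2 : d + 3 * d = 4 * d := by ring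
    rw [e1, e2, pow_mul, pow_mul, F.e4, F.f4, one_pow, one_pow, one_mul]
  obtain ⟨h2, h3⟩ := F.indep _ _ h1
  omega

end basic

/-- conjugation `x ↦ y⁻¹ x y` -/
def cj (y : G) : G →* G := (MulAut.conj y⁻¹).toMonoidHom

theorem cj_apply (y x : G) : cj y x = y⁻¹ * x * y := by simp [cj]

theorem cj_cj (y z x : G) : cj z (cj y x) = cj (y * z) x := by
  simp only [cj_apply]; group

theorem cj_one (x : G) : cj 1 x = x := by simp [cj_apply]

theorem cj_eq_self_iff {y x : G} : cj y x = x ↔ Commute y x := by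
  rw [cj_apply]
  constructor
  · intro h
    change y * x = x * y
    calc y * x = y * (y⁻¹ * x * y) := by rw [h]
      _ = x * y := by group
  · intro h
    have : y⁻¹ * x * y = y⁻¹ * (x * y) := by group
    rw [this, ← h.eq]; group

theorem mem_centralizer_iff_cj {y x : G} : y ∈ Subgroup.centralizer ({x} : Set G) ↔ cj y x = x := by
  rw [cj_eq_self_iff, Subgroup.mem_centralizer_singleton_iff]
  rfl

/-- The action of the wanted element. -/
structure Act (e w d : G) : Prop where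
  cube : d ^ 3 = 1
  he : cj d e = e ^ 3 * (w * e * w)
  hf : cj d (w * e * w) = e ^ 3

section lemmaB

variable {t e w x d : G}

theorem Frame.cjw (F : Frame t e w x) (y : G) : cj w y = w * y * w := by
  rw [cj_apply, F.wi]

theorem Frame.cjw_e (F : Frame t e w x) (n : ℕ) : cj w (e ^ n) = (w * e * w) ^ n := by
  rw [F.cjw, F.fw]

theorem Frame.cjw_f (F : Frame t e w x) (n : ℕ) : cj w ((w * e * w) ^ n) = e ^ n := by
  rw [F.cjw, F.wf]

theorem Frame.cjw_t (F : Frame t e w x) : cj w t = t := mem_centralizer_iff_cj.1 F.w_mem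

theorem Act.e2 (F : Frame t e w x) (A : Act e w d) : cj d (e ^ 2) = t := by
  rw [map_pow, A.he, F.ht]
  have h := pow_pow_pow (a := 3) (b := 1) (n := 2) F.ef
  rw [pow_one] at h
  rw [h]
  have e1 : 3 * 2 = 4 + 2 := by norm_num
  rw [e1, pow_add, F.e4, one_mul]

theorem Act.f2 (F : Frame t e w x) (A : Act e w d) : cj d ((w * e * w) ^ 2) = e ^ 2 := by
  rw [map_pow, A.hf, ← pow_mul]
  have e1 : 3 * 2 = 4 + 2 := by norm_num
  rw [e1, pow_add, F.e4, one_mul]

theorem Act.ct (F : Frame t e w x) (A : Act e w d) : cj d t = (w * e * w) ^ 2 := by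
  have h1 : cj d t = cj d (e ^ 2) * cj d ((w * e * w) ^ 2) := by rw [← map_mul, ← F.ht]
  rw [h1, A.e2 F, A.f2 F, F.ht]
  have h := pow_mul_pow (a := 2) (b := 2) (c := 2) (d := 0) F.ef
  rw [pow_zero, mul_one] at h
  rw [h, show 2 + 2 = 4 from rfl, F.e4, one_mul]

/-- Adjust an element with the right action so that it is inverted by `w`. -/
theorem Act.adjust (F : Frame t e w x) (A : Act e w d) : ∃ d', Act e w d' ∧ w * d' * w * d' = 1 := by
  set f := w * e * w with hf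
  obtain ⟨p, hp, q, hq, hk⟩ := F.diag (w * d * w * d)
    (by
      rw [mem_centralizer_iff_cj, ← cj_cj, ← cj_cj, ← cj_cj, F.cjw_t, A.ct F, ← hf, F.cjw_f, A.e2 F])
    (by
      rw [← cj_eq_self_iff, ← cj_cj, ← cj_cj, ← cj_cj, F.cjw_f, A.e2 F, F.cjw_t, A.ct F])
  rw [← hf] at hk
  have hef : e * f = f * e := F.ef
  -- the relation for `k`
  have h1 : cj d (w * (w * d * w * d) * w) = w * d * w * d := by
    rw [cj_apply]
    calc d⁻¹ * (w * (w * d * w * d) * w) * d = d⁻¹ * (w * w) * d * (w * d * w * d) := by group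
      _ = w * d * w * d := by rw [F.hw]; group
  have h2 : w * (e ^ p * f ^ q) * w = e ^ q * f ^ p := by
    have h3 : w * (e ^ p * f ^ q) * w = cj w (e ^ p) * cj w (f ^ q) := by rw [← map_mul, F.cjw]
    rw [h3, F.cjw_e, F.cjw_f, ← hf]
    have hc : Commute e f := hef
    exact ((hc.pow_pow q p).eq).symm
  have h3 : e ^ (3 * q + 3 * p) * f ^ q = e ^ p * f ^ q := by
    rw [hk, h2, map_mul, map_pow, map_pow, A.he, A.hf, ← hf] at h1
    rw [← h1]
    have h4 := pow_pow_pow (a := 3) (b := 1) (n := q) hef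
    rw [pow_one, one_mul] at h4
    have h5 := pow_mul_pow (a := 3 * q) (b := q) (c := 3 * p) (d := 0) hef
    rw [pow_zero, mul_one, add_zero] at h5
    rw [h4, ← pow_mul, h5]
  have h4 := (F.eq_iff h3).1
  have he4p : ∀ n : ℕ, e ^ (4 * n) = 1 := fun n => by rw [pow_mul, F.e4, one_pow]
  have hf4 : f ^ 4 = 1 := F.f4
  have hf4p : ∀ n : ℕ, f ^ (4 * n) = 1 := fun n => by rw [pow_mul, hf4, one_pow]
  have hpp : e ^ (3 * p) * e ^ p = 1 := by rw [← pow_add, show 3 * p + p = 4 * p by ring, he4p]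
  have hpi : e ^ p = (e ^ (3 * p))⁻¹ := eq_inv_of_mul_eq_one_right hpp
  refine ⟨e ^ p * d * e ^ (3 * p), ⟨?_, ?_, ?_⟩, ?_⟩
  · calc (e ^ p * d * e ^ (3 * p)) ^ 3
        = e ^ p * d * (e ^ (3 * p) * e ^ p) * d * (e ^ (3 * p) * e ^ p) * d * e ^ (3 * p) := by
          rw [pow_succ, pow_succ, pow_one]; group
      _ = e ^ p * d ^ 3 * e ^ (3 * p) := by rw [hpp]; rw [pow_succ d 2, pow_succ d 1, pow_one]; group
      _ = 1 := by rw [A.cube, mul_one, hpi, inv_mul_cancel]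
  · rw [cj_apply]
    have h5 : (e ^ p * d * e ^ (3 * p))⁻¹ * e * (e ^ p * d * e ^ (3 * p)) =
        (e ^ (3 * p))⁻¹ * (cj d ((e ^ p)⁻¹ * e * e ^ p)) * e ^ (3 * p) := by
      rw [cj_apply]; group
    have h6 : (e ^ p)⁻¹ * e * e ^ p = e := by
      have : Commute (e ^ p) e := (Commute.refl e).pow_left p
      rw [mul_assoc, ← this.eq]; group
    rw [h5, h6, A.he, ← hf]
    have h7 : Commute (e ^ (3 * p)) (e ^ 3 * f) := by
      have c1 : Commute e (e ^ 3 * f) := ((Commute.refl e).pow_right 3).mul_right hef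
      exact c1.pow_left _
    rw [mul_assoc, ← h7.eq]; group
  · rw [cj_apply]
    have h5 : (e ^ p * d * e ^ (3 * p))⁻¹ * f * (e ^ p * d * e ^ (3 * p)) =
        (e ^ (3 * p))⁻¹ * (cj d ((e ^ p)⁻¹ * f * e ^ p)) * e ^ (3 * p) := by
      rw [cj_apply]; group
    have h6 : (e ^ p)⁻¹ * f * e ^ p = f := by
      have c1 : Commute e f := hef
      have : Commute (e ^ p) f := c1.pow_left p
      rw [mul_assoc, ← this.eq]; group
    rw [h5, h6, A.hf]
    have h7 : Commute (e ^ (3 * p)) (e ^ 3) := (Commute.refl e).pow_pow _ _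
    rw [mul_assoc, ← h7.eq]; group
  · have hwd : w * d * w = (w * d * w * d) * d⁻¹ := by group
    calc w * (e ^ p * d * e ^ (3 * p)) * w * (e ^ p * d * e ^ (3 * p))
        = (w * e ^ p * w) * (w⁻¹ * w⁻¹) * (w * w) * (w⁻¹ * d * w⁻¹ ) * (w * e ^ (3 * p) * w) * e ^ p * d * e ^ (3 * p) := by
          group
      _ = (w * e ^ p * w) * (w * d * w) * (w * e ^ (3 * p) * w) * e ^ p * d * e ^ (3 * p) := by
          rw [F.wi, F.hw]; group
      _ = f ^ p * ((w * d * w * d) * d⁻¹) * f ^ (3 * p) * e ^ p * d * e ^ (3 * p) := by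
          rw [← hwd, F.fw, F.fw]
      _ = f ^ p * (e ^ p * f ^ q) * (d⁻¹ * (f ^ (3 * p) * e ^ p) * d) * e ^ (3 * p) := by
          rw [hk]; group
      _ = f ^ p * (e ^ p * f ^ q) * ((e ^ 3) ^ (3 * p) * (e ^ 3 * f) ^ p) * e ^ (3 * p) := by
          rw [← cj_apply, map_mul, map_pow, map_pow, A.he, A.hf]
      _ = 1 := by
        have c : Commute e f := hef
        have e1 : (e ^ 3 * f) ^ p = e ^ (3 * p) * f ^ p := by
          have h4 := pow_pow_pow (a := 3) (b := 1) (n := p) hef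
          rw [pow_one, one_mul] at h4
          exact h4
        rw [e1, ← pow_mul]
        have e2 : f ^ p * (e ^ p * f ^ q) = e ^ p * f ^ (p + q) := by
          rw [← mul_assoc, ← (c.pow_pow p p).eq, mul_assoc, ← pow_add]
        have e3 : e ^ (3 * (3 * p)) * (e ^ (3 * p) * f ^ p) = e ^ (12 * p) * f ^ p := by
          rw [← mul_assoc, ← pow_add]; congr 2; ring
        rw [e2, e3]
        have e4 : e ^ p * f ^ (p + q) * (e ^ (12 * p) * f ^ p) * e ^ (3 * p) =
            e ^ (16 * p) * f ^ (2 * p + q) := by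
          rw [pow_mul_pow hef]
          have h5 := pow_mul_pow (a := p + 12 * p) (b := p + q + p) (c := 3 * p) (d := 0) hef
          rw [pow_zero, mul_one] at h5
          rw [h5]
          congr 2 <;> ring
        rw [e4]
        have e5 : 4 ∣ 2 * p + q := by omega
        obtain ⟨m, hm⟩ := e5
        rw [hm, hf4p, show 16 * p = 4 * (4 * p) by ring, he4p, one_mul]

end lemmaB

section lemmaA

variable {t e w x : G}

theorem Frame.tt (F : Frame t e w x) : t * t = 1 := by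
  rw [F.ht, pow_mul_pow F.ef, show 2 + 2 = 4 from rfl, F.e4, F.f4, one_mul]

theorem Frame.f_mem (F : Frame t e w x) : w * e * w ∈ Subgroup.centralizer ({t} : Set G) :=
  Subgroup.mul_mem _ (Subgroup.mul_mem _ F.w_mem F.e_mem) F.w_mem

theorem numeric {a b c δ : ℕ} (ha : a < 4) (hb : b < 4) (hc : c < 4) (hδ : δ < 4)
    (h1 : (2 * a) % 4 = 2) (h2 : (2 * b) % 4 = 2) (h3 : (2 * c) % 4 = 2) (h4 : (2 * δ) % 4 = 0)
    (h5 : (a * (a * a + c * b) + c * (b * a + δ * b)) % 4 = 1)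
    (h6 : (b * (a * a + c * b) + δ * (b * a + δ * b)) % 4 = 0)
    (h7 : (c * c + a * δ) % 4 = 1) (h8 : (δ * c + b * δ) % 4 = 0) :
    (a = 3 ∧ b = 3 ∧ c = 1 ∧ δ = 0) ∨ (a = 3 ∧ b = 1 ∧ c = 3 ∧ δ = 0) := by
  interval_cases a <;> interval_cases b <;> interval_cases c <;> interval_cases δ <;> simp_all

theorem Frame.exists_act (F : Frame t e w x) (F2 : Frame t (e ^ 2 * (w * e * w)) (t * w) x)
    {s : G} (hs : s ∈ Subgroup.centralizer ({t} : Set G)) (hst : s ≠ t) (g : G)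
    (hg : g⁻¹ * t * g = s) :
    (∃ d, Act e w d ∧ w * d * w * d = 1) ∨
      (∃ d, Act (e ^ 2 * (w * e * w)) (t * w) d ∧ (t * w) * d * (t * w) * d = 1) := by
  have hef : e * (w * e * w) = (w * e * w) * e := F.ef
  have ht := F.ht
  have hf4 : (w * e * w) ^ 4 = 1 := F.f4
  set f := w * e * w with hf
  have cf : Commute e f := hef
  have hss : s * s = 1 := by
    rw [← hg]
    calc g⁻¹ * t * g * (g⁻¹ * t * g) = g⁻¹ * (t * t) * g := by group
      _ = 1 := by rw [F.tt]; group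
  have hs1 : s ≠ 1 := by
    intro h
    apply F.t_ne
    rw [h] at hg
    calc t = g * (g⁻¹ * t * g) * g⁻¹ := by group
      _ = 1 := by rw [hg]; group
  obtain ⟨c1, hc1, hc1'⟩ := F.invol s hs hss hs1 hst
  rw [← hf] at hc1'
  -- `g1⁻¹ t g1 = f²`
  set g1 := g * c1 with hg1
  have h1 : g1⁻¹ * t * g1 = f ^ 2 := by
    rw [← hc1', ← hg, hg1]; group
  have hft : Commute (f ^ 2) t := by
    have := F.f_mem
    rw [← hf, Subgroup.mem_centralizer_singleton_iff] at this
    exact (show Commute f t from this).pow_left 2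
  have he2 : e ^ 2 ≠ 1 := by
    intro h
    have := F.indep 2 0 (by rw [h, pow_zero, one_mul])
    omega
  have hmem : g1 * t * g1⁻¹ ∈ Subgroup.centralizer ({t} : Set G) := by
    rw [Subgroup.mem_centralizer_singleton_iff]
    have h2 : t = g1 * f ^ 2 * g1⁻¹ := by rw [← h1]; group
    calc g1 * t * g1⁻¹ * t = g1 * t * g1⁻¹ * (g1 * f ^ 2 * g1⁻¹) := by rw [← h2]
      _ = g1 * (t * f ^ 2) * g1⁻¹ := by group
      _ = g1 * (f ^ 2 * t) * g1⁻¹ := by rw [hft.eq]
      _ = (g1 * f ^ 2 * g1⁻¹) * (g1 * t * g1⁻¹) := by group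
      _ = t * (g1 * t * g1⁻¹) := by rw [← h2]
  have hne : g1 * t * g1⁻¹ ≠ t := by
    intro h
    have h2 : g1⁻¹ * t * g1 = t := by
      calc g1⁻¹ * t * g1 = g1⁻¹ * (g1 * t * g1⁻¹) * g1 := by rw [h]
        _ = t := by group
    rw [h1, ht] at h2
    apply he2
    have h3 : e ^ 2 * f ^ 2 = 1 * f ^ 2 := by rw [one_mul]; exact h2.symm
    exact mul_right_cancel h3
  have hne1 : g1 * t * g1⁻¹ ≠ 1 := by
    intro h
    apply F.t_ne
    calc t = g1⁻¹ * (g1 * t * g1⁻¹) * g1 := by group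
      _ = 1 := by rw [h]; group
  obtain ⟨c2, hc2, hc2'⟩ := F.invol _ hmem (by
    calc g1 * t * g1⁻¹ * (g1 * t * g1⁻¹) = g1 * (t * t) * g1⁻¹ := by group
      _ = 1 := by rw [F.tt]; group) hne1 hne
  rw [← hf] at hc2'
  set g2 := c2⁻¹ * g1 with hg2
  have hc2t : c2 * t = t * c2 := by rwa [Subgroup.mem_centralizer_singleton_iff] at hc2
  have k1 : cj g2 t = f ^ 2 := by
    rw [cj_apply, hg2, ← h1]
    calc (c2⁻¹ * g1)⁻¹ * t * (c2⁻¹ * g1) = g1⁻¹ * (c2 * t) * c2⁻¹ * g1 := by group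
      _ = g1⁻¹ * t * g1 := by rw [hc2t]; group
  have k2 : cj g2 (f ^ 2) = t := by
    rw [cj_apply, hg2]
    calc (c2⁻¹ * g1)⁻¹ * f ^ 2 * (c2⁻¹ * g1) = g1⁻¹ * (c2 * f ^ 2 * c2⁻¹) * g1 := by group
      _ = g1⁻¹ * (c2 * (c2⁻¹ * (g1 * t * g1⁻¹) * c2) * c2⁻¹) * g1 := by rw [hc2']
      _ = t := by group
  have hteq : t * f ^ 2 = e ^ 2 := by
    rw [ht, mul_assoc, ← pow_add, show 2 + 2 = 4 from rfl, hf4, mul_one]
  have k3 : cj g2 (e ^ 2) = e ^ 2 := by
    rw [← hteq, map_mul, k1, k2, hft.eq]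
  set d0 := w * g2 with hd0
  have m1 : cj d0 t = f ^ 2 := by rw [hd0, ← cj_cj, F.cjw_t, k1]
  have m2 : cj d0 (f ^ 2) = e ^ 2 := by rw [hd0, ← cj_cj, F.cjw_f, k3]
  have m3 : cj d0 (e ^ 2) = t := by rw [hd0, ← cj_cj, F.cjw_e, k2]
  have hd3 : ∀ y, cj (d0 ^ 3) y = cj d0 (cj d0 (cj d0 y)) := by
    intro y
    rw [cj_cj, cj_cj, pow_succ, pow_succ, pow_one, mul_assoc]
  obtain ⟨k, -, l, -, hkl⟩ := F.diag (d0 ^ 3)
    (by rw [mem_centralizer_iff_cj, hd3, m1, m2, m3])
    (by rw [← cj_eq_self_iff, hd3, m2, m3, m1])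
  rw [← hf] at hkl
  have hd0t : cj (d0 ^ 3) t = t := by rw [hd3, m1, m2, m3]
  have hd0f : cj (d0 ^ 3) (f ^ 2) = f ^ 2 := by rw [hd3, m2, m3, m1]
  have hd0e : cj (d0 ^ 3) (e ^ 2) = e ^ 2 := by rw [hd3, m3, m1, m2]
  set d1 := d0 ^ 4 with hd1
  have hd1' : d1 = d0 ^ 3 * d0 := by rw [hd1, pow_succ]
  have n1 : cj d1 t = f ^ 2 := by rw [hd1', ← cj_cj, hd0t, m1]
  have n2 : cj d1 (f ^ 2) = e ^ 2 := by rw [hd1', ← cj_cj, hd0f, m2]
  have n3 : cj d1 (e ^ 2) = t := by rw [hd1', ← cj_cj, hd0e, m3]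
  have hcube : d1 ^ 3 = 1 := by
    rw [hd1, ← pow_mul, show 4 * 3 = 3 * 4 by norm_num, pow_mul, hkl, pow_pow_pow hef, mul_comm k 4,
      mul_comm l 4, pow_mul, pow_mul, F.e4, hf4, one_pow, one_pow, one_mul]
  have het : Commute e t := by
    have := F.e_mem
    rw [Subgroup.mem_centralizer_singleton_iff] at this
    exact this
  have hftt : Commute f t := by
    have := F.f_mem
    rw [← hf, Subgroup.mem_centralizer_singleton_iff] at this
    exact this
  have hmap : ∀ {y z : G}, Commute y z → Commute (cj d1 y) (cj d1 z) := by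
    intro y z h
    change cj d1 y * cj d1 z = cj d1 z * cj d1 y
    rw [← map_mul, ← map_mul, h.eq]
  -- the action on `e` and `f`
  obtain ⟨a, ha, b, hb, hab⟩ := F.diag (cj d1 e)
    (by
      rw [Subgroup.mem_centralizer_singleton_iff]
      have := hmap ((Commute.refl e).pow_right 2)
      rw [n3] at this
      exact this)
    (by
      have := hmap het
      rw [n1] at this
      exact this)
  obtain ⟨c, hc, δ, hδ, hcδ⟩ := F.diag (cj d1 f)
    (by
      rw [Subgroup.mem_centralizer_singleton_iff]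
      have := hmap (cf.symm.pow_right 2)
      rw [n3] at this
      exact this)
    (by
      have := hmap hftt
      rw [n1] at this
      exact this)
  rw [← hf] at hab hcδ
  -- squares
  have q1 : (2 * a) % 4 = 2 ∧ (2 * b) % 4 = 2 := by
    have h2 : e ^ (a * 2) * f ^ (b * 2) = e ^ 2 * f ^ 2 := by
      rw [← pow_pow_pow hef, ← hab, ← map_pow, n3, ht]
    have h3 := F.eq_iff h2
    omega
  have q2 : (2 * c) % 4 = 2 ∧ (2 * δ) % 4 = 0 := by
    have h2 : e ^ (c * 2) * f ^ (δ * 2) = e ^ 2 * f ^ 0 := by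
      rw [← pow_pow_pow hef, ← hcδ, ← map_pow, n2, pow_zero, mul_one]
    have h3 := F.eq_iff h2
    omega
  -- general formula
  have hform : ∀ m n : ℕ, cj d1 (e ^ m * f ^ n) = e ^ (a * m + c * n) * f ^ (b * m + δ * n) := by
    intro m n
    rw [map_mul, map_pow, map_pow, hab, hcδ, pow_pow_pow hef, pow_pow_pow hef, pow_mul_pow hef]
  have hd1d : ∀ y, cj d1 (cj d1 (cj d1 y)) = y := by
    intro y
    rw [cj_cj, cj_cj]
    have : d1 * (d1 * d1) = 1 := by
      rw [← hcube, pow_succ, pow_succ, pow_one, mul_assoc]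
    rw [this, cj_one]
  have q3 : (a * (a * a + c * b) + c * (b * a + δ * b)) % 4 = 1 ∧
      (b * (a * a + c * b) + δ * (b * a + δ * b)) % 4 = 0 := by
    have h2 := hd1d e
    rw [hab, hform, hform] at h2
    have h3 : e ^ (a * (a * a + c * b) + c * (b * a + δ * b)) *
        f ^ (b * (a * a + c * b) + δ * (b * a + δ * b)) = e ^ 1 * f ^ 0 := by
      rw [h2, pow_one, pow_zero, mul_one]
    exact F.eq_iff h3
  have hw1 : ∀ m n : ℕ, cj w (e ^ m * f ^ n) = e ^ n * f ^ m := by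
    intro m n
    rw [map_mul, F.cjw_e, F.cjw_f, ← hf]
    exact ((cf.pow_pow n m).eq).symm
  -- `k = w d1 w d1` is in `A`
  have q4 : (c * c + a * δ) % 4 = 1 ∧ (δ * c + b * δ) % 4 = 0 := by
    obtain ⟨p, -, q, -, hk⟩ := F.diag (w * d1 * w * d1)
      (by
        rw [mem_centralizer_iff_cj, ← cj_cj, ← cj_cj, ← cj_cj, F.cjw_t, n1, F.cjw_f, n3])
      (by
        rw [← cj_eq_self_iff, ← cj_cj, ← cj_cj, ← cj_cj, F.cjw_f, n3, F.cjw_t, n1])
    rw [← hf] at hk
    have hke : cj (w * d1 * w * d1) e = e := by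
      rw [cj_eq_self_iff, hk]
      exact ((Commute.refl e).pow_left p).mul_left (cf.symm.pow_left q)
    have h2 : cj d1 (cj w (cj d1 (cj w e))) = e := by
      rw [cj_cj, cj_cj, cj_cj, ← mul_assoc, ← mul_assoc, hke]
    have h3 : cj w e = e ^ 0 * f ^ 1 := by
      have := hw1 1 0
      rw [pow_one, pow_zero, mul_one] at this
      rw [this, pow_zero, pow_one, one_mul]
    rw [h3, hform, hw1, hform] at h2
    have h4 : e ^ (a * (b * 0 + δ * 1) + c * (a * 0 + c * 1)) *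
        f ^ (b * (b * 0 + δ * 1) + δ * (a * 0 + c * 1)) = e ^ 1 * f ^ 0 := by
      rw [h2, pow_one, pow_zero, mul_one]
    have h5 := F.eq_iff h4
    have e1 : a * (b * 0 + δ * 1) + c * (a * 0 + c * 1) = c * c + a * δ := by ring
    have e2 : b * (b * 0 + δ * 1) + δ * (a * 0 + c * 1) = δ * c + b * δ := by ring
    rw [e1, e2] at h5
    exact h5
  rcases numeric ha hb hc hδ q1.1 q1.2 q2.1 q2.2 q3.1 q3.2 q4.1 q4.2 with
    ⟨rfl, rfl, rfl, rfl⟩ | ⟨rfl, rfl, rfl, rfl⟩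
  · -- second labelling
    right
    rw [pow_zero, mul_one, pow_one] at hcδ
    have hi : ∀ y, cj d1⁻¹ (cj d1 y) = y := by
      intro y; rw [cj_cj, mul_inv_cancel, cj_one]
    have r1 : cj d1⁻¹ e = f := by
      have := hi f
      rwa [hcδ] at this
    have r2 : cj d1⁻¹ f = e ^ 3 * f ^ 3 := by
      have h2 := hi e
      rw [hab, map_mul, map_pow, map_pow, r1] at h2
      have h3 : (cj d1⁻¹ f) ^ 4 = 1 := by rw [← map_pow, hf4, map_one]
      have h4 : (cj d1⁻¹ f) ^ 3 = f * e := by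
        have : f * (f ^ 3 * (cj d1⁻¹ f) ^ 3) = f * e := by rw [h2]
        rwa [← mul_assoc, ← pow_succ', show 3 + 1 = 4 from rfl, hf4, one_mul] at this
      calc cj d1⁻¹ f = ((cj d1⁻¹ f) ^ 4) ^ 2 * cj d1⁻¹ f := by rw [h3, one_pow, one_mul]
        _ = ((cj d1⁻¹ f) ^ 3) ^ 3 := by rw [← pow_mul, ← pow_mul, ← pow_succ]
        _ = (e * f) ^ 3 := by rw [h4, hef]
        _ = e ^ 3 * f ^ 3 := by rw [cf.mul_pow]
    have hf2 : (t * w) * (e ^ 2 * f) * (t * w) = e * f ^ 2 := by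
      have hwt : Commute w t := by
        have := F.w_mem
        rw [Subgroup.mem_centralizer_singleton_iff] at this
        exact this
      have hct : Commute (w * (e ^ 2 * f) * w) t :=
        (hwt.mul_left ((het.pow_left 2).mul_left hftt)).mul_left hwt
      calc (t * w) * (e ^ 2 * f) * (t * w) = (t * w) * (e ^ 2 * f) * (w * t) := by rw [hwt.eq]
        _ = t * (w * (e ^ 2 * f) * w * t) := by group
        _ = t * (t * (w * (e ^ 2 * f) * w)) := by rw [hct.eq]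
        _ = (t * t) * (w * (e ^ 2 * f) * w) := by group
        _ = cj w (e ^ 2 * f ^ 1) := by rw [F.tt, one_mul, F.cjw, pow_one]
        _ = e * f ^ 2 := by rw [hw1, pow_one]
    have hcub : (e ^ 2 * f) ^ 3 = e ^ (2 * 3) * f ^ 3 := by
      have := pow_pow_pow (a := 2) (b := 1) (n := 3) hef
      rwa [pow_one, one_mul] at this
    refine ⟨_, (Act.adjust F2 (d := d1⁻¹) ⟨?_, ?_, ?_⟩).choose_spec⟩
    · rw [inv_pow, hcube, inv_one]
    · rw [hf2, map_mul, map_pow, r1, r2, hcub]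
      have c2 := cf
      have e1 : f ^ 2 * (e ^ 3 * f ^ 3) = e ^ 3 * f ^ 5 := by
        rw [← mul_assoc, ← (cf.pow_pow 3 2).eq, mul_assoc, ← pow_add]
      have e2 : e ^ (2 * 3) * f ^ 3 * (e * f ^ 2) = e ^ 7 * f ^ 5 := by
        have := pow_mul_pow (a := 2 * 3) (b := 3) (c := 1) (d := 2) hef
        rwa [pow_one] at this
      rw [e1, e2, show 7 = 4 + 3 from rfl, pow_add e 4 3, F.e4, one_mul]
    · rw [hf2, map_mul, map_pow, r1, r2, hcub]
      rw [pow_pow_pow hef, ← mul_assoc]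
      have e1 : f * e ^ (3 * 2) * f ^ (3 * 2) = e ^ 6 * f ^ 7 := by
        have := (cf.pow_pow 6 1).eq
        rw [pow_one] at this
        rw [show 3 * 2 = 6 from rfl, ← this, mul_assoc, ← pow_succ']
      rw [e1, show 7 = 4 + 3 from rfl, pow_add f 4 3, hf4, one_mul]
  · left
    rw [pow_zero, mul_one] at hcδ
    rw [pow_one] at hab
    exact ⟨_, (Act.adjust F ⟨hcube, hab, hcδ⟩).choose_spec⟩

end lemmaA

end Cfsg.Agent.Classification.RTwo.USixFrame
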