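import Mathlib
import Cfsg.Prelude.Def_LieClassical
import Cfsg.Agent.LieClassical.GUOrder
import Cfsg.Agent.Classification.RTwo.UThreeThree
import Cfsg.Agent.Classification.RTwo.USixFrame

/-!
# The frames of `GU₂(3)`

Computations in `GU 2 K9 3` with the computable field `K9` with nine elements.
-/

set_option autoImplicit false

namespace Cfsg.Agent.Classification.RTwo.USixModel

open Cfsg.Agent.SporadicRecognition.CosetCert Cfsg.Agent.Classification.RTwo.USixFrame
open Cfsg.Agent.Classification.RTwo.UThreeThree (K9 card_k9')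
open Matrix

/-- flat `2 × 2` matrices -/
abbrev V4 := K9 × K9 × K9 × K9

/-- entries of a matrix -/
def fl (M : Matrix (Fin 2) (Fin 2) K9) : V4 := (M 0 0, M 0 1, M 1 0, M 1 1)

theorem fl_injective : Function.Injective fl := by
  intro M N h
  simp only [fl, Prod.mk.injEq] at h
  obtain ⟨h1, h2, h3, h4⟩ := h
  refine Matrix.ext fun i j => ?_
  fin_cases i <;> fin_cases j
  · exact h1
  · exact h2
  · exact h3
  · exact h4

/-- product of flat matrices -/
def m2 (u v : V4) : V4 :=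
  (u.1 * v.1 + u.2.1 * v.2.2.1, u.1 * v.2.1 + u.2.1 * v.2.2.2,
    u.2.2.1 * v.1 + u.2.2.2 * v.2.2.1, u.2.2.1 * v.2.1 + u.2.2.2 * v.2.2.2)

/-- the identity matrix -/
def one4 : V4 := (⟨1, 0⟩, ⟨0, 0⟩, ⟨0, 0⟩, ⟨1, 0⟩)

theorem fl_mul (M N : Matrix (Fin 2) (Fin 2) K9) : fl (M * N) = m2 (fl M) (fl N) := by
  simp [fl, m2, Matrix.mul_apply, Fin.sum_univ_two]

theorem fl_one : fl 1 = one4 := by decide +kernel

/-- flat matrix of an element of the unitary group -/
def gf (g : Cfsg.GU 2 K9 3) : V4 := fl ((g : Matrix.GeneralLinearGroup (Fin 2) K9) : Matrix (Fin 2) (Fin 2) K9)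

theorem gf_injective : Function.Injective gf := fun _ _ h =>
  Subtype.ext (Units.ext (fl_injective h))

theorem gf_mul (g h : Cfsg.GU 2 K9 3) : gf (g * h) = m2 (gf g) (gf h) := fl_mul _ _

theorem gf_one : gf 1 = one4 := fl_one

/-- norm of a vector -/
def nrm (a c : K9) : K9 := a * (a * a * a) + c * (c * c * c)

/-- scalar product of two vectors -/
def orth (a b c d : K9) : K9 := a * (b * b * b) + c * (d * d * d)

/-- unitary matrices -/
def Good (v : V4) : Prop := nrm v.1 v.2.2.1 = 1 ∧ nrm v.2.1 v.2.2.2 = 1 ∧ orth v.1 v.2.1 v.2.2.1 v.2.2.2 = 0 ∧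
  orth v.2.1 v.1 v.2.2.2 v.2.2.1 = 0

instance (v : V4) : Decidable (Good v) := by unfold Good; infer_instance

theorem good_gf (g : Cfsg.GU 2 K9 3) : Good (gf g) := by
  have h1 := (LieClassical.GUOrder.mul_map_eq_one_iff card_k9'
    ((g : Matrix.GeneralLinearGroup (Fin 2) K9) : Matrix (Fin 2) (Fin 2) K9)).1 g.2
  have key : ∀ i j : Fin 2,
      ((g : Matrix.GeneralLinearGroup (Fin 2) K9) : Matrix (Fin 2) (Fin 2) K9) 0 i *
        (((g : Matrix.GeneralLinearGroup (Fin 2) K9) : Matrix (Fin 2) (Fin 2) K9) 0 j) ^ 3 +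
      ((g : Matrix.GeneralLinearGroup (Fin 2) K9) : Matrix (Fin 2) (Fin 2) K9) 1 i *
        (((g : Matrix.GeneralLinearGroup (Fin 2) K9) : Matrix (Fin 2) (Fin 2) K9) 1 j) ^ 3 =
      (1 : Matrix (Fin 2) (Fin 2) K9) i j := by
    intro i j
    rw [← h1, Matrix.mul_apply, Fin.sum_univ_two]
    rfl
  have e3 : ∀ a : K9, a ^ 3 = a * a * a := fun a => by rw [pow_succ, pow_two]
  simp only [e3] at key
  exact ⟨key 0 0, key 1 1, key 0 1, key 1 0⟩

theorem fl_mem_of_good {g : Matrix.GeneralLinearGroup (Fin 2) K9} (h : Good (fl (g : Matrix (Fin 2) (Fin 2) K9))) :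
    g ∈ Cfsg.GU 2 K9 3 := by
  refine (LieClassical.GUOrder.mul_map_eq_one_iff card_k9' (g : Matrix (Fin 2) (Fin 2) K9)).2 ?_
  obtain ⟨h1, h2, h3, h4⟩ := h
  simp only [nrm, orth, fl] at h1 h2 h3 h4
  have e3 : ∀ a : K9, a ^ 3 = a * a * a := fun a => by rw [pow_succ, pow_two]
  ext i j : 1
  rw [Matrix.mul_apply, Fin.sum_univ_two]
  simp only [Matrix.transpose_apply, Matrix.map_apply, LieClassical.GUOrder.frob_apply, e3]
  fin_cases i <;> fin_cases j
  · exact h1
  · exact h3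
  · exact h4
  · exact h2

/-- all elements of the field -/
def k9L : List K9 := [⟨0, 0⟩, ⟨0, 1⟩, ⟨0, 2⟩, ⟨1, 0⟩, ⟨1, 1⟩, ⟨1, 2⟩, ⟨2, 0⟩, ⟨2, 1⟩, ⟨2, 2⟩]

theorem mem_k9L (a : K9) : a ∈ k9L := by
  obtain ⟨r, s⟩ := a
  revert r s
  decide +kernel

/-- check a property of all unitary matrices -/
def allGood (P : V4 → Bool) : Bool :=
  k9L.all fun a => k9L.all fun c => !decide (nrm a c = 1) ||
    k9L.all fun b => k9L.all fun d => !(decide (nrm b d = 1) && decide (orth a b c d = 0)) || P (a, b, c, d)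

theorem of_allGood {P : V4 → Bool} (h : allGood P = true) {v : V4} (hv : Good v) : P v = true := by
  obtain ⟨a, b, c, d⟩ := v
  obtain ⟨h1, h2, h3, -⟩ := hv
  simp only [allGood, List.all_eq_true] at h
  have h4 := h a (mem_k9L a) c (mem_k9L c)
  rw [Bool.or_eq_true] at h4
  rcases h4 with h4 | h4
  · simp only [Bool.not_eq_true', decide_eq_false_iff_not] at h4
    exact absurd h1 h4
  · rw [List.all_eq_true] at h4
    have h5 := h4 b (mem_k9L b)
    rw [List.all_eq_true] at h5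
    have h6 := h5 d (mem_k9L d)
    rw [Bool.or_eq_true] at h6
    rcases h6 with h6 | h6
    · simp only [Bool.not_eq_true', Bool.and_eq_false_iff, decide_eq_false_iff_not] at h6
      rcases h6 with h6 | h6
      · exact absurd h2 h6
      · exact absurd h3 h6
    · exact h6

/-- evaluation of words on flat matrices -/
def evV (l : ℕ → V4) (r : List ℕ) : V4 := r.foldr (fun n v => m2 (l n) v) one4

/-- letters -/
def lv (vE vEi vW vX vXi : V4) : ℕ → V4
  | 0 => vE
  | 1 => vEi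
  | 2 => vW
  | 3 => vX
  | 4 => vXi
  | _ => one4

theorem gf_ev (g : ℕ → Cfsg.GU 2 K9 3) (l : ℕ → V4) (h : ∀ n, gf (g n) = l n) (r : List ℕ) :
    gf (ev g r) = evV l r := by
  induction r with
  | nil => exact gf_one
  | cons a r ih =>
    rw [ev_cons, gf_mul, ih, h]
    rfl

/-- the word `e ^ k f ^ l` -/
def wd (k l : ℕ) : List ℕ := List.replicate k 0 ++ (List.replicate l [2, 0, 2]).flatten

theorem ev_wd {G : Type*} [Group G] (g : ℕ → G) (k l : ℕ) :
    ev g (wd k l) = (g 0) ^ k * (g 2 * g 0 * g 2) ^ l := by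
  rw [wd, ev_append]
  congr 1
  · induction k with
    | zero => simp [ev]
    | succ k ih => rw [List.replicate_succ, ev_cons, ih, pow_succ']
  · induction l with
    | zero => simp [ev]
    | succ l ih =>
      rw [List.replicate_succ, List.flatten_cons, ev_append, ih, pow_succ']
      simp [ev, mul_assoc]

/-- the 16 pairs of exponents -/
def prs : List (ℕ × ℕ) := (List.range 4).flatMap fun k => (List.range 4).map fun l => (k, l)

theorem mem_prs {k l : ℕ} : (k, l) ∈ prs ↔ k < 4 ∧ l < 4 := by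
  simp [prs]

/-- words conjugating `f²` to all noncentral involutions -/
def cwords : List (List ℕ) := [[], [2], [3], [4], [0, 4], [1, 3]]

/-- All the checks for a frame. -/
structure Check (vE vEi vW vX vXi vT : V4) : Prop where
  hEi : m2 vE vEi = one4
  hXi : m2 vX vXi = one4
  hw : m2 vW vW = one4
  rels : ∀ r ∈ guRels, evV (lv vE vEi vW vX vXi) r = one4
  ht : evV (lv vE vEi vW vX vXi) (wd 2 2) = vT
  t_ne : vT ≠ one4
  indep : ∀ p ∈ prs, evV (lv vE vEi vW vX vXi) (wd p.1 p.2) = one4 → p.1 = 0 ∧ p.2 = 0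
  diag : allGood (fun v => !decide (m2 v (evV (lv vE vEi vW vX vXi) (wd 0 2)) =
    m2 (evV (lv vE vEi vW vX vXi) (wd 0 2)) v) ||
      prs.any fun p => decide (v = evV (lv vE vEi vW vX vXi) (wd p.1 p.2))) = true
  invol : allGood (fun v => !decide (m2 v v = one4) || decide (v = one4) || decide (v = vT) ||
    cwords.any fun r => decide (m2 v (evV (lv vE vEi vW vX vXi) r) =
      m2 (evV (lv vE vEi vW vX vXi) r) (evV (lv vE vEi vW vX vXi) (wd 0 2)))) = true
  prime : allGood (fun v => decide (v = one4) || !(decide (m2 v v = one4) || decide (m2 (m2 v v) v = one4)) ||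
    (invWords.any fun r => decide (v = evV (lv vE vEi vW vX vXi) r)) ||
      (threeWords.any fun r => decide (v = evV (lv vE vEi vW vX vXi) r) ||
        decide (m2 v (evV (lv vE vEi vW vX vXi) r) = one4))) = true

attribute [local irreducible] gf m2 evV

set_option maxHeartbeats 1000000 in
theorem frame_of {G : Type*} [Group G] (ι : Cfsg.GU 2 K9 3 →* G) (hι : Function.Injective ι) {t : G}
    (hrange : ∀ y, y ∈ Subgroup.centralizer ({t} : Set G) ↔ ∃ g, ι g = y)
    (E W X T : Cfsg.GU 2 K9 3) (htT : t = ι T) {vE vEi vW vX vXi vT : V4}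
    (hE : gf E = vE) (hEi : gf E⁻¹ = vEi) (hW : gf W = vW) (hX : gf X = vX) (hXi : gf X⁻¹ = vXi)
    (hT : gf T = vT) (h : Check vE vEi vW vX vXi vT) : Frame t (ι E) (ι W) (ι X) := by
  have hl : ∀ n, gf (lt E W X 1 n) = lv vE vEi vW vX vXi n := by
    intro n
    rcases n with _ | _ | _ | _ | _ | _ | _ | n
    · exact hE
    · exact hEi
    · exact hW
    · exact hX
    · exact hXi
    · exact gf_one
    · change gf (1 : Cfsg.GU 2 K9 3)⁻¹ = one4
      rw [inv_one]; exact gf_one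
    · exact gf_one
  have hlt : ∀ n, lt (ι E) (ι W) (ι X) 1 n = ι (lt E W X 1 n) := by
    intro n
    rcases n with _ | _ | _ | _ | _ | _ | _ | n
    · rfl
    · exact (map_inv ι E).symm
    · rfl
    · rfl
    · exact (map_inv ι X).symm
    · exact (map_one ι).symm
    · change (1 : G)⁻¹ = ι (1 : Cfsg.GU 2 K9 3)⁻¹
      rw [inv_one, inv_one, map_one]
    · exact (map_one ι).symm
  have hev : ∀ r, ev (lt (ι E) (ι W) (ι X) 1) r = ι (ev (lt E W X 1) r) := by
    intro r
    rw [ev, ev, map_list_prod, List.map_map]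
    congr 1
    apply List.map_congr_left
    intro n _
    exact hlt n
  have hgf : ∀ r, gf (ev (lt E W X 1) r) = evV (lv vE vEi vW vX vXi) r := gf_ev _ _ hl
  have hwd : ∀ k l, ev (lt E W X 1) (wd k l) = E ^ k * (W * E * W) ^ l := fun k l => ev_wd _ k l
  have hmem : ∀ g, ι g ∈ Subgroup.centralizer ({t} : Set G) := fun g => (hrange _).2 ⟨g, rfl⟩
  have e4 : E ^ 4 = 1 := by
    apply gf_injective
    have h1 := h.rels [0, 0, 0, 0] (by simp [guRels])
    rw [← hgf] at h1
    have h2 : ev (lt E W X 1) [0, 0, 0, 0] = E ^ 4 := by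
      simp only [ev, List.map_cons, List.map_nil, List.prod_cons, List.prod_nil, lt, mul_one]
      rw [pow_succ, pow_succ, pow_succ, pow_one, mul_assoc, mul_assoc]
    rw [gf_one, ← h1, h2]
  have hww : W * W = 1 := by
    apply gf_injective
    rw [gf_mul, hW, h.hw, gf_one]
  have f4 : (W * E * W) ^ 4 = 1 := by
    have hwi : W⁻¹ = W := inv_eq_of_mul_eq_one_right hww
    calc (W * E * W) ^ 4 = (W * E * W⁻¹) ^ 4 := by rw [hwi]
      _ = W * E ^ 4 * W⁻¹ := by rw [conj_pow]
      _ = 1 := by rw [e4]; group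
  refine ⟨?_, ?_, ?_, ?_, hmem _, hmem _, hmem _, ?_, ?_, ?_, ?_⟩
  · rw [← map_mul, hww, map_one]
  · intro r hr
    rw [hev]
    have h1 : ev (lt E W X 1) r = 1 := by
      apply gf_injective
      rw [hgf, h.rels r hr, gf_one]
    rw [h1, map_one]
  · have h4 : T = E ^ 2 * (W * E * W) ^ 2 := by
      apply gf_injective
      rw [← hwd, hgf, h.ht, hT]
    rw [htT, h4, map_mul, map_pow, map_pow, map_mul, map_mul]
  · intro h1
    apply h.t_ne
    have h2 : T = 1 := hι (by rw [← htT, h1, map_one])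
    rw [← hT, h2, gf_one]
  · intro k l hkl
    have h1 : E ^ k * (W * E * W) ^ l = 1 := by
      apply hι
      rw [map_mul, map_pow, map_pow, map_mul, map_mul, map_one]
      exact hkl
    have hk : E ^ k = E ^ (k % 4) := by
      conv_lhs => rw [← Nat.mod_add_div k 4, pow_add, pow_mul, e4, one_pow, mul_one]
    have hl : (W * E * W) ^ l = (W * E * W) ^ (l % 4) := by
      conv_lhs => rw [← Nat.mod_add_div l 4, pow_add, pow_mul, f4, one_pow, mul_one]
    rw [hk, hl] at h1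
    have h2 := h.indep (k % 4, l % 4)
      (mem_prs.2 ⟨Nat.mod_lt _ (by norm_num), Nat.mod_lt _ (by norm_num)⟩) (by
        rw [← hgf, hwd, h1, gf_one])
    exact ⟨Nat.dvd_of_mod_eq_zero h2.1, Nat.dvd_of_mod_eq_zero h2.2⟩
  · intro y hy hc
    obtain ⟨g, rfl⟩ := (hrange y).1 hy
    have h1 : g * (W * E * W) ^ 2 = (W * E * W) ^ 2 * g := by
      apply hι
      rw [map_mul, map_mul, map_pow, map_mul, map_mul]
      exact hc
    have h2 := of_allGood h.diag (good_gf g)
    rw [Bool.or_eq_true] at h2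
    rcases h2 with h2 | h2
    · simp only [Bool.not_eq_true', decide_eq_false_iff_not] at h2
      exfalso
      apply h2
      rw [← hgf, hwd, pow_zero, one_mul, ← gf_mul, ← gf_mul, h1]
    · rw [List.any_eq_true] at h2
      obtain ⟨⟨k, l⟩, hkl, h3⟩ := h2
      rw [mem_prs] at hkl
      rw [decide_eq_true_eq, ← hgf] at h3
      have h4 := gf_injective h3
      rw [hwd] at h4
      refine ⟨k, hkl.1, l, hkl.2, ?_⟩
      rw [h4, map_mul, map_pow, map_pow, map_mul, map_mul]
  · intro s hs hss hs1 hst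
    obtain ⟨g, rfl⟩ := (hrange s).1 hs
    have h2 := of_allGood h.invol (good_gf g)
    rw [Bool.or_eq_true, Bool.or_eq_true, Bool.or_eq_true] at h2
    rcases h2 with ((h2 | h2) | h2) | h2
    · simp only [Bool.not_eq_true', decide_eq_false_iff_not] at h2
      exfalso
      apply h2
      have h4 : g * g = 1 := hι (by rw [map_mul, hss, map_one])
      rw [← gf_mul, h4, gf_one]
    · rw [decide_eq_true_eq, ← gf_one] at h2
      exfalso
      apply hs1
      rw [gf_injective h2, map_one]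
    · rw [decide_eq_true_eq, ← hT] at h2
      exfalso
      apply hst
      rw [gf_injective h2, htT]
    · rw [List.any_eq_true] at h2
      obtain ⟨r, hr, h3⟩ := h2
      rw [decide_eq_true_eq, ← hgf, ← hgf, hwd, pow_zero, one_mul, ← gf_mul, ← gf_mul] at h3
      have h4 := gf_injective h3
      refine ⟨ι (ev (lt E W X 1) r), hmem _, ?_⟩
      rw [mul_assoc, ← map_mul, h4, map_mul, ← mul_assoc, inv_mul_cancel, one_mul, map_pow, map_mul,
        map_mul]
  · intro y hy hy1 hord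
    obtain ⟨g, rfl⟩ := (hrange y).1 hy
    have h2 := of_allGood h.prime (good_gf g)
    rw [Bool.or_eq_true, Bool.or_eq_true, Bool.or_eq_true] at h2
    rcases h2 with ((h2 | h2) | h2) | h2
    · rw [decide_eq_true_eq, ← gf_one] at h2
      exfalso
      apply hy1
      rw [gf_injective h2, map_one]
    · simp only [Bool.not_eq_true', Bool.or_eq_false_iff, decide_eq_false_iff_not] at h2
      exfalso
      rcases hord with h3 | h3
      · apply h2.1
        have h4 : g * g = 1 := hι (by rw [map_mul, h3, map_one])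
        rw [← gf_mul, h4, gf_one]
      · apply h2.2
        have h4 : g * g * g = 1 := hι (by rw [map_mul, map_mul, h3, map_one])
        rw [← gf_mul, ← gf_mul, h4, gf_one]
    · left
      rw [List.any_eq_true] at h2
      obtain ⟨r, hr, h3⟩ := h2
      rw [decide_eq_true_eq, ← hgf] at h3
      refine ⟨r, hr, ?_⟩
      rw [hev, gf_injective h3]
    · right
      rw [List.any_eq_true] at h2
      obtain ⟨r, hr, h3⟩ := h2
      refine ⟨r, hr, ?_⟩
      rw [Bool.or_eq_true, decide_eq_true_eq, decide_eq_true_eq, ← hgf] at h3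
      rcases h3 with h3 | h3
      · left
        rw [hev, gf_injective h3]
      · right
        rw [← gf_mul, ← gf_one] at h3
        have h4 := gf_injective h3
        rw [hev, eq_inv_iff_mul_eq_one, ← map_mul, h4, map_one]

/-! ### Concrete elements -/

/-- `diag(i, 1)` -/
def mE : Matrix (Fin 2) (Fin 2) K9 := !![⟨0, 1⟩, ⟨0, 0⟩; ⟨0, 0⟩, ⟨1, 0⟩]
/-- `diag(-i, 1)` -/
def mEi : Matrix (Fin 2) (Fin 2) K9 := !![⟨0, 2⟩, ⟨0, 0⟩; ⟨0, 0⟩, ⟨1, 0⟩]
/-- the swap -/
def mW : Matrix (Fin 2) (Fin 2) K9 := !![⟨0, 0⟩, ⟨1, 0⟩; ⟨1, 0⟩, ⟨0, 0⟩]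
/-- element of order 3 -/
def mX : Matrix (Fin 2) (Fin 2) K9 := !![⟨1, 1⟩, ⟨1, 1⟩; ⟨2, 1⟩, ⟨1, 2⟩]
/-- its inverse -/
def mXi : Matrix (Fin 2) (Fin 2) K9 := !![⟨1, 2⟩, ⟨2, 2⟩; ⟨1, 2⟩, ⟨1, 1⟩]
/-- `-1` -/
def mT : Matrix (Fin 2) (Fin 2) K9 := !![⟨2, 0⟩, ⟨0, 0⟩; ⟨0, 0⟩, ⟨2, 0⟩]

/-- `diag(i, 1)` -/
def E : Cfsg.GU 2 K9 3 := ⟨⟨mE, mEi, by decide +kernel, by decide +kernel⟩, fl_mem_of_good (by decide +kernel)⟩
/-- the swap -/
def W : Cfsg.GU 2 K9 3 := ⟨⟨mW, mW, by decide +kernel, by decide +kernel⟩, fl_mem_of_good (by decide +kernel)⟩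
/-- element of order 3 -/
def X : Cfsg.GU 2 K9 3 := ⟨⟨mX, mXi, by decide +kernel, by decide +kernel⟩, fl_mem_of_good (by decide +kernel)⟩
/-- `-1` -/
def T : Cfsg.GU 2 K9 3 := ⟨⟨mT, mT, by decide +kernel, by decide +kernel⟩, fl_mem_of_good (by decide +kernel)⟩

/-- flat `diag(a, b)` -/
def dg (a b : K9) : V4 := (a, ⟨0, 0⟩, ⟨0, 0⟩, b)

/-- flat antidiagonal matrix -/
def ad (a b : K9) : V4 := (⟨0, 0⟩, a, b, ⟨0, 0⟩)

/-- flat `X` -/
def fX : V4 := (⟨1, 1⟩, ⟨1, 1⟩, ⟨2, 1⟩, ⟨1, 2⟩)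
/-- flat `X⁻¹` -/
def fXi : V4 := (⟨1, 2⟩, ⟨2, 2⟩, ⟨1, 2⟩, ⟨1, 1⟩)

theorem check1 : Check (dg ⟨0, 1⟩ ⟨1, 0⟩) (dg ⟨0, 2⟩ ⟨1, 0⟩) (ad ⟨1, 0⟩ ⟨1, 0⟩) fX fXi (dg ⟨2, 0⟩ ⟨2, 0⟩) where
  hEi := by decide +kernel
  hXi := by decide +kernel
  hw := by decide +kernel
  rels := by decide +kernel
  ht := by decide +kernel
  t_ne := by decide +kernel
  indep := by decide +kernel
  diag := by decide +kernel
  invol := by decide +kernel
  prime := by decide +kernel

theorem check2 : Check (dg ⟨2, 0⟩ ⟨0, 1⟩) (dg ⟨2, 0⟩ ⟨0, 2⟩) (ad ⟨2, 0⟩ ⟨2, 0⟩) fX fXi (dg ⟨2, 0⟩ ⟨2, 0⟩) where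
  hEi := by decide +kernel
  hXi := by decide +kernel
  hw := by decide +kernel
  rels := by decide +kernel
  ht := by decide +kernel
  t_ne := by decide +kernel
  indep := by decide +kernel
  diag := by decide +kernel
  invol := by decide +kernel
  prime := by decide +kernel

theorem checkT : allGood (fun v => !decide (m2 v v = one4) || decide (v = one4) ||
    !decide (m2 v (dg ⟨0, 1⟩ ⟨1, 0⟩) = m2 (dg ⟨0, 1⟩ ⟨1, 0⟩) v) ||
    !decide (m2 v (ad ⟨1, 0⟩ ⟨1, 0⟩) = m2 (ad ⟨1, 0⟩ ⟨1, 0⟩) v) || decide (v = dg ⟨2, 0⟩ ⟨2, 0⟩)) = true := by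
  decide +kernel

theorem gf_E : gf E = dg ⟨0, 1⟩ ⟨1, 0⟩ := by unfold gf E dg mE; rfl
theorem gf_Ei : gf E⁻¹ = dg ⟨0, 2⟩ ⟨1, 0⟩ := by unfold gf E dg mEi; rfl
theorem gf_W : gf W = ad ⟨1, 0⟩ ⟨1, 0⟩ := by unfold gf W ad mW; rfl
theorem gf_X : gf X = fX := by unfold gf X fX mX; rfl
theorem gf_Xi : gf X⁻¹ = fXi := by unfold gf X fXi mXi; rfl
theorem gf_T : gf T = dg ⟨2, 0⟩ ⟨2, 0⟩ := by unfold gf T dg mT; rfl

theorem gf_E2 : gf (E ^ 2 * (W * E * W)) = dg ⟨2, 0⟩ ⟨0, 1⟩ := by
  rw [pow_two, gf_mul, gf_mul, gf_mul, gf_mul, gf_E, gf_W]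
  unfold m2 dg ad
  decide +kernel

theorem gf_E2i : gf (E ^ 2 * (W * E * W))⁻¹ = dg ⟨2, 0⟩ ⟨0, 2⟩ := by
  have hW : W⁻¹ = W := by
    apply inv_eq_of_mul_eq_one_right
    apply gf_injective
    rw [gf_mul, gf_W, gf_one]
    exact check1.hw
  rw [pow_two, _root_.mul_inv_rev, _root_.mul_inv_rev, _root_.mul_inv_rev, _root_.mul_inv_rev, hW, gf_mul, gf_mul, gf_mul, gf_mul,
    gf_Ei, gf_W]
  unfold m2 dg ad
  decide +kernel

theorem gf_TW : gf (T * W) = ad ⟨2, 0⟩ ⟨2, 0⟩ := by
  rw [gf_mul, gf_T, gf_W]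
  unfold m2 dg ad
  decide +kernel

/-- Both frames, from an isomorphism of the centralizer with `GU₂(3)`. -/
theorem exists_frames {G : Type*} [Group G] {t : G} (ht : orderOf t = 2)
    (φ : Subgroup.centralizer ({t} : Set G) ≃* Cfsg.GU 2 K9 3) :
    ∃ e w x : G, Frame t e w x ∧ Frame t (e ^ 2 * (w * e * w)) (t * w) x := by
  have htt : t * t = 1 := by rw [← pow_two, ← ht, pow_orderOf_eq_one]
  have ht1 : t ≠ 1 := by
    intro h
    rw [h, orderOf_one] at ht
    norm_num at ht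
  have htm : t ∈ Subgroup.centralizer ({t} : Set G) := by
    rw [Subgroup.mem_centralizer_singleton_iff]
  let t' : Subgroup.centralizer ({t} : Set G) := ⟨t, htm⟩
  have hcomm : ∀ y : Subgroup.centralizer ({t} : Set G), t' * y = y * t' := by
    intro y
    apply Subtype.ext
    exact ((Subgroup.mem_centralizer_singleton_iff).1 y.2).symm
  have hT : φ t' = T := by
    apply gf_injective
    rw [gf_T]
    have h1 := of_allGood checkT (good_gf (φ t'))
    rw [Bool.or_eq_true, Bool.or_eq_true, Bool.or_eq_true, Bool.or_eq_true] at h1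
    rcases h1 with (((h1 | h1) | h1) | h1) | h1
    · simp only [Bool.not_eq_true', decide_eq_false_iff_not] at h1
      exfalso
      apply h1
      have h2 : φ t' * φ t' = 1 := by
        rw [← map_mul, ← map_one φ]
        congr 1
        exact Subtype.ext htt
      rw [← gf_mul, h2, gf_one]
    · rw [decide_eq_true_eq, ← gf_one] at h1
      exfalso
      apply ht1
      have h2 := gf_injective h1
      have h3 : t' = 1 := φ.injective (h2.trans (map_one φ).symm)
      exact congrArg Subtype.val h3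
    · simp only [Bool.not_eq_true', decide_eq_false_iff_not] at h1
      exfalso
      apply h1
      have h2 : φ t' * E = E * φ t' := by
        have := congrArg φ (hcomm (φ.symm E))
        rwa [map_mul, map_mul, φ.apply_symm_apply] at this
      rw [← gf_E, ← gf_mul, ← gf_mul, h2]
    · simp only [Bool.not_eq_true', decide_eq_false_iff_not] at h1
      exfalso
      apply h1
      have h2 : φ t' * W = W * φ t' := by
        have := congrArg φ (hcomm (φ.symm W))
        rwa [map_mul, map_mul, φ.apply_symm_apply] at this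
      rw [← gf_W, ← gf_mul, ← gf_mul, h2]
    · rw [decide_eq_true_eq] at h1
      exact h1
  let ι : Cfsg.GU 2 K9 3 →* G := (Subgroup.subtype _).comp φ.symm.toMonoidHom
  have hι : Function.Injective ι := by
    intro a b h
    exact φ.symm.injective (Subtype.ext h)
  have hr : ∀ y, y ∈ Subgroup.centralizer ({t} : Set G) ↔ ∃ g, ι g = y := by
    intro y
    constructor
    · intro hy
      refine ⟨φ ⟨y, hy⟩, ?_⟩
      change ((φ.symm (φ ⟨y, hy⟩) : Subgroup.centralizer ({t} : Set G)) : G) = y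
      rw [φ.symm_apply_apply]
    · rintro ⟨g, rfl⟩
      exact (φ.symm g).2
  have htT : t = ι T := by
    change t = ((φ.symm T : Subgroup.centralizer ({t} : Set G)) : G)
    rw [← hT, φ.symm_apply_apply]
  have F1 := frame_of ι hι hr E W X T htT gf_E gf_Ei gf_W gf_X gf_Xi gf_T check1
  have F2 := frame_of ι hι hr (E ^ 2 * (W * E * W)) (T * W) X T htT gf_E2 gf_E2i gf_TW gf_X gf_Xi gf_T check2
  refine ⟨ι E, ι W, ι X, F1, ?_⟩
  rw [map_mul, map_mul, map_pow, map_mul, map_mul, ← htT] at F2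
  exact F2

end Cfsg.Agent.Classification.RTwo.USixModel
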