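import Mathlib
import Cfsg.Agent.SporadicRecognition.CosetCertHyp
import Cfsg.Agent.Classification.RTwo.USixCert
import Cfsg.Agent.Classification.RTwo.USixFrame

/-!
# The closure relation

`q0 = t ^ (d x d⁻¹ x d)`. If `q0` commutes with an element of order 2 or 3 of `C(t)`, then it commutes with
`e x e⁻¹` (all the other cases collapse, by certified coset enumerations), and then `⟨C(t), d⟩` has order at
most 6048.
-/

set_option autoImplicit false

namespace Cfsg.Agent.Classification.RTwo.USixBound

open Cfsg.Agent.SporadicRecognition.CosetCert Cfsg.Agent.SporadicRecognition.CosetCertHyp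
open Cfsg.Agent.Classification.RTwo.USixFrame
open Cfsg.Agent.Classification.RTwo

variable {G : Type*} [Group G]

/-- word for `q0` -/
def q0w : List ℕ := [6, 4, 5, 4, 6, 0, 2, 0, 2, 0, 2, 0, 2, 5, 3, 6, 3, 5]
/-- word for the inverse of `q0` -/
def q0i : List ℕ := [6, 4, 5, 4, 6, 2, 1, 2, 1, 2, 1, 2, 1, 5, 3, 6, 3, 5]

/-- relators without the closure relation -/
def base : List (List ℕ) :=
  [[3, 3, 3], [5, 5, 5], [0, 0, 0, 0], [2, 5, 2, 5], [4, 0, 3, 3, 2, 0], [6, 2, 0, 2, 5, 0],
    [6, 0, 5, 2, 1, 2, 0], [0, 2, 0, 2, 1, 2, 1, 2], [2, 3, 2, 3, 3, 2, 1, 1]]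

/-- inverse of letters -/
def li : ℕ → ℕ
  | 0 => 1
  | 1 => 0
  | 2 => 2
  | 3 => 4
  | 4 => 3
  | 5 => 6
  | 6 => 5
  | n => n

theorem lt_li {e w x d : G} (hw : w * w = 1) (n : ℕ) (hn : n < 7) : lt e w x d n * lt e w x d (li n) = 1 := by
  interval_cases n <;> simp [lt, li, hw]

theorem ev_congr {e w x d d' : G} (r : List ℕ) (h : ∀ a ∈ r, a < 5) :
    ev (lt e w x d) r = ev (lt e w x d') r := by
  unfold ev
  congr 1
  apply List.map_congr_left
  intro a ha
  have := h a ha
  interval_cases a <;> rfl

theorem ev_inv {e w x d : G} (hw : w * w = 1) (r : List ℕ) (h : ∀ a ∈ r, a < 7) :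
    ev (lt e w x d) ((r.map li).reverse) = (ev (lt e w x d) r)⁻¹ := by
  induction r with
  | nil => simp [ev]
  | cons a r ih =>
    have h1 : lt e w x d (li a) = (lt e w x d a)⁻¹ :=
      (inv_eq_of_mul_eq_one_right (lt_li hw a (h a (by simp)))).symm
    rw [List.map_cons, List.reverse_cons, ev_append, ih (fun b hb => h b (by simp [hb])), ev_cons,
      ev_cons, ev_nil, mul_one, h1, mul_inv_rev]

/-- The relations of the pair `(frame, d)`. -/
structure Rels (e w x d : G) : Prop where
  hw : w * w = 1
  base : ∀ r ∈ base, ev (lt e w x d) r = 1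

theorem Rels.of_frame {t e w x d : G} (F : Frame t e w x) (A : Act e w d) (hd : w * d * w * d = 1) :
    Rels e w x d where
  hw := F.hw
  base := by
    have hr : ∀ r ∈ guRels, ev (lt e w x d) r = 1 := by
      intro r hr
      rw [ev_congr (d' := 1) r]
      · exact F.rels r hr
      · simp only [guRels, List.mem_cons, List.not_mem_nil, or_false] at hr
        rcases hr with rfl | rfl | rfl | rfl | rfl <;> decide
    intro r hrb
    simp only [USixBound.base, List.mem_cons, List.not_mem_nil, or_false] at hrb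
    rcases hrb with rfl | rfl | rfl | rfl | rfl | rfl | rfl | rfl | rfl
    · exact hr _ (by simp [guRels])
    · have := A.cube
      rw [pow_succ, pow_succ, pow_one] at this
      simpa [ev, lt, mul_assoc] using this
    · exact hr _ (by simp [guRels])
    · simpa [ev, lt, mul_assoc] using hd
    · exact hr _ (by simp [guRels])
    · -- d⁻¹ w e w d e
      have := A.hf
      rw [cj_apply] at this
      have h4 := F.e4
      calc ev (lt e w x d) [6, 2, 0, 2, 5, 0] = (d⁻¹ * (w * e * w) * d) * e := by simp [ev, lt, mul_assoc]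
        _ = 1 := by rw [this, ← pow_succ]; exact h4
    · have := A.he
      rw [cj_apply] at this
      have h4 := F.e4
      calc ev (lt e w x d) [6, 0, 5, 2, 1, 2, 0] = (d⁻¹ * e * d) * (w * e⁻¹ * w) * e := by
            simp [ev, lt, mul_assoc]
        _ = e ^ 3 * (w * e * w * w * e⁻¹ * w) * e := by rw [this]; group
        _ = e ^ 3 * (w * e * (w * w) * e⁻¹ * w) * e := by group
        _ = e ^ 3 * (w * e * 1 * e⁻¹ * w) * e := by rw [F.hw]
        _ = e ^ 3 * (w * w) * e := by group
        _ = 1 := by rw [F.hw, mul_one, ← pow_succ]; exact h4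
    · exact hr _ (by simp [guRels])
    · exact hr _ (by simp [guRels])

/-- `q0` -/
def q0 (e w x d : G) : G := ev (lt e w x d) q0w

theorem ev_q0i {e w x d : G} (hw : w * w = 1) : ev (lt e w x d) q0i = (q0 e w x d)⁻¹ := by
  rw [q0, ← ev_inv hw q0w (by decide)]
  rfl

theorem hyp_of {e w x d : G} (R : Rels e w x d) (H : Subgroup G) (he : e ∈ H) (hwH : w ∈ H) (hx : x ∈ H)
    (C : Cert) (rels subw : List (List ℕ)) (y : List ℕ) (hy : ∀ a ∈ y, a < 7)
    (hrels : rels = base ++ [q0i ++ (y.map li).reverse ++ q0w ++ y]) (hsubw : subw = [[0], [2], [3]])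
    (hk : C.k = 7) (hinv : ∀ n, n < 7 → C.inv n = li n)
    (hcheck : checkHyp C rels subw = true)
    (hc : Commute (q0 e w x d) (ev (lt e w x d) y)) : Hyp C H (lt e w x d) := by
  refine hyp_of_checks H (lt e w x d) C rels subw ?_ ?_ ?_ ?_ hcheck
  · rw [hk]; rfl
  · intro n hn
    rw [hk] at hn ⊢
    rw [hinv n hn]
    refine ⟨?_, lt_li R.hw n hn⟩
    interval_cases n <;> decide
  · intro r hr
    rw [hrels, List.mem_append] at hr
    rcases hr with hr | hr
    · exact R.base r hr
    · rw [List.mem_singleton] at hr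
      subst hr
      rw [ev_append, ev_append, ev_append, ev_q0i R.hw, ev_inv R.hw y hy]
      change (q0 e w x d)⁻¹ * (ev (lt e w x d) y)⁻¹ * (q0 e w x d) * ev (lt e w x d) y = 1
      rw [mul_assoc, hc.eq]
      group
  · intro s hs
    rw [hsubw] at hs
    simp only [List.mem_cons, List.not_mem_nil, or_false] at hs
    rcases hs with rfl | rfl | rfl <;> simpa [ev, lt]

theorem mem_of_part {C : Cert} {H : Subgroup G} {g : ℕ → G} (hyp : Hyp C H g) (hP : Part C 0 C.N 1) {a : G}
    (ha : a ∈ Subgroup.closure (g '' {n | n < C.k})) : a ∈ H := by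
  obtain ⟨S, hS, hcov⟩ := closure_covered C H g (trans C g) hyp (trans_isTrans C g) hP
  obtain ⟨l, hl, hl'⟩ := hcov a ha
  obtain ⟨l1, hl1, hl1'⟩ := hcov 1 (Subgroup.one_mem _)
  have h : l = l1 := Finset.card_le_one.1 hS l hl l1 hl1
  subst h
  have h2 : Rel H a 1 := hl'.trans hl1'.symm
  unfold SporadicRecognition.CosetCert.Rel at h2
  simpa using h2

theorem d_mem_closure {e w x d : G} {C : Cert} (hk : C.k = 7) :
    d ∈ Subgroup.closure (lt e w x d '' {n | n < C.k}) :=
  Subgroup.subset_closure ⟨5, by rw [hk]; exact (by norm_num : (5 : ℕ) < 7), rfl⟩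

set_option maxRecDepth 100000 in
/-- The collapsing cases. -/
theorem collapse {e w x d : G} (R : Rels e w x d) (H : Subgroup G) (he : e ∈ H) (hwH : w ∈ H) (hx : x ∈ H)
    (y : List ℕ) (hy : y ∈ invWords ∨ y ∈ [[3], [1, 3, 0], [1, 1, 3, 0, 0]])
    (hc : Commute (q0 e w x d) (ev (lt e w x d) y)) : d ∈ H := by
  have key : ∀ (C : Cert) (rels subw : List (List ℕ)) (y : List ℕ), (∀ a ∈ y, a < 7) →
    rels = base ++ [q0i ++ (y.map li).reverse ++ q0w ++ y] → subw = [[0], [2], [3]] →
    C.k = 7 → (∀ n, n < 7 → C.inv n = li n) → checkHyp C rels subw = true → Part C 0 C.N 1 →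
    Commute (q0 e w x d) (ev (lt e w x d) y) → d ∈ H := by
    intro C rels subw y h1 h2 h3 h4 h5 h6 h7 h8
    exact mem_of_part (hyp_of R H he hwH hx C rels subw y h1 h2 h3 h4 h5 h6 h8) h7 (d_mem_closure h4)
  have hinv : ∀ (i : ℕ → ℕ), (∀ n, n < 7 → i n = li n) → ∀ n, n < 7 → i n = li n := fun _ h => h
  rcases hy with hy | hy
  · simp only [invWords, List.mem_cons, List.not_mem_nil, or_false] at hy
    rcases hy with rfl | rfl | rfl | rfl | rfl | rfl | rfl
    · exact key USixCert.I0.C USixCert.I0.rels USixCert.I0.subw _ (by decide) rfl rfl rfl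
        (by intro n hn; interval_cases n <;> rfl) (by decide +kernel) USixCert.I0.part hc
    · exact key USixCert.I1.C USixCert.I1.rels USixCert.I1.subw _ (by decide) rfl rfl rfl
        (by intro n hn; interval_cases n <;> rfl) (by decide +kernel) USixCert.I1.part hc
    · exact key USixCert.I2.C USixCert.I2.rels USixCert.I2.subw _ (by decide) rfl rfl rfl
        (by intro n hn; interval_cases n <;> rfl) (by decide +kernel) USixCert.I2.part hc
    · exact key USixCert.I3.C USixCert.I3.rels USixCert.I3.subw _ (by decide) rfl rfl rfl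
        (by intro n hn; interval_cases n <;> rfl) (by decide +kernel) USixCert.I3.part hc
    · exact key USixCert.I4.C USixCert.I4.rels USixCert.I4.subw _ (by decide) rfl rfl rfl
        (by intro n hn; interval_cases n <;> rfl) (by decide +kernel) USixCert.I4.part hc
    · exact key USixCert.I5.C USixCert.I5.rels USixCert.I5.subw _ (by decide) rfl rfl rfl
        (by intro n hn; interval_cases n <;> rfl) (by decide +kernel) USixCert.I5.part hc
    · exact key USixCert.I6.C USixCert.I6.rels USixCert.I6.subw _ (by decide) rfl rfl rfl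
        (by intro n hn; interval_cases n <;> rfl) (by decide +kernel) USixCert.I6.part hc
  · simp only [List.mem_cons, List.not_mem_nil, or_false] at hy
    rcases hy with rfl | rfl | rfl
    · exact key USixCert.P0.C USixCert.P0.rels USixCert.P0.subw _ (by decide) rfl rfl rfl
        (by intro n hn; interval_cases n <;> rfl) (by decide +kernel) USixCert.P0.part hc
    · exact key USixCert.P1.C USixCert.P1.rels USixCert.P1.subw _ (by decide) rfl rfl rfl
        (by intro n hn; interval_cases n <;> rfl) (by decide +kernel) USixCert.P1.part hc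
    · exact key USixCert.P3.C USixCert.P3.rels USixCert.P3.subw _ (by decide) rfl rfl rfl
        (by intro n hn; interval_cases n <;> rfl) (by decide +kernel) USixCert.P3.part hc

/-- The surviving case: the order is at most `63 |H|`. -/
theorem card_le {e w x d : G} (R : Rels e w x d) (H : Subgroup G) [Finite H] (he : e ∈ H) (hwH : w ∈ H)
    (hx : x ∈ H) (hc : Commute (q0 e w x d) (e * x * e⁻¹)) :
    Finite (Subgroup.closure ({e, w, x, d} : Set G)) ∧
      Nat.card (Subgroup.closure ({e, w, x, d} : Set G)) ≤ 63 * Nat.card H := by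
  have hc' : Commute (q0 e w x d) (ev (lt e w x d) [0, 3, 1]) := by
    have : ev (lt e w x d) [0, 3, 1] = e * x * e⁻¹ := by simp [ev, lt, mul_assoc]
    rw [this]; exact hc
  have hyp := hyp_of R H he hwH hx USixCert.P2.C USixCert.P2.rels USixCert.P2.subw [0, 3, 1] (by decide)
    rfl rfl rfl (by intro n hn; interval_cases n <;> rfl) (by decide +kernel) hc'
  have h := card_closure_le USixCert.P2.C H (lt e w x d) hyp USixCert.P2.part
  have hcl : Subgroup.closure (lt e w x d '' {n | n < USixCert.P2.C.k}) =
      Subgroup.closure ({e, w, x, d} : Set G) := by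
    apply le_antisymm
    · rw [Subgroup.closure_le]
      rintro y ⟨n, hn, rfl⟩
      have hn : n < 7 := hn
      have me : e ∈ Subgroup.closure ({e, w, x, d} : Set G) := Subgroup.subset_closure (by simp)
      have mw : w ∈ Subgroup.closure ({e, w, x, d} : Set G) := Subgroup.subset_closure (by simp)
      have mx : x ∈ Subgroup.closure ({e, w, x, d} : Set G) := Subgroup.subset_closure (by simp)
      have md : d ∈ Subgroup.closure ({e, w, x, d} : Set G) := Subgroup.subset_closure (by simp)
      interval_cases n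
      · exact me
      · exact Subgroup.inv_mem _ me
      · exact mw
      · exact mx
      · exact Subgroup.inv_mem _ mx
      · exact md
      · exact Subgroup.inv_mem _ md
    · rw [Subgroup.closure_le]
      rintro y (rfl | rfl | rfl | rfl)
      · exact Subgroup.subset_closure ⟨0, (by norm_num : (0 : ℕ) < 7), rfl⟩
      · exact Subgroup.subset_closure ⟨2, (by norm_num : (2 : ℕ) < 7), rfl⟩
      · exact Subgroup.subset_closure ⟨3, (by norm_num : (3 : ℕ) < 7), rfl⟩
      · exact Subgroup.subset_closure ⟨5, (by norm_num : (5 : ℕ) < 7), rfl⟩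
  rw [hcl] at h
  exact h

end Cfsg.Agent.Classification.RTwo.USixBound
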