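import Mathlib
import Cfsg.Agent.Classification.RTwo.UThreeThree
import Cfsg.Agent.Classification.RTwo.USixBound

/-!
# Generators and relations in `SU₃(3)`

Explicit elements of `SU 3 K9 3` satisfying the relations; they generate a subgroup of order 6048.
-/

set_option autoImplicit false

namespace Cfsg.Agent.Classification.RTwo.USixSU

open Cfsg.Agent.SporadicRecognition.CosetCert Cfsg.Agent.Classification.RTwo.USixFrame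
open Cfsg.Agent.Classification.RTwo.USixBound
open Cfsg.Agent.Classification.RTwo.UThreeThree
open Matrix

/-- `diag(i, 1, -i)` -/
def mE : Matrix (Fin 3) (Fin 3) K9 := !![⟨0, 1⟩, ⟨0, 0⟩, ⟨0, 0⟩; ⟨0, 0⟩, ⟨1, 0⟩, ⟨0, 0⟩; ⟨0, 0⟩, ⟨0, 0⟩, ⟨0, 2⟩]
/-- `diag(-i, 1, i)` -/
def mEi : Matrix (Fin 3) (Fin 3) K9 := !![⟨0, 2⟩, ⟨0, 0⟩, ⟨0, 0⟩; ⟨0, 0⟩, ⟨1, 0⟩, ⟨0, 0⟩; ⟨0, 0⟩, ⟨0, 0⟩, ⟨0, 1⟩]
/-- the swap -/
def mW : Matrix (Fin 3) (Fin 3) K9 := !![⟨0, 0⟩, ⟨1, 0⟩, ⟨0, 0⟩; ⟨1, 0⟩, ⟨0, 0⟩, ⟨0, 0⟩; ⟨0, 0⟩, ⟨0, 0⟩, ⟨2, 0⟩]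
/-- an element of order 3 -/
def mX : Matrix (Fin 3) (Fin 3) K9 := !![⟨1, 1⟩, ⟨1, 1⟩, ⟨0, 0⟩; ⟨2, 1⟩, ⟨1, 2⟩, ⟨0, 0⟩; ⟨0, 0⟩, ⟨0, 0⟩, ⟨1, 0⟩]
/-- its inverse -/
def mXi : Matrix (Fin 3) (Fin 3) K9 := !![⟨1, 2⟩, ⟨2, 2⟩, ⟨0, 0⟩; ⟨1, 2⟩, ⟨1, 1⟩, ⟨0, 0⟩; ⟨0, 0⟩, ⟨0, 0⟩, ⟨1, 0⟩]
/-- a monomial element of order 3 -/
def mD : Matrix (Fin 3) (Fin 3) K9 := !![⟨0, 0⟩, ⟨2, 0⟩, ⟨0, 0⟩; ⟨0, 0⟩, ⟨0, 0⟩, ⟨2, 0⟩; ⟨1, 0⟩, ⟨0, 0⟩, ⟨0, 0⟩]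
/-- its inverse -/
def mDi : Matrix (Fin 3) (Fin 3) K9 := !![⟨0, 0⟩, ⟨0, 0⟩, ⟨1, 0⟩; ⟨2, 0⟩, ⟨0, 0⟩, ⟨0, 0⟩; ⟨0, 0⟩, ⟨2, 0⟩, ⟨0, 0⟩]

theorem gE : IsGood mE := by decide +kernel
theorem gW : IsGood mW := by decide +kernel
theorem gX : IsGood mX := by decide +kernel
theorem gD : IsGood mD := by decide +kernel
theorem gEi : IsGood mEi := by decide +kernel
theorem gXi : IsGood mXi := by decide +kernel
theorem gDi : IsGood mDi := by decide +kernel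

theorem inv_E : gE.su⁻¹ = gEi.su := by
  apply inv_eq_of_mul_eq_one_right
  apply su_ext
  change mE * mEi = 1
  decide +kernel

theorem inv_X : gX.su⁻¹ = gXi.su := by
  apply inv_eq_of_mul_eq_one_right
  apply su_ext
  change mX * mXi = 1
  decide +kernel

theorem inv_D : gD.su⁻¹ = gDi.su := by
  apply inv_eq_of_mul_eq_one_right
  apply su_ext
  change mD * mDi = 1
  decide +kernel

/-- letters -/
def lm : ℕ → Matrix (Fin 3) (Fin 3) K9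
  | 0 => mE
  | 1 => mEi
  | 2 => mW
  | 3 => mX
  | 4 => mXi
  | 5 => mD
  | 6 => mDi
  | _ => 1

/-- letters in `SU` -/
def ls : ℕ → Cfsg.SU 3 K9 3 := lt gE.su gW.su gX.su gD.su

theorem mt_ls (n : ℕ) : mt (ls n) = lm n := by
  rcases n with _ | _ | _ | _ | _ | _ | _ | n
  · rfl
  · change mt (gE.su⁻¹) = mEi
    rw [inv_E]; rfl
  · rfl
  · rfl
  · change mt (gX.su⁻¹) = mXi
    rw [inv_X]; rfl
  · rfl
  · change mt (gD.su⁻¹) = mDi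
    rw [inv_D]; rfl
  · rfl

/-- action of a word on a vector -/
def act (r : List ℕ) (v : K9 × K9 × K9) : K9 × K9 × K9 := r.foldr (fun n v => app (lm n) v) v

theorem app_ev (r : List ℕ) (v : K9 × K9 × K9) : app (mt (ev ls r)) v = act r v := by
  induction r with
  | nil => exact app_one v
  | cons a r ih =>
    rw [ev_cons, mt_mul, app_mul, ih, mt_ls]
    rfl

/-- basis vectors -/
def b1 : K9 × K9 × K9 := (⟨1, 0⟩, ⟨0, 0⟩, ⟨0, 0⟩)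
/-- basis vectors -/
def b2 : K9 × K9 × K9 := (⟨0, 0⟩, ⟨1, 0⟩, ⟨0, 0⟩)
/-- basis vectors -/
def b3 : K9 × K9 × K9 := (⟨0, 0⟩, ⟨0, 0⟩, ⟨1, 0⟩)

theorem app_b1 (M : Matrix (Fin 3) (Fin 3) K9) : app M b1 = (M 0 0, M 1 0, M 2 0) := by
  have h1 : (⟨1, 0⟩ : K9) = 1 := rfl
  have h0 : (⟨0, 0⟩ : K9) = 0 := rfl
  simp [app, b1, h1, h0]

theorem app_b2 (M : Matrix (Fin 3) (Fin 3) K9) : app M b2 = (M 0 1, M 1 1, M 2 1) := by
  have h1 : (⟨1, 0⟩ : K9) = 1 := rfl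
  have h0 : (⟨0, 0⟩ : K9) = 0 := rfl
  simp [app, b2, h1, h0]

theorem app_b3 (M : Matrix (Fin 3) (Fin 3) K9) : app M b3 = (M 0 2, M 1 2, M 2 2) := by
  have h1 : (⟨1, 0⟩ : K9) = 1 := rfl
  have h0 : (⟨0, 0⟩ : K9) = 0 := rfl
  simp [app, b3, h1, h0]

theorem eq_of_app {M N : Matrix (Fin 3) (Fin 3) K9} (h1 : app M b1 = app N b1) (h2 : app M b2 = app N b2)
    (h3 : app M b3 = app N b3) : M = N := by
  rw [app_b1, app_b1, Prod.mk.injEq, Prod.mk.injEq] at h1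
  rw [app_b2, app_b2, Prod.mk.injEq, Prod.mk.injEq] at h2
  rw [app_b3, app_b3, Prod.mk.injEq, Prod.mk.injEq] at h3
  refine Matrix.ext fun i j => ?_
  fin_cases i <;> fin_cases j
  · exact h1.1
  · exact h2.1
  · exact h3.1
  · exact h1.2.1
  · exact h2.2.1
  · exact h3.2.1
  · exact h1.2.2
  · exact h2.2.2
  · exact h3.2.2

theorem ev_eq_of_act {r s : List ℕ} (h1 : act r b1 = act s b1) (h2 : act r b2 = act s b2)
    (h3 : act r b3 = act s b3) : ev ls r = ev ls s := by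
  apply su_ext
  apply eq_of_app
  · rw [app_ev, app_ev, h1]
  · rw [app_ev, app_ev, h2]
  · rw [app_ev, app_ev, h3]

theorem rels_SU : Rels gE.su gW.su gX.su gD.su where
  hw := by
    apply su_ext
    change mW * mW = 1
    decide +kernel
  base := by
    have h : ∀ r ∈ USixBound.base, act r b1 = b1 ∧ act r b2 = b2 ∧ act r b3 = b3 := by decide +kernel
    intro r hr
    obtain ⟨h1, h2, h3⟩ := h r hr
    exact ev_eq_of_act (s := []) h1 h2 h3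

theorem commute_SU : Commute (q0 gE.su gW.su gX.su gD.su) (gE.su * gX.su * gE.su⁻¹) := by
  have h1 : gE.su * gX.su * gE.su⁻¹ = ev ls [0, 3, 1] := by simp [ev, ls, lt, mul_assoc]
  rw [h1]
  change ev ls q0w * ev ls [0, 3, 1] = ev ls [0, 3, 1] * ev ls q0w
  rw [← ev_append, ← ev_append]
  apply ev_eq_of_act <;> decide +kernel

/-! ### Lower bound for the order -/

/-- code of a vector -/
def code (v : K9 × K9 × K9) : ℕ :=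
  v.1.re.val + 3 * v.1.im.val + 9 * v.2.1.re.val + 27 * v.2.1.im.val + 81 * v.2.2.re.val + 243 * v.2.2.im.val

/-- words for the orbit of `b3` -/
def L1 : List (List ℕ) := [
    [6], [6,2], [6,1], [6,0], [5,2], [5], [5,0], [4,6,1], [3,5,0], [3,6,0], [4,5,2], [3,6], [4,6,2], [4,5,0],
    [3,5], [5,1], [3,5,2], [4,5,1], [4,6], [3,6,2], [4,5], [3,6,1], [3,5,1], [4,6,0], [], [6,4,5,4,5],
    [6,4,5,3,6,1], [6,4,5,3,5,1], [6,4,5,4,6,0], [6,4,6,3,6,1], [6,4,6,4,5,1], [6,4,6,4,6,2], [6,4,6,3,5,0],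
    [6,3,6,4,6,0], [6,3,6,3,6,2], [6,3,6,3,5], [6,3,6,4,5,2], [5,4,6,3,5,0], [5,4,5,4,5,2], [5,3,6,3,6,0],
    [5,3,5,3,6,2], [5,4,6,4,6,2], [5,4,5,3,6,0], [5,3,6,4,5,0], [5,3,5,4,6], [6,3,5,4,6,1], [6,3,5,3,5,0],
    [6,3,5,3,6,0], [6,3,5,4,5,2], [5,4,6,4,5,1], [5,4,5,3,5,0], [5,3,6,4,6], [5,3,5,4,5,1], [5,4,6,3,6,1],
    [5,4,5,4,6,1], [5,3,6,3,5,1], [5,3,5,3,5,2], [2], [6,4,6,3,5,1], [6,4,6,4,6], [6,4,6,4,5,0], [6,4,6,3,6,0],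
    [6,4,5,4,6,1], [6,4,5,3,5,0], [6,4,5,3,6,0], [6,4,5,4,5,2], [6,3,5,4,5], [6,3,5,3,6,1], [6,3,5,3,5,1],
    [6,3,5,4,6,0], [5,4,5,4,6,0], [5,4,6,3,6,0], [5,3,5,3,5], [5,3,6,3,5,0], [5,4,5,3,5,1], [5,4,6,4,5,0],
    [5,3,5,4,5,0], [5,3,6,4,6,2], [6,3,6,4,5], [6,3,6,3,5,2], [6,3,6,3,6], [6,3,6,4,6,1], [5,4,5,3,6,1],
    [5,4,6,4,6], [5,3,5,4,6,2], [5,3,6,4,5,1], [5,4,5,4,5], [5,4,6,3,5,1], [5,3,5,3,6], [5,3,6,3,6,1], [1],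
    [6,3,5,3,6], [6,3,5,4,6,2], [6,3,5,4,5,0], [6,3,5,3,5], [6,3,6,3,5,1], [6,3,6,4,6], [6,3,6,4,5,0],
    [6,3,6,3,6,0], [6,4,5,3,5,2], [6,4,5,4,5,1], [6,4,5,4,6], [6,4,5,3,6,2], [5,3,5,4,5,2], [5,3,6,4,6,1],
    [5,4,6,4,5,2], [5,4,5,3,5], [5,3,5,3,6,0], [5,3,6,3,6], [5,4,6,3,5], [5,4,5,4,5,0], [6,4,6,4,6,0],
    [6,4,6,3,6,2], [6,4,6,3,5], [6,4,6,4,5,2], [5,3,5,3,5,0], [5,3,6,3,5,2], [5,4,6,3,6,2], [5,4,5,4,6,2],
    [5,3,5,4,6,1], [5,3,6,4,5], [5,4,6,4,6,0], [5,4,5,3,6], [5,4,5], [5,3,5,2], [5,3,6], [5,4,6,1], [4,5,4,6,1],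
    [4,6,3,5,1], [3,6,4,5], [3,5,4,5], [4,6,3,6,1], [4,5,4,5], [3,5,4,6,1], [3,6,4,6,0], [3,5,3,5,2], [3,6,3,6,1],
    [4,5,3,6], [4,6,4,5], [6,4,6,0], [6,3,5,1], [3,6,3,5,1], [3,5,3,6], [4,6,4,6,0], [4,5,3,5,2], [6,3,6,1],
    [6,4,5], [5,3,6,1], [5,4,5,1], [5,4,6,2], [5,3,5,0], [4,5,3,5,0], [4,6,4,6], [3,6,3,5,2], [3,5,3,6,1],
    [4,6,4,5,1], [4,5,3,6,1], [3,5,3,5,0], [3,6,3,6,2], [3,5,4,5,1], [3,6,4,5,1], [4,5,4,6,2], [4,6,3,5,2],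
    [6,3,6,2], [6,4,6], [3,6,4,6], [3,5,4,6,2], [4,6,3,6,2], [4,5,4,5,1], [6,4,5,1], [6,3,5,2], [0], [6,3,6,3,6,1],
    [6,3,6,4,5,1], [6,3,6,4,6,2], [6,3,6,3,5,0], [6,3,5,3,5,2], [6,3,5,4,5,1], [6,3,5,4,6], [6,3,5,3,6,2],
    [6,4,6,4,5], [6,4,6,3,5,2], [6,4,6,3,6], [6,4,6,4,6,1], [5,3,6,4,5,2], [5,3,5,4,6,0], [5,4,5,3,6,2],
    [5,4,6,4,6,1], [5,3,6,3,5], [5,3,5,3,5,1], [5,4,5,4,6], [5,4,6,3,6], [6,4,5,3,6], [6,4,5,4,6,2], [6,4,5,4,5,0],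
    [6,4,5,3,5], [5,3,6,3,6,2], [5,3,5,3,6,1], [5,4,5,4,5,1], [5,4,6,3,5,2], [5,3,6,4,6,0], [5,3,5,4,5],
    [5,4,5,3,5,2], [5,4,6,4,5], [5,3,5,1], [5,4,6], [5,4,5,0], [5,3,6,0], [4,5,3,6,0], [4,6,4,5,0], [3,6,3,6],
    [3,5,3,5,1], [4,6,4,6,2], [4,5,3,5,1], [3,5,3,6,0], [3,6,3,5], [3,5,4,6], [3,6,4,6,2], [4,5,4,5,0], [4,6,3,6],
    [6,3,5], [6,4,5,0], [3,6,4,5,0], [3,5,4,5,0], [4,6,3,5], [4,5,4,6], [6,4,6,2], [6,3,6], [5,4,6,0], [5,3,6,2],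
    [5,3,5], [5,4,5,2], [4,5,4,5,2], [4,6,3,6,0], [3,6,4,6,1], [3,5,4,6,0], [4,6,3,5,0], [4,5,4,6,0], [3,5,4,5,2],
    [3,6,4,5,2], [3,5,3,6,2], [3,6,3,5,0], [4,5,3,5], [4,6,4,6,1], [6,4,5,2], [6,3,6,0], [3,6,3,6,0], [3,5,3,5],
    [4,6,4,5,2], [4,5,3,6,2], [6,3,5,0], [6,4,6,1]]

/-- words for the stabiliser of `b3` -/
def L2 : List (List ℕ) := [
    [], [3,2,4,0,0], [2,1,2,0], [4,1,4,0], [0,0,2], [2,0,0], [0,2,0], [0,3,1], [3,0,2,0], [1,4,0], [0,3,2,0], [3],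
    [2,4,0,0], [4,0,2,0], [3,2,0,0], [1,2,1], [1,4,2,1], [4,1,2,1], [4], [0,0,3,2], [1,3,0], [4,0,3,1], [0,4,1],
    [2,0,3,0]]

theorem L1_chain : List.IsChain (· < ·) (L1.map fun r => code (act r b3)) := by decide +kernel

theorem L2_chain : List.IsChain (· < ·) (L2.map fun r => code (act r b1)) := by decide +kernel

theorem L2_fix : ∀ r ∈ L2, act r b3 = b3 := by decide +kernel

theorem L1_length : L1.length = 252 := by decide +kernel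
theorem L2_length : L2.length = 24 := by decide +kernel

theorem get_injective {L : List (List ℕ)} {f : List ℕ → ℕ} (h : List.IsChain (· < ·) (L.map f)) {i j : Fin L.length}
    (hij : f (L.get i) = f (L.get j)) : i = j := by
  have h1 : (L.map f).Nodup := (List.isChain_iff_pairwise.1 h).imp (fun h => h.ne)
  have h2 := (List.nodup_iff_injective_get.1 h1)
  have h3 : (⟨i, by simp⟩ : Fin (L.map f).length) = ⟨j, by simp⟩ := by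
    apply h2
    simpa using hij
  exact Fin.ext (by simpa using h3)

theorem act_append (r s : List ℕ) (v : K9 × K9 × K9) : act (r ++ s) v = act r (act s v) := by
  simp [act, List.foldr_append]

theorem ls_mem (n : ℕ) : ls n ∈ Subgroup.closure ({gE.su, gW.su, gX.su, gD.su} : Set (Cfsg.SU 3 K9 3)) := by
  have me : gE.su ∈ Subgroup.closure ({gE.su, gW.su, gX.su, gD.su} : Set (Cfsg.SU 3 K9 3)) :=
    Subgroup.subset_closure (by simp)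
  have mw : gW.su ∈ Subgroup.closure ({gE.su, gW.su, gX.su, gD.su} : Set (Cfsg.SU 3 K9 3)) :=
    Subgroup.subset_closure (by simp)
  have mx : gX.su ∈ Subgroup.closure ({gE.su, gW.su, gX.su, gD.su} : Set (Cfsg.SU 3 K9 3)) :=
    Subgroup.subset_closure (by simp)
  have md : gD.su ∈ Subgroup.closure ({gE.su, gW.su, gX.su, gD.su} : Set (Cfsg.SU 3 K9 3)) :=
    Subgroup.subset_closure (by simp)
  rcases n with _ | _ | _ | _ | _ | _ | _ | n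
  · exact me
  · exact Subgroup.inv_mem _ me
  · exact mw
  · exact mx
  · exact Subgroup.inv_mem _ mx
  · exact md
  · exact Subgroup.inv_mem _ md
  · exact Subgroup.one_mem _

theorem ev_mem (r : List ℕ) : ev ls r ∈ Subgroup.closure ({gE.su, gW.su, gX.su, gD.su} : Set (Cfsg.SU 3 K9 3)) := by
  induction r with
  | nil => exact Subgroup.one_mem _
  | cons a r ih =>
    rw [ev_cons]
    exact Subgroup.mul_mem _ (ls_mem a) ih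

theorem le_card [Finite (Cfsg.SU 3 K9 3)] :
    6048 ≤ Nat.card (Subgroup.closure ({gE.su, gW.su, gX.su, gD.su} : Set (Cfsg.SU 3 K9 3))) := by
  let f : Fin L1.length × Fin L2.length →
      Subgroup.closure ({gE.su, gW.su, gX.su, gD.su} : Set (Cfsg.SU 3 K9 3)) := fun p =>
    ⟨ev ls (L1.get p.1 ++ L2.get p.2), ev_mem _⟩
  have hf : Function.Injective f := by
    rintro ⟨i, j⟩ ⟨i', j'⟩ h
    have h1 : ev ls (L1.get i ++ L2.get j) = ev ls (L1.get i' ++ L2.get j') := congrArg Subtype.val h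
    have hfix : ∀ k : Fin L2.length, act (L2.get k) b3 = b3 := fun k => L2_fix _ (List.get_mem _ _)
    have h2 : act (L1.get i) b3 = act (L1.get i') b3 := by
      have h3 : app (mt (ev ls (L1.get i ++ L2.get j))) b3 = app (mt (ev ls (L1.get i' ++ L2.get j'))) b3 := by
        rw [h1]
      rwa [app_ev, app_ev, act_append, act_append, hfix, hfix] at h3
    have hii : i = i' := get_injective L1_chain (congrArg code h2)
    subst hii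
    rw [ev_append, ev_append] at h1
    have h4 := mul_left_cancel h1
    have h5 : act (L2.get j) b1 = act (L2.get j') b1 := by rw [← app_ev, h4, app_ev]
    have hjj : j = j' := get_injective L2_chain (congrArg code h5)
    rw [hjj]
  have h := Nat.card_le_card_of_injective f hf
  rw [Nat.card_prod, Nat.card_fin, Nat.card_fin, L1_length, L2_length] at h
  exact h

end Cfsg.Agent.Classification.RTwo.USixSU
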