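import Mathlib
import Cfsg.Agent.Classification.RTwo.USixSU
import Cfsg.Agent.Classification.RTwo.USixModel
import Cfsg.Agent.TwoFusion.GUTwo
import Cfsg.Agent.S0278
import Cfsg.Agent.S0283

/-!
# Identification of `PSU₃(3)` by the centralizer of an involution

If `C_G(t) = GU₂(3)`, `t` is conjugate in `G` to another involution of `C_G(t)` and `|G : C_G(t)| ≤ 99`, then
`G = PSU₃(3)`.
-/

set_option autoImplicit false

namespace Cfsg.Agent.Classification.RTwo.USix

open Cfsg.Agent.SporadicRecognition.CosetCert Cfsg.Agent.SporadicRecognition.CosetCertHyp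
open Cfsg.Agent.Classification.RTwo.USixFrame Cfsg.Agent.Classification.RTwo.USixBound
open Cfsg.Agent.Classification.RTwo.USixSU Cfsg.Agent.Classification.RTwo.UThreeThree
open Cfsg.Agent.Classification.RTwo

/-! ### `SU₃(3)` -/

theorem card_SU : Nat.card (Cfsg.SU 3 K9 3) = 6048 := by
  have h := Cfsg.Agent.S0278.result (F := K9) (q := 3) card_k9' 3 (by norm_num)
  have h2 : (∏ i ∈ Finset.range 3, (if Even i then 3 ^ (i + 1) + 1 else 3 ^ (i + 1) - 1)) = 4 * 8 * 28 := by
    decide
  rw [h2] at h
  norm_num at h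
  omega

instance finite_SU : Finite (Cfsg.SU 3 K9 3) := Nat.finite_of_card_ne_zero (by rw [card_SU]; norm_num)

theorem closure_SU : Subgroup.closure ({gE.su, gW.su, gX.su, gD.su} : Set (Cfsg.SU 3 K9 3)) = ⊤ := by
  apply Subgroup.eq_top_of_card_eq
  apply le_antisymm (Subgroup.card_le_card_group _)
  rw [card_SU]
  exact le_card

instance simple_SU : IsSimpleGroup (Cfsg.SU 3 K9 3) := by
  have := Cfsg.Agent.S0283.result (F := K9) (q := 3) card_k9' 3 le_rfl (by norm_num)
  exact (psuEquiv card_k9).symm.isSimpleGroup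

/-! ### The presented group -/

section pres

variable {G : Type*} [Group G]

theorem card_closure_three {e w x : G} (hw : w * w = 1) (hr : ∀ r ∈ guRels, ev (lt e w x 1) r = 1) :
    Finite (Subgroup.closure ({e, w, x} : Set G)) ∧ Nat.card (Subgroup.closure ({e, w, x} : Set G)) ≤ 96 := by
  have hyp : Hyp USixCert.K.C (⊥ : Subgroup G) (lt e w x 1) := by
    refine hyp_of_checks (⊥ : Subgroup G) (lt e w x 1) USixCert.K.C USixCert.K.rels USixCert.K.subw rfl ?_ hr ?_
      (by decide +kernel)
    · intro n hn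
      have hn : n < 5 := hn
      have h1 : USixCert.K.C.inv n = li n := by interval_cases n <;> rfl
      rw [h1]
      refine ⟨?_, lt_li hw n (by omega)⟩
      change li n < 5
      interval_cases n <;> decide
    · intro s hs
      exact absurd hs (by simp [USixCert.K.subw])
  have h := card_closure_le USixCert.K.C ⊥ (lt e w x 1) hyp USixCert.K.part
  have hcl : Subgroup.closure (lt e w x 1 '' {n | n < USixCert.K.C.k}) =
      Subgroup.closure ({e, w, x} : Set G) := by
    apply le_antisymm
    · rw [Subgroup.closure_le]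
      rintro y ⟨n, hn, rfl⟩
      have hn : n < 5 := hn
      have me : e ∈ Subgroup.closure ({e, w, x} : Set G) := Subgroup.subset_closure (by simp)
      have mw : w ∈ Subgroup.closure ({e, w, x} : Set G) := Subgroup.subset_closure (by simp)
      have mx : x ∈ Subgroup.closure ({e, w, x} : Set G) := Subgroup.subset_closure (by simp)
      interval_cases n
      · exact me
      · exact Subgroup.inv_mem _ me
      · exact mw
      · exact mx
      · exact Subgroup.inv_mem _ mx
    · rw [Subgroup.closure_le]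
      rintro y (rfl | rfl | rfl)
      · exact Subgroup.subset_closure ⟨0, (by norm_num : (0 : ℕ) < 5), rfl⟩
      · exact Subgroup.subset_closure ⟨2, (by norm_num : (2 : ℕ) < 5), rfl⟩
      · exact Subgroup.subset_closure ⟨3, (by norm_num : (3 : ℕ) < 5), rfl⟩
  rw [hcl] at h
  refine ⟨h.1, h.2.trans ?_⟩
  rw [Subgroup.card_bot, mul_one]

theorem guRels_of_rels {e w x d : G} (R : Rels e w x d) : ∀ r ∈ guRels, ev (lt e w x 1) r = 1 := by
  intro r hr
  rw [ev_congr (d' := d) r]
  · apply R.base
    simp only [guRels, List.mem_cons, List.not_mem_nil, or_false] at hr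
    rcases hr with rfl | rfl | rfl | rfl | rfl <;> simp [USixBound.base]
  · simp only [guRels, List.mem_cons, List.not_mem_nil, or_false] at hr
    rcases hr with rfl | rfl | rfl | rfl | rfl <;> decide

theorem card_closure_four {e w x d : G} (R : Rels e w x d)
    (hc : Commute (q0 e w x d) (e * x * e⁻¹)) :
    Finite (Subgroup.closure ({e, w, x, d} : Set G)) ∧
      Nat.card (Subgroup.closure ({e, w, x, d} : Set G)) ≤ 6048 := by
  obtain ⟨hfin, hcard⟩ := card_closure_three R.hw (guRels_of_rels R)
  have h := card_le R (Subgroup.closure ({e, w, x} : Set G)) (Subgroup.subset_closure (by simp))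
    (Subgroup.subset_closure (by simp)) (Subgroup.subset_closure (by simp)) hc
  exact ⟨h.1, h.2.trans (by omega)⟩

theorem ev_prod {G' : Type*} [Group G'] (e w x d : G) (e' w' x' d' : G') (r : List ℕ) :
    ev (lt (e, e') (w, w') (x, x') (d, d')) r = (ev (lt e w x d) r, ev (lt e' w' x' d') r) := by
  induction r with
  | nil => rfl
  | cons a r ih =>
    rw [ev_cons, ih, ev_cons, ev_cons]
    rcases a with _ | _ | _ | _ | _ | _ | _ | n <;> rfl

/-- The group generated by elements satisfying the relations is trivial or `SU₃(3)`. -/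
theorem closure_iso {e w x d : G} (R : Rels e w x d) (hc : Commute (q0 e w x d) (e * x * e⁻¹)) (hne : e ≠ 1) :
    Nonempty (Subgroup.closure ({e, w, x, d} : Set G) ≃* Cfsg.SU 3 K9 3) := by
  let K := Cfsg.SU 3 K9 3
  let P : Subgroup (G × K) := Subgroup.closure {(e, gE.su), (w, gW.su), (x, gX.su), (d, gD.su)}
  have RP : Rels (e, gE.su) (w, gW.su) (x, gX.su) (d, gD.su) := by
    refine ⟨?_, ?_⟩
    · rw [Prod.mk_mul_mk, R.hw, rels_SU.hw]; rfl
    · intro r hr
      rw [ev_prod, R.base r hr, rels_SU.base r hr]; rfl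
  have hcP : Commute (q0 (e, gE.su) (w, gW.su) (x, gX.su) (d, gD.su))
      ((e, gE.su) * (x, gX.su) * (e, gE.su)⁻¹) := by
    have h1 : q0 (e, gE.su) (w, gW.su) (x, gX.su) (d, gD.su) =
        (q0 e w x d, q0 gE.su gW.su gX.su gD.su) := ev_prod _ _ _ _ _ _ _ _ _
    rw [h1]
    exact Prod.ext hc commute_SU
  obtain ⟨hfin, hcard⟩ := card_closure_four RP hcP
  change Finite P at hfin
  change Nat.card P ≤ 6048 at hcard
  let p2 : P →* K := (MonoidHom.snd G K).comp P.subtype
  have hp2 : Function.Surjective p2 := by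
    rw [← MonoidHom.range_eq_top, eq_top_iff, ← closure_SU, Subgroup.closure_le]
    rintro y (rfl | rfl | rfl | rfl)
    · exact ⟨⟨(e, gE.su), Subgroup.subset_closure (by simp)⟩, rfl⟩
    · exact ⟨⟨(w, gW.su), Subgroup.subset_closure (by simp)⟩, rfl⟩
    · exact ⟨⟨(x, gX.su), Subgroup.subset_closure (by simp)⟩, rfl⟩
    · exact ⟨⟨(d, gD.su), Subgroup.subset_closure (by simp)⟩, rfl⟩
  have hb : Function.Bijective p2 := by
    rw [Nat.bijective_iff_surjective_and_card]
    refine ⟨hp2, ?_⟩
    have h1 := Nat.card_le_card_of_surjective p2 hp2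
    have h2 : Nat.card K = 6048 := card_SU
    omega
  let f : P ≃* K := MulEquiv.ofBijective p2 hb
  have hsP : IsSimpleGroup P := f.isSimpleGroup
  let C := Subgroup.closure ({e, w, x, d} : Set G)
  have hle : P.map (MonoidHom.fst G K) ≤ C := by
    rw [Subgroup.map_le_iff_le_comap, Subgroup.closure_le]
    rintro y (rfl | rfl | rfl | rfl) <;> exact Subgroup.subset_closure (by simp)
  let p1 : P →* C := ((MonoidHom.fst G K).comp P.subtype).codRestrict C
    (fun y => hle ⟨y.1, y.2, rfl⟩)
  have hp1 : Function.Surjective p1 := by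
    have hr : C ≤ P.map (MonoidHom.fst G K) := by
      rw [Subgroup.closure_le]
      rintro y (rfl | rfl | rfl | rfl)
      · exact ⟨(y, gE.su), Subgroup.subset_closure (by simp), rfl⟩
      · exact ⟨(y, gW.su), Subgroup.subset_closure (by simp), rfl⟩
      · exact ⟨(y, gX.su), Subgroup.subset_closure (by simp), rfl⟩
      · exact ⟨(y, gD.su), Subgroup.subset_closure (by simp), rfl⟩
    rintro ⟨y, hy⟩
    obtain ⟨z, hz, hzy⟩ := hr hy
    exact ⟨⟨z, hz⟩, Subtype.ext hzy⟩
  have hi1 : Function.Injective p1 := by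
    rw [← MonoidHom.ker_eq_bot_iff]
    rcases (MonoidHom.normal_ker p1).eq_bot_or_eq_top with h | h
    · exact h
    · exfalso
      apply hne
      have h1 : (⟨(e, gE.su), Subgroup.subset_closure (by simp)⟩ : P) ∈ p1.ker := by
        rw [h]; exact Subgroup.mem_top _
      exact congrArg Subtype.val (MonoidHom.mem_ker.1 h1)
  exact ⟨(MulEquiv.ofBijective p1 ⟨hi1, hp1⟩).symm.trans f⟩

end pres

/-! ### Transfer to an arbitrary field with nine elements -/

section field

open Matrix

variable {F K : Type*} [Field F] [Field K]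

theorem glMap_mem {n q : ℕ} (e : F ≃+* K) {A : Matrix.GeneralLinearGroup (Fin n) F} (hA : A ∈ Cfsg.GU n F q) :
    Matrix.GeneralLinearGroup.map (e : F →+* K) A ∈ Cfsg.GU n K q := by
  rw [LieClassical.GUOrder.mem_GU_iff] at hA ⊢
  have key : ∀ u : Fin n → F,
      (Matrix.GeneralLinearGroup.map (e : F →+* K) A : Matrix (Fin n) (Fin n) K) *ᵥ (fun i => e (u i)) =
        fun i => e (((A : Matrix (Fin n) (Fin n) F) *ᵥ u) i) := by
    intro u
    ext i
    simp [Matrix.mulVec, dotProduct, Matrix.GeneralLinearGroup.map]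
  intro u v
  have hu : u = fun i => e ((fun i => e.symm (u i)) i) := by ext i; simp
  have hv : v = fun i => e ((fun i => e.symm (v i)) i) := by ext i; simp
  rw [hu, hv, key, key, LieClassical.FieldTransfer.hermForm_map, LieClassical.FieldTransfer.hermForm_map, hA]

/-- `GU n F q ≃* GU n K q` along `F ≃+* K`. -/
def guCongr (n q : ℕ) (e : F ≃+* K) : Cfsg.GU n F q ≃* Cfsg.GU n K q where
  toFun A := ⟨Matrix.GeneralLinearGroup.map (e : F →+* K) A.1, glMap_mem e A.2⟩
  invFun A := ⟨Matrix.GeneralLinearGroup.map (e.symm : K →+* F) A.1, glMap_mem e.symm A.2⟩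
  left_inv := by
    intro A
    apply Subtype.ext
    apply Units.ext
    ext i j
    simp [Matrix.GeneralLinearGroup.map]
  right_inv := by
    intro A
    apply Subtype.ext
    apply Units.ext
    ext i j
    simp [Matrix.GeneralLinearGroup.map]
  map_mul' := by
    intro A B
    apply Subtype.ext
    simp

end field

/-! ### The main theorem -/

section main

variable {G : Type*} [Group G]

/-- the number of conjugates of `t` -/
theorem ncard_conj [Finite G] (t : G) :
    {x : G | IsConj t x}.ncard = (Subgroup.centralizer ({t} : Set G)).index := by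
  have h1 : (MulAction.stabilizer (ConjAct G) t).index = (MulAction.orbit (ConjAct G) t).ncard :=
    MulAction.index_stabilizer _ _
  have h2 : MulAction.orbit (ConjAct G) t = {x : G | IsConj t x} := by
    ext x
    rw [ConjAct.mem_orbit_conjAct, Set.mem_ofPred_eq]
    exact ⟨IsConj.symm, IsConj.symm⟩
  rw [← h2, ← h1, ConjAct.stabilizer_eq_centralizer]
  rfl

/-- `q0` is a conjugate of `t`. -/
theorem q0_eq {t e w x d : G} (F : Frame t e w x) :
    q0 e w x d = (d * x * d⁻¹ * x * d)⁻¹ * t * (d * x * d⁻¹ * x * d) := by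
  have ht : t = (e * w * e * w) * (e * w * e * w) := by
    rw [F.ht]
    have h1 : e ^ 2 * (w * e * w) ^ 2 = (e * (w * e * w)) ^ 2 := by
      have c : Commute e (w * e * w) := F.ef
      rw [c.mul_pow]
    rw [h1, pow_two]
    group
  rw [ht]
  simp only [q0, q0w, ev, List.map_cons, List.map_nil, List.prod_cons, List.prod_nil, lt, mul_one]
  group

/-- `q0` commutes with an element of prime order of `C(t)`. -/
theorem exists_commute [Finite G] {t e w x d : G} (F : Frame t e w x) (A : Act e w d)
    (hcard : Nat.card (Subgroup.centralizer ({t} : Set G)) = 96)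
    (hidx : (Subgroup.centralizer ({t} : Set G)).index ≤ 99) :
    ∃ y ∈ Subgroup.centralizer ({t} : Set G), y ≠ 1 ∧ (y * y = 1 ∨ y * y * y = 1) ∧
      Commute (q0 e w x d) y := by
  classical
  set C := Subgroup.centralizer ({t} : Set G) with hC
  set q := q0 e w x d with hq
  by_contra hcon
  -- the intersection of the centralizers is trivial
  have htriv : ∀ y ∈ C, Commute q y → y = 1 := by
    intro y hy hc
    by_contra hy1
    apply hcon
    obtain ⟨p, hp, hpo⟩ := Nat.exists_prime_and_dvd (fun h => hy1 (orderOf_eq_one_iff.1 h))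
    obtain ⟨k, hk⟩ := hpo
    have hk0 : k ≠ 0 := by
      rintro rfl
      rw [mul_zero] at hk
      exact (orderOf_pos y).ne' hk
    have hord : orderOf (y ^ k) = p := by
      rw [orderOf_pow_of_dvd hk0 ⟨p, by rw [hk, mul_comm]⟩, hk, Nat.mul_div_cancel _ (Nat.pos_of_ne_zero hk0)]
    have hmem : y ^ k ∈ C := C.pow_mem hy k
    have hdvd : p ∣ 96 := by
      rw [← hcard, ← hord]
      exact Subgroup.orderOf_dvd_natCard C hmem
    have hp23 : p = 2 ∨ p = 3 := by
      have h1 : p ∣ 2 ^ 5 * 3 := by rw [show 2 ^ 5 * 3 = 96 by norm_num]; exact hdvd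
      rcases (Nat.Prime.dvd_mul hp).1 h1 with h2 | h2
      · left; exact (Nat.prime_dvd_prime_iff_eq hp Nat.prime_two).1 (hp.dvd_of_dvd_pow h2)
      · right; exact (Nat.prime_dvd_prime_iff_eq hp Nat.prime_three).1 h2
    refine ⟨y ^ k, hmem, ?_, ?_, hc.pow_right k⟩
    · intro h
      rw [h, orderOf_one] at hord
      exact hp.one_lt.ne hord
    · have h1 := pow_orderOf_eq_one (y ^ k)
      rw [hord] at h1
      rcases hp23 with rfl | rfl
      · left; rwa [pow_two] at h1
      · right; rwa [pow_succ, pow_two] at h1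
  have hconjq : ∃ g, q = g⁻¹ * t * g := ⟨_, q0_eq F⟩
  obtain ⟨g, hg⟩ := hconjq
  have hCt : ∀ c ∈ C, c * t = t * c := fun c hc => (Subgroup.mem_centralizer_singleton_iff).1 hc
  -- the 96 conjugates
  let S1 : Set G := (fun c => c⁻¹ * q * c) '' (C : Set G)
  have hS1 : S1.ncard = 96 := by
    rw [Set.InjOn.ncard_image]
    · rw [← hcard]; rfl
    · intro a ha b hb hab
      have hab : a⁻¹ * q * a = b⁻¹ * q * b := hab
      have h1 : Commute q (a * b⁻¹) := by
        change q * (a * b⁻¹) = a * b⁻¹ * q
        calc q * (a * b⁻¹) = a * (a⁻¹ * q * a) * b⁻¹ := by group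
          _ = a * (b⁻¹ * q * b) * b⁻¹ := by rw [hab]
          _ = a * b⁻¹ * q := by group
      have h2 := htriv _ (C.mul_mem ha (C.inv_mem hb)) h1
      exact mul_inv_eq_one.1 h2
  -- four involutions in `C`
  let S2 : Set G := {t, (w * e * w) ^ 2, e ^ 2, w}
  have hS2C : ∀ y ∈ S2, y ∈ C := by
    rintro y (rfl | rfl | rfl | rfl)
    · rw [hC, Subgroup.mem_centralizer_singleton_iff]
    · exact C.pow_mem F.f_mem 2
    · exact C.pow_mem F.e_mem 2
    · exact F.w_mem
  have he2 : e ^ 2 ≠ 1 := by
    intro h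
    have := F.indep 2 0 (by rw [h, pow_zero, one_mul])
    omega
  have hf2 : (w * e * w) ^ 2 ≠ 1 := by
    intro h
    have := F.indep 0 2 (by rw [h, pow_zero, one_mul])
    omega
  have hft : (w * e * w) ^ 2 ≠ t := by
    intro h
    rw [F.ht] at h
    apply he2
    have h1 : e ^ 2 * (w * e * w) ^ 2 = 1 * (w * e * w) ^ 2 := by rw [one_mul]; exact h.symm
    exact mul_right_cancel h1
  have het : e ^ 2 ≠ t := by
    intro h
    rw [F.ht] at h
    apply hf2
    have h1 : e ^ 2 * (w * e * w) ^ 2 = e ^ 2 * 1 := by rw [mul_one]; exact h.symm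
    exact mul_left_cancel h1
  have hef : e ^ 2 ≠ (w * e * w) ^ 2 := by
    intro h
    apply F.t_ne
    rw [F.ht, ← h, ← pow_add]
    exact F.e4
  have hwf : ∀ k l : ℕ, w ≠ e ^ k * (w * e * w) ^ l := by
    intro k l h
    have h1 : Commute w e := by
      have c : Commute e (w * e * w) := F.ef
      rw [h]
      exact ((Commute.refl e).pow_left k).mul_left (c.symm.pow_left l)
    have h2 : w * e * w = e := by
      rw [h1.eq, mul_assoc, F.hw, mul_one]
    have h3 := F.indep 1 3 (by rw [h2, pow_one, ← pow_succ']; exact F.e4)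
    omega
  have hwt : w ≠ t := by rw [F.ht]; exact hwf 2 2
  have hwf2 : w ≠ (w * e * w) ^ 2 := by
    have := hwf 0 2
    rwa [pow_zero, one_mul] at this
  have hwe2 : w ≠ e ^ 2 := by
    have := hwf 2 0
    rwa [pow_zero, mul_one] at this
  have hw1 : w ≠ 1 := by
    have := hwf 0 0
    rwa [pow_zero, pow_zero, mul_one] at this
  have hS2 : S2.ncard = 4 := by
    have h1 : S2 = (({t, (w * e * w) ^ 2, e ^ 2, w} : Finset G) : Set G) := by
      simp [S2]
    rw [h1, Set.ncard_coe_finset]
    rw [Finset.card_insert_of_notMem, Finset.card_insert_of_notMem, Finset.card_insert_of_notMem,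
      Finset.card_singleton]
    · simp only [Finset.mem_singleton]; exact hwe2.symm
    · simp only [Finset.mem_insert, Finset.mem_singleton, not_or]
      exact ⟨hef.symm, hwf2.symm⟩
    · simp only [Finset.mem_insert, Finset.mem_singleton, not_or]
      exact ⟨hft.symm, het.symm, hwt.symm⟩
  have hdisj : Disjoint S1 S2 := by
    rw [Set.disjoint_left]
    rintro y ⟨c, hc, rfl⟩ hy
    have hy := hS2C _ hy
    have h1 : (c⁻¹ * q * c) * t = t * (c⁻¹ * q * c) := hCt _ hy
    have h2 : q * t = t * q := by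
      have h3 := hCt c hc
      have h4 : t * c⁻¹ = c⁻¹ * t := by
        have := hCt _ (C.inv_mem hc)
        exact this.symm
      calc q * t = c * ((c⁻¹ * q * c) * (c⁻¹ * t)) := by group
        _ = c * ((c⁻¹ * q * c) * (t * c⁻¹)) := by rw [h4]
        _ = c * ((c⁻¹ * q * c) * t) * c⁻¹ := by group
        _ = c * (t * (c⁻¹ * q * c)) * c⁻¹ := by rw [h1]
        _ = (c * t) * c⁻¹ * q := by group
        _ = (t * c) * c⁻¹ * q := by rw [h3]
        _ = t * q := by group
    have htC : t ∈ C := by rw [hC, Subgroup.mem_centralizer_singleton_iff]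
    exact F.t_ne (htriv t htC h2)
  have hcf : IsConj t ((w * e * w) ^ 2) := by
    rw [isConj_iff]
    refine ⟨d⁻¹, ?_⟩
    have := A.ct F
    rw [cj_apply] at this
    rw [inv_inv]; exact this
  have hsub : S1 ∪ S2 ⊆ {z : G | IsConj t z} := by
    rintro y (⟨c, hc, rfl⟩ | hy)
    · change IsConj t (c⁻¹ * q * c)
      rw [isConj_iff]
      refine ⟨c⁻¹ * g⁻¹, ?_⟩
      rw [hg]; group
    · change IsConj t y
      rcases hy with rfl | rfl | rfl | rfl
      · exact IsConj.refl _
      · exact hcf
      · refine hcf.trans ?_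
        rw [isConj_iff]
        refine ⟨d⁻¹, ?_⟩
        have := A.f2 F
        rw [cj_apply] at this
        rw [inv_inv]; exact this
      · obtain ⟨c, -, hc⟩ := F.invol y F.w_mem F.hw hw1 hwt
        refine hcf.trans ?_
        rw [isConj_iff]
        refine ⟨c, ?_⟩
        rw [← hc]; group
  have hle := Set.ncard_le_ncard hsub (Set.toFinite _)
  rw [Set.ncard_union_eq hdisj (Set.toFinite _) (Set.toFinite _), hS1, hS2, ncard_conj, ← hC] at hle
  omega

/-- The final step, for one labelling. -/
theorem finish [Finite G] {t e w x d : G} (F : Frame t e w x) (A : Act e w d) (hd : w * d * w * d = 1)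
    (hcard : Nat.card (Subgroup.centralizer ({t} : Set G)) = 96)
    (hidx : (Subgroup.centralizer ({t} : Set G)).index ≤ 99) : Nonempty (G ≃* Cfsg.SU 3 K9 3) := by
  have R := Rels.of_frame F A hd
  have hdC : d ∉ Subgroup.centralizer ({t} : Set G) := by
    intro h
    have h1 := A.ct F
    rw [mem_centralizer_iff_cj.1 h, F.ht] at h1
    have h2 : e ^ 2 = 1 := by
      have h3 : e ^ 2 * (w * e * w) ^ 2 = 1 * (w * e * w) ^ 2 := by rw [one_mul]; exact h1
      exact mul_right_cancel h3
    have := F.indep 2 0 (by rw [h2, pow_zero, one_mul])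
    omega
  have hcol : ∀ y : List ℕ, (y ∈ invWords ∨ y ∈ [[3], [1, 3, 0], [1, 1, 3, 0, 0]]) →
      ¬ Commute (q0 e w x d) (ev (lt e w x d) y) := fun y hy hc =>
    hdC (collapse R _ F.e_mem F.w_mem F.x_mem y hy hc)
  obtain ⟨y, hy, hy1, hord, hc⟩ := exists_commute F A hcard hidx
  have hgood : Commute (q0 e w x d) (e * x * e⁻¹) := by
    rcases F.prime y hy hy1 hord with ⟨r, hr, rfl⟩ | ⟨r, hr, hyr⟩
    · exfalso
      refine hcol r (Or.inl hr) ?_
      rwa [ev_congr (d' := 1) r]
      simp only [invWords, List.mem_cons, List.not_mem_nil, or_false] at hr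
      rcases hr with rfl | rfl | rfl | rfl | rfl | rfl | rfl <;> decide
    · have hc' : Commute (q0 e w x d) (ev (lt e w x d) r) := by
        rw [ev_congr (d' := 1) r]
        · rcases hyr with rfl | rfl
          · exact hc
          · exact (Commute.inv_right_iff).1 hc
        · simp only [threeWords, List.mem_cons, List.not_mem_nil, or_false] at hr
          rcases hr with rfl | rfl | rfl | rfl <;> decide
      simp only [threeWords, List.mem_cons, List.not_mem_nil, or_false] at hr
      rcases hr with rfl | rfl | rfl | rfl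
      · exact absurd hc' (hcol _ (Or.inr (by simp)))
      · exact absurd hc' (hcol _ (Or.inr (by simp)))
      · have h1 : ev (lt e w x d) [0, 3, 1] = e * x * e⁻¹ := by simp [ev, lt, mul_assoc]
        rwa [h1] at hc'
      · exact absurd hc' (hcol _ (Or.inr (by simp)))
  have he1 : e ≠ 1 := by
    intro h
    have := F.indep 1 0 (by rw [h, pow_zero, one_pow, one_mul])
    omega
  obtain ⟨f⟩ := closure_iso R hgood he1
  have hcl : Nat.card (Subgroup.closure ({e, w, x, d} : Set G)) = 6048 := by
    rw [Nat.card_congr f.toEquiv, card_SU]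
  have htop : Subgroup.closure ({e, w, x, d} : Set G) = ⊤ := by
    have h1 := Subgroup.card_mul_index (Subgroup.closure ({e, w, x, d} : Set G))
    have h2 := Subgroup.card_mul_index (Subgroup.centralizer ({t} : Set G))
    rw [hcl] at h1
    rw [hcard] at h2
    have h3 : 6048 * (Subgroup.closure ({e, w, x, d} : Set G)).index < 6048 * 2 := by
      rw [h1, ← h2]; omega
    have h4 : (Subgroup.closure ({e, w, x, d} : Set G)).index ≠ 0 := Subgroup.index_ne_zero_of_finite
    rw [← Subgroup.index_eq_one]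
    omega
  exact ⟨(Subgroup.topEquiv.symm.trans (MulEquiv.subgroupCongr htop.symm)).trans f⟩

/-- **Identification of `PSU₃(3)`**: `C_G(t) = GU₂(3)`, `t` conjugate to another involution of `C_G(t)`,
`|G : C_G(t)| ≤ 99`. -/
theorem nonempty_mulEquiv_PSU [Finite G] {F : Type*} [Field F] [Fintype F] (hF : Fintype.card F = 9) {t : G}
    (ht : orderOf t = 2) (hC : Nonempty (Subgroup.centralizer ({t} : Set G) ≃* Cfsg.GU 2 F 3))
    (hidx : (Subgroup.centralizer ({t} : Set G)).index ≤ 99)
    (hfus : ∃ g : G, g⁻¹ * t * g ∈ Subgroup.centralizer ({t} : Set G) ∧ g⁻¹ * t * g ≠ t) :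
    Nonempty (G ≃* Cfsg.PSU 3 F 3) := by
  have hcardF : Fintype.card F = Fintype.card K9 := by rw [hF, card_k9]
  let e0 : F ≃+* K9 := FiniteField.ringEquivOfCardEq hcardF
  obtain ⟨φ⟩ := hC
  have hcard : Nat.card (Subgroup.centralizer ({t} : Set G)) = 96 := by
    rw [Nat.card_congr φ.toEquiv]
    exact Cfsg.Agent.TwoFusion.GUTwo.card_GU2 (q := 3) (by rw [hF]; norm_num)
  obtain ⟨e, w, x, F1, F2⟩ := USixModel.exists_frames ht (φ.trans (guCongr 2 3 e0))
  obtain ⟨g, hg1, hg2⟩ := hfus
  have hmain : Nonempty (G ≃* Cfsg.SU 3 K9 3) := by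
    rcases F1.exists_act F2 hg1 hg2 g rfl with ⟨d, A, hd⟩ | ⟨d, A, hd⟩
    · exact finish F1 A hd hcard hidx
    · exact finish F2 A hd hcard hidx
  obtain ⟨f⟩ := hmain
  exact ⟨f.trans ((LieClassical.FieldTransfer.suCongr 3 3 e0).symm.trans (psuEquiv hF).symm)⟩

end main

end Cfsg.Agent.Classification.RTwo.USix
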